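/-
Project SGJ4.  Basic facts on the model 3 M22 : 2.
-/
import Cfsg.Agent.SGJ4.Elts
import Cfsg.Agent.SGJ4.XA
import Cfsg.Agent.H14.Search
import Cfsg.Agent.S2062

set_option autoImplicit false

namespace Cfsg.Agent.SGJ4

open Subgroup AG
open scoped Pointwise
open Cfsg.Agent.H14

theorem om_om (v : Vb) : om.m (om.m v) = v + om.m v := X49.om_om v
theorem orderOf_om : orderOf om = 3 :=
  haveI : Fact (Nat.Prime 3) := ⟨by decide⟩
  orderOf_eq_prime (by rw [pow_succ, sq, X49.om_cube]) X49.om_ne_one
theorem om_p : om.p = 1 := X49.om_p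
theorem p_mem_M22x : ∀ a ∈ Hb, a.p ∈ M22x := fun _ => X49.p_mem
theorem exists_lift : ∀ g ∈ M22x, ∃ a ∈ X, a.p = g := X49.exists_lift
theorem ker_X : ∀ a ∈ X, a.p = 1 → a = 1 ∨ a = om ∨ a = om * om := fun _ => X49.ker_X

theorem M22_le_M22x : Spor.M22 ≤ M22x := fun _ h =>
  X49.mem_M22x.2 ⟨(X49.mem_M22.1 h).1, Or.inl (X49.mem_M22.1 h).2⟩

theorem mem_M22_iff {g : Equiv.Perm GolayPt} (hg : g ∈ M22x) : g ∈ Spor.M22 ↔ g none = none := by
  obtain ⟨a, ha, rfl⟩ := exists_lift g hg
  exact (X49.inner_iff (X_le_Hb ha)).symm

namespace X49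

/-- a subgroup of `M22x` with a member outside M22 has twice the order of its part in M22 -/
theorem card_eq_two_mul {K : Subgroup (Equiv.Perm GolayPt)} (hK : K ≤ M22x)
    {y : Equiv.Perm GolayPt} (hy : y ∈ K) (h : y none ≠ none) :
    Nat.card K = 2 * Nat.card ↥(K ⊓ Spor.M22) := by
  have h1 : {a | ∃ g ∈ K, g • (none : GolayPt) = a} = {none, some 0} := by
    ext a
    constructor
    · rintro ⟨g, hg, rfl⟩
      rcases (mem_M22x.1 (hK hg)).2 with e | e
      exacts [Or.inl e.1, Or.inr e.1]
    · rintro (rfl | rfl)
      exacts [⟨1, K.one_mem, rfl⟩,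
        ⟨y, hy, ((mem_M22x.1 (hK hy)).2.resolve_left fun e => h e.1).1⟩]
  have h2 : K ⊓ MulAction.stabilizer (Equiv.Perm GolayPt) (none : GolayPt) = K ⊓ Spor.M22 :=
    Subgroup.ext fun g => and_congr_right fun hg => (mem_M22_iff (hK hg)).symm
  rw [card_eq_orbit_mul K (none : GolayPt), h1, h2, Set.ncard_pair (by simp)]

theorem eq_one_of_cent {g : Equiv.Perm GolayPt} (hg : g ∈ M24)
    (h : ∀ x ∈ Spor.M22, g * x = x * g) : g = 1 := by
  have k := m24_chain.forall_of_allI (GE.fixes_zero _) (cs := m22Gens.map fun P => (P, P))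
    (ds := []) (f := fun P => Nat.beq P pone) (by decide +kernel) g hg ⟨fun c hc => by
      obtain ⟨P, hP, rfl⟩ := List.mem_map.1 hc
      exact h _ (inG_m22Gens P hP).perm_mem, by simp⟩
  exact GE.pk_injective (by rw [pk_one']; exact beq_iff.1 k)

theorem conj_mem_M22 {g x : Equiv.Perm GolayPt} (hg : g ∈ M22x) (hx : x ∈ Spor.M22) :
    g * x * g⁻¹ ∈ Spor.M22 := by
  obtain ⟨a, ha, rfl⟩ := exists_lift g hg
  obtain ⟨b, hb, rfl⟩ := exists_lift x (M22_le_M22x hx)
  have h1 := X_le_Hb ha
  have h2 := X_le_Hb hb
  exact (inner_iff (Hb.mul_mem (Hb.mul_mem h1 h2) (Hb.inv_mem h1))).1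
    ((inner_conj h1 h2).2 ((inner_iff h2).2 hx))

theorem map_pr_X : X.map pr = M22x :=
  le_antisymm (by rintro _ ⟨a, ha, rfl⟩; exact p_mem_X a ha) exists_lift

theorem ker_inf_X : pr.ker ⊓ X = zpowers om := by
  refine le_antisymm (fun a ha => ?_) (zpowers_le.2 ⟨om_p, om_mem⟩)
  obtain ⟨k, -, rfl⟩ := ker_pow ha.2 ha.1
  exact npow_mem_zpowers om k

/-- four bits per vector: the distance to the representative of the orbit -/
def RK : ℕ := nat_lit 0x88785a996897a8756a8a8a77a996a466898797999b95958778a64686688757585aa799b6a5687667a86675688567767599777668a8868899767687758768686a887a89759a87958885a87676648678569966876728678669577978687769398986a6776786786647a6787879767677b995686849677776a879895a6966889a75799786a679a7a777a9768467779875767878948687778577b766888a665a9399a98674689478886a9677342a78786797a567877b78863888865839898ba8a89887977598a677575ab488777a578967a89476457678636979678738988869798576678878898877888759687858699896667775976aa786977b9887968897a66779699586ab786657a856c6688577986798a6677785676856a478775a768669898ba6676758675767a488987a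766859a977877677776a678a66576569589979958877a587975878668757786787697b49a757579b77598578675b67995957a9948569776a59893a7957645487839989a6777979897a79978777689878998796789a57a77676786888476668875778576987877687587979a686588a8868699a969768886677574aa7785a6969698aa8a5677a68878558489785a9ba866996977785867849877879596775599778a79897899448b898aaab968b88689868779788566a869756a8889675899897c797978849787897699585789696966877687892689a89858986887878897a76889598787a85a8b79a84a46799a65686859758698a9998b6a8768678965867688679767477666467a67787797876866767475a796899a885676776789998857768787775bb678565686786698768877667497a89a6a6856774677557a586685a7876589987777838487857a87789698984a979876a9887869ba7a577ab86768758588768968795768687576796876779857996ba977584767478796a958874697787498ab687876976775768776658776b6899a798a66588a58548799687675a6878598a85568549697669777877799a87776b8676577978864a7778887967685979b9a8766976ba6b9aa99759997887889997778996978999b536889685b5579677686977968677746777358757776a676778889a96867658668876a866976a788789b877685868675a77688759748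9699a59a7878796679778775778677888776a6a788656587b675884aa787777796768a8a79667666a778a786767654798968788a778685a889a59a9a8787889a8aa9776888767a6777668789967775876886b869987778787876a87a977598a89575987976777786888946a79779a685a7879888877795b787689789893b89aa999a9a6778668784888974b7987785a7778a889886685359a89979a978ac9769849a69977766977ba468888985668a8a7aa77a7677a7b779777989788ab878888a7877893777869ab8998aa678a678a989a7484866aa8a9799996a77879966568679678895a69a8a29787a785a9677678958777579a97744987959868683777788857696a7a779a95897786679997958566885977857689968577887a787778858538389ba9888769a7458888838977678878797898555969778768a877694a7a6798a8a8698889987886916887688646668857759886a77689667857a567787958796769aa958686868458789877786a868477887476784a58797a99859757797898a9979aa28568878876498879776976594897744888787885998956866a9879897a8876678847787958aa683a587a7a69aa74775767a85a9a8a97798789757978878889a9779788867557b9759656876886699a9378839877676895588649986978aaa886846686667898658768778876589988778689483875a996596788899b8996a988832886765876877777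6867878888b667758978695589578a88a9588a99a68368885a87795a985876668977a99ab86778588a898998a5878998886896a8799a5887666677897984848779682974899756778865888788874879697a8999a777496767888748877867896a6a9a9aa74777699967778a88789978968a959788a687786a55877a5887674989799889787978689888a989a8887a88a77a979689788968997867a996799999a7999797796a8a989698a7858aa8978568986879a1156161535257677844554687364758676236373a55793aa84358688779aaaa7673454567376668886669678938879a9745698a9859997b8478886758b89494745346466a244a6748475a5a8579a999885678579a7957a99259a9759746858466365a7886589798886678bb96768585234989a98667689855a9a563747855643754365768554967a9465a888978aa52a566646978767876783a99689277859875455a78685978aa95587499869b867745788897948886876496579865a4456636466886aa5a779b653998798688a697547763a886886876859a9696555753755687ac128796a58665aa7487769774653788a897659435444776546545622647426224355843587866378a29a84898aab646687499797985976977899589778555461a5a8989766568588ba8a3aa667455769777967886764457a6886496456627578568894a9a88367587797788938346198797b28587876599856745786555477877888587a28675447797469755644788387673a4766518946455375536374335684987399899a678558868787677653978a7688a94b455788793758654533676999a9768a77446a873656494567455789283535755762796744537544836626967989796949466688885517846243779989857946455469344762775274853a884755597425427978655374547483475666358775817456647065308544400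

def rk (v : ℕ) : ℕ := Nat.land (Nat.shiftRight RK (Nat.mul (nat_lit 4) v)) (nat_lit 15)

theorem exists_rep (v : Vb) : ∃ a ∈ X, Inner a ∧ (a.m v).val ∈ [0, 7, 11, 1] := by
  have h : force (cA ca) (fun A => force (cA cd5) fun D => force (cA cs) fun S =>
      all2 64 64 fun n => force (rk n) fun r => Nat.blt (rk (ap A n)) r || Nat.blt (rk (ap D n)) r ||
        Nat.blt (rk (ap S n)) r || Nat.blt (rk (ap OM n)) r ||
        anyL [0, 7, 11, 1] (Nat.beq n)) = true := by decide +kernel
  simp only [force_eq, all2_iff, Bool.or_eq_true, Nat.blt_eq, anyL_iff, beq_iff,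
    exists_eq_right'] at h
  have g : ∀ c ∈ [ca, cd5, cs, cw3], ∃ a ∈ X, Inner a ∧ cd a = c := fun c hc => by
    have k : c ∈ xG ∧ papp (cP c) 23 = 23 := by revert c; decide +kernel
    obtain ⟨a, ha, rfl⟩ := inS_xG c k.1
    exact ⟨a, ha, inner_cd.2 k.2, rfl⟩
  induction hr : rk v.val using Nat.strong_induction_on generalizing v with
  | _ r ih =>
    have step : ∀ c ∈ [ca, cd5, cs, cw3], rk (ap (cA c) v.val) < rk v.val →
        ∃ a ∈ X, Inner a ∧ (a.m v).val ∈ [0, 7, 11, 1] := fun c hc hl => by
      obtain ⟨b, hb, hi, rfl⟩ := g c hc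
      obtain ⟨a, ha, hj, e⟩ := ih _ (hr ▸ hl) (b.m v) (by rw [val_m])
      exact ⟨a * b, X.mul_mem ha hb, (inner_mul (X_le_Hb ha) (X_le_Hb hb)).2 (iff_of_true hj hi), e⟩
    rcases h _ v.lt with (((e | e) | e) | e) | e
    · exact step ca (by simp) e
    · exact step cd5 (by simp) e
    · exact step cs (by simp) e
    · exact step cw3 (by simp) (by rwa [show cA cw3 = OM by decide +kernel])
    · exact ⟨1, X.one_mem, inner_one, e⟩

end X49

theorem card_M22x : Nat.card M22x = 887040 := by
  rw [X49.card_eq_two_mul le_rfl (X49.p_mem_X _ l1_mem) X49.not_inner_l1,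
    inf_eq_right.2 M22_le_M22x, card_M22]

/-- conjugation identifies M22 : 2 with the automorphism group of M22 (uses S2062) -/
theorem exists_autM22 : ∃ f : M22x ≃* MulAut Spor.M22, ∀ (g : M22x) (x : Spor.M22),
    ((f g x : Spor.M22) : Equiv.Perm GolayPt) = g * x * (g : Equiv.Perm GolayPt)⁻¹ := by
  have hn : M22x ≤ normalizer (Spor.M22 : Set (Equiv.Perm GolayPt)) := fun g hg =>
    mem_normalizer_iff.2 fun x => ⟨X49.conj_mem_M22 hg, fun h => by
      simpa [mul_assoc] using X49.conj_mem_M22 (M22x.inv_mem hg) h⟩
  let f : M22x →* MulAut Spor.M22 := Spor.M22.normalizerMonoidHom.comp (inclusion hn)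
  have hf : ∀ (g : M22x) (x : Spor.M22), ((f g x : Spor.M22) : Equiv.Perm GolayPt) =
      g * x * (g : Equiv.Perm GolayPt)⁻¹ := fun g x => rfl
  have hi : Function.Injective f := (injective_iff_map_eq_one f).2 fun g hg =>
    Subtype.ext (X49.eq_one_of_cent g.2.1 fun x hx => by
      have := hf g ⟨x, hx⟩
      rw [hg] at this
      exact (eq_mul_inv_iff_mul_eq.1 this).symm)
  have hc : Function.Injective (MulAut.conj : Spor.M22 →* MulAut Spor.M22) :=
    (injective_iff_map_eq_one _).2 fun g hg =>
      Subtype.ext (X49.eq_one_of_cent g.2.1.1 fun x hx => by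
        have := congrArg (fun t : MulAut Spor.M22 => (t ⟨x, hx⟩ : Equiv.Perm GolayPt)) hg
        exact mul_inv_eq_iff_eq_mul.1 this)
  have h1 : Nat.card (MulAut Spor.M22) = 887040 := by
    rw [card_eq_card_quotient_mul_card_subgroup (Inn Spor.M22), S2062.result,
      ← Nat.card_congr (MonoidHom.ofInjective hc).toEquiv, card_M22]
  have : Finite (MulAut Spor.M22) := Nat.finite_of_card_ne_zero (by rw [h1]; decide)
  exact ⟨MulEquiv.ofBijective f
    ((Nat.bijective_iff_injective_and_card f).2 ⟨hi, by rw [h1, card_M22x]⟩), hf⟩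

theorem card_X : Nat.card X = 2661120 := by
  rw [X49.card_eq_map_mul pr, X49.map_pr_X, X49.ker_inf_X, card_M22x, Nat.card_zpowers, orderOf_om]

theorem card_Hb : Nat.card Hb = 10899947520 := by
  have h1 : Hb.map lin = X := le_antisymm (map_comap_le _ _) fun a ha =>
    ⟨a, X_le_Hb ha, lin_eq_self.2 (v_of_mem_X a ha)⟩
  have h2 : lin.ker ⊓ Hb = Tr := inf_eq_left.2 Tr_le_Hb
  rw [X49.card_eq_map_mul lin, h1, h2, card_X, card_Tr]

theorem inner_m {a : AG} (ha : a ∈ Hb) (h : Inner a) (v : Vb) : a.m (om.m v) = om.m (a.m v) :=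
  X49.inner_m ha h v
theorem outer_m {a : AG} (ha : a ∈ Hb) (h : ¬ Inner a) (v : Vb) :
    a.m (om.m v) = om.m (om.m (a.m v)) := X49.outer_m ha h v
theorem inner_comm {a : AG} (ha : a ∈ X) (h : Inner a) : a * om = om * a := (X49.comm_X a ha).1 h
theorem outer_comm {a : AG} (ha : a ∈ X) (h : ¬ Inner a) : a * om = om⁻¹ * a :=
  (X49.comm_X a ha).2 h
theorem inner_mul {a b : AG} (ha : a ∈ Hb) (hb : b ∈ Hb) :
    Inner (a * b) ↔ (Inner a ↔ Inner b) := X49.inner_mul ha hb

theorem orbit_ty {v w : Vb} (h : ty v.val = ty w.val) : ∃ a ∈ X, Inner a ∧ a.m v = w := by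
  obtain ⟨a, ha, hi, e1⟩ := X49.exists_rep v
  obtain ⟨b, hb, hj, e2⟩ := X49.exists_rep w
  have k : ∀ x ∈ [0, 7, 11, 1], ∀ y ∈ [0, 7, 11, 1], ty x = ty y → x = y := by decide +kernel
  have e : a.m v = b.m w := Vb.ext (k _ e1 _ e2 (by rw [ty_m_X a ha, ty_m_X b hb, h]))
  refine ⟨b⁻¹ * a, X.mul_mem (X.inv_mem hb) ha, ?_, by rw [mul_m, e, inv_m_m]⟩
  exact (inner_mul (X_le_Hb (X.inv_mem hb)) (X_le_Hb ha)).2
    (iff_of_true ((X49.inner_inv (X_le_Hb hb)).2 hj) hi)

theorem ncard_ty : {v : Vb | ty v.val = 1}.ncard = 693 ∧ {v : Vb | ty v.val = 2}.ncard = 1386 ∧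
    {v : Vb | ty v.val = 3}.ncard = 2016 :=
  ⟨(Vb.ncard_eq _ (fun n => Nat.beq (ty n) 1) fun _ => beq_iff).trans (by decide +kernel),
    (Vb.ncard_eq _ (fun n => Nat.beq (ty n) 2) fun _ => beq_iff).trans (by decide +kernel),
    (Vb.ncard_eq _ (fun n => Nat.beq (ty n) 3) fun _ => beq_iff).trans (by decide +kernel)⟩

/-- the order of a subgroup times the order of its perp is 4096 -/
theorem card_mul_card_perp (A P : AddSubgroup Vb) (h : ∀ w, w ∈ P ↔ ∀ v ∈ A, B v w = 0) :
    Nat.card A * Nat.card P = 4096 := by
  let _ : Module (ZMod 2) Vb := AddCommGroup.zmodModule fun x => by rw [two_nsmul, Vb.add_self]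
  have k : ∀ c : ZMod 2, c = 0 ∨ c = 1 := by decide
  let β : LinearMap.BilinForm (ZMod 2) Vb := LinearMap.mk₂ (ZMod 2) B B_add_left
    (fun c v w => by rcases k c with rfl | rfl <;> simp [B_zero_left]) B_add_right
    (fun c v w => by rcases k c with rfl | rfl <;> simp [B_zero_right])
  have h0 : LinearMap.ker β = ⊥ := LinearMap.ker_eq_bot'.2 fun v hv =>
    eq_zero_of_B fun w => DFunLike.congr_fun hv w
  have h1 := LinearMap.BilinForm.finrank_add_finrank_orthogonal' (B := β) (A.toZModSubmodule 2)
  have h2 : β.orthogonal (A.toZModSubmodule 2) = P.toZModSubmodule 2 :=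
    Submodule.ext fun w => (h w).symm
  rw [h0, inf_bot_eq, finrank_bot, add_zero, h2] at h1
  have h3 := Module.natCard_eq_pow_finrank (K := ZMod 2) (V := A.toZModSubmodule 2)
  have h4 := Module.natCard_eq_pow_finrank (K := ZMod 2) (V := P.toZModSubmodule 2)
  have h5 := Module.natCard_eq_pow_finrank (K := ZMod 2) (V := Vb)
  rw [← Vb.card_eq, h5, ← h1, pow_add, ← h3, ← h4]
  rfl

/-- the perp of a subgroup -/
def X49.perp (A : AddSubgroup Vb) : AddSubgroup Vb where
  carrier := {w | ∀ v ∈ A, B v w = 0}
  zero_mem' := fun v _ => B_zero_right v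
  add_mem' := fun h1 h2 v hv => by rw [B_add_right, h1 v hv, h2 v hv, add_zero]
  neg_mem' := fun h => h

/-- totally isotropic subgroups have order at most 64 -/
theorem card_le_of_isotropic (A : AddSubgroup Vb) (h : ∀ v ∈ A, ∀ w ∈ A, B v w = 0) :
    Nat.card A ≤ 64 := by
  have h1 := card_mul_card_perp A (X49.perp A) fun _ => Iff.rfl
  have h2 : Nat.card A ≤ Nat.card (X49.perp A) :=
    AddSubgroup.card_le_of_le fun w hw v hv => h v hv w hw
  nlinarith

end Cfsg.Agent.SGJ4
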