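/-
Project SGJ4.  `Setup2`: the structure `Setup` without the classification of the involutions
outside the elementary abelian subgroup of order 2^11.
-/
import Cfsg.Agent.SGJ4.Setup

set_option autoImplicit false

namespace Cfsg.Agent.SGJ4

open Subgroup AG

structure Setup2 (G : Type*) [Group G] extends Setup1 G where
  θ : Ns →* G
  θ_inj : Function.Injective θ
  θ_z : θ ⟨zN, zN_mem⟩ = z
  range_θ : θ.range = normalizer (((Vs.subgroupOf Ns).map θ : Subgroup G) : Set G)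
  compat : ∀ (n : Ns) (b : AG), ((n : AG), b) ∈ Gam → toSetup1.pi (θ n) = b
  inv_lift : ∀ g ∈ toSetup1.H, toSetup1.pi g ∈ X → toSetup1.pi g * toSetup1.pi g = 1 → g * g = 1
  typV : ∀ v (hv : v ∈ Ev), v ≠ 0 → (IsConj z (θ ⟨tr v, tr_mem_Ns.2 hv⟩) ↔ ¬ IsDuad v)
  sylow : ¬ 2 ^ 22 ∣ Nat.card G
  uniq : ∀ T A : Subgroup G, IsPGroup 2 T → (Vs.subgroupOf Ns).map θ ≤ T → A ≤ T →
    IsElementaryAbelian 2 A → Nat.card A = 2 ^ 11 → A = (Vs.subgroupOf Ns).map θ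

namespace Setup2

variable {G : Type*} [Group G] (S : Setup2 G)

/-- the map from the model as a function on `AG` (value 1 outside `Ns`) -/
noncomputable def th (a : AG) : G := by
  classical exact if h : a ∈ Ns then S.θ ⟨a, h⟩ else 1

/-- image of a subgroup of the model -/
def im (A : Subgroup AG) : Subgroup G := (A.subgroupOf Ns).map S.θ

/-- the elementary abelian subgroup of order 2^11 -/
def V : Subgroup G := S.im Vs
/-- its normaliser -/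
def N : Subgroup G := S.im Ns
/-- the second involution -/
noncomputable def t : G := S.th tN

theorem th_eq {a : AG} (h : a ∈ Ns) : S.th a = S.θ ⟨a, h⟩ := dif_pos h
theorem th_coe (a : Ns) : S.th a = S.θ a := dif_pos a.2

variable {S}

theorem th_mul {a b : AG} (ha : a ∈ Ns) (hb : b ∈ Ns) : S.th (a * b) = S.th a * S.th b := by
  rw [S.th_eq ha, S.th_eq hb, S.th_eq (mul_mem ha hb), ← map_mul]; rfl
theorem th_one : S.th 1 = 1 := by rw [S.th_eq (one_mem _)]; exact map_one S.θ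
theorem th_inv {a : AG} (ha : a ∈ Ns) : S.th a⁻¹ = (S.th a)⁻¹ := by
  rw [S.th_eq ha, S.th_eq (inv_mem ha), ← map_inv]; rfl
theorem th_pow {a : AG} (ha : a ∈ Ns) (n : ℕ) : S.th (a ^ n) = S.th a ^ n := by
  rw [S.th_eq ha, S.th_eq (pow_mem ha n), ← map_pow]; rfl
theorem th_conj {a b : AG} (ha : a ∈ Ns) (hb : b ∈ Ns) :
    S.th (a * b * a⁻¹) = S.th a * S.th b * (S.th a)⁻¹ := by
  rw [th_mul (mul_mem ha hb) (inv_mem ha), th_mul ha hb, th_inv ha]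
theorem th_inj {a b : AG} (ha : a ∈ Ns) (hb : b ∈ Ns) : S.th a = S.th b ↔ a = b := by
  rw [S.th_eq ha, S.th_eq hb, S.θ_inj.eq_iff, Subtype.mk.injEq]
theorem th_eq_one {a : AG} (ha : a ∈ Ns) : S.th a = 1 ↔ a = 1 := by
  rw [← th_inj (S := S) ha (one_mem _), th_one]
theorem orderOf_th {a : AG} (ha : a ∈ Ns) : orderOf (S.th a) = orderOf a := by
  rw [S.th_eq ha, orderOf_injective _ S.θ_inj, ← orderOf_coe]
theorem th_zN : S.th zN = S.z := by rw [S.th_eq zN_mem, S.θ_z]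

theorem mem_im {A : Subgroup AG} {g : G} : g ∈ S.im A ↔ ∃ a ∈ A, a ∈ Ns ∧ S.th a = g :=
  ⟨fun ⟨a, h1, e⟩ => ⟨a, h1, a.2, e ▸ S.th_coe a⟩,
    fun ⟨a, h1, h2, e⟩ => ⟨⟨a, h2⟩, h1, by rw [← e, S.th_eq h2]⟩⟩
theorem th_mem_im {A : Subgroup AG} {a : AG} (ha : a ∈ Ns) : S.th a ∈ S.im A ↔ a ∈ A :=
  ⟨fun h => let ⟨_, h1, h2, e⟩ := mem_im.1 h; (th_inj h2 ha).1 e ▸ h1,
    fun h => mem_im.2 ⟨a, h, ha, rfl⟩⟩
theorem im_mono {A A' : Subgroup AG} (h : A ≤ A') : S.im A ≤ S.im A' := fun _ hg =>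
  let ⟨a, h1, h2, e⟩ := mem_im.1 hg; mem_im.2 ⟨a, h h1, h2, e⟩
theorem mem_N {g : G} : g ∈ S.N ↔ ∃ a ∈ Ns, S.th a = g := by
  rw [N, mem_im]; exact ⟨fun ⟨a, h, _, e⟩ => ⟨a, h, e⟩, fun ⟨a, h, e⟩ => ⟨a, h, h, e⟩⟩
theorem im_le_N (A : Subgroup AG) : S.im A ≤ S.N := fun _ hg =>
  let ⟨a, _, h2, e⟩ := mem_im.1 hg; mem_N.2 ⟨a, h2, e⟩
theorem mem_V {g : G} : g ∈ S.V ↔ ∃ v ∈ Ev, S.th (tr v) = g := by
  rw [V, mem_im]
  exact ⟨fun ⟨_, ⟨v, hv, e⟩, _, h⟩ => ⟨v, hv, e ▸ h⟩,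
    fun ⟨v, hv, e⟩ => ⟨_, ⟨v, hv, rfl⟩, tr_mem_Ns.2 hv, e⟩⟩
theorem N_eq_range : S.N = S.θ.range := by
  rw [N, im, subgroupOf_self, MonoidHom.range_eq_map]
theorem N_eq : S.N = normalizer (S.V : Set G) := N_eq_range.trans S.range_θ

/-- the image of a subgroup of `Ns` is isomorphic to it -/
noncomputable def imEquiv {A : Subgroup AG} (h : A ≤ Ns) : A ≃* S.im A :=
  (subgroupOfEquivOfLe h).symm.trans (equivMapOfInjective _ _ S.θ_inj)

theorem card_im {A : Subgroup AG} (h : A ≤ Ns) : Nat.card (S.im A) = Nat.card A :=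
  (Nat.card_congr (imEquiv h).toEquiv).symm
theorem card_V : Nat.card S.V = 2 ^ 11 := by rw [V, card_im Vs_le_Ns, Vs, card_trS, card_Ev]; rfl

theorem th_mem_H {a : AG} (ha : a ∈ Ns) : S.th a ∈ S.H ↔ a ∈ N1 := by
  rw [S.mem_H, ← th_zN, ← th_mul ha zN_mem, ← th_mul zN_mem ha,
    th_inj (mul_mem ha zN_mem) (mul_mem zN_mem ha), N1, mem_inf, mem_centralizer_singleton_iff]
  exact (and_iff_right ha).symm
theorem pi_th {a b : AG} (ha : a ∈ Ns) (h : (a, b) ∈ Gam) : S.pi (S.th a) = b := by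
  rw [S.th_eq ha]; exact S.compat ⟨a, ha⟩ b h
theorem isConj_tr {v : Vb} (hv : v ∈ Ev) (h : v ≠ 0) : IsConj S.z (S.th (tr v)) ↔ ¬ IsDuad v := by
  rw [S.th_eq (tr_mem_Ns.2 hv)]; exact S.typV v hv h
theorem uniq' {T A : Subgroup G} (hT : IsPGroup 2 T) (h1 : S.V ≤ T) (h2 : A ≤ T)
    (h3 : IsElementaryAbelian 2 A) (h4 : Nat.card A = 2 ^ 11) : A = S.V := S.uniq T A hT h1 h2 h3 h4

end Setup2

end Cfsg.Agent.SGJ4
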