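/-
Project SGJ4.  The elements of order 5 and 7.
-/
import Cfsg.Agent.SGJ4.Order
import Cfsg.Agent.H60.J4Seven

set_option autoImplicit false

namespace Cfsg.Agent.SGJ4

open Subgroup AG
open scoped Pointwise

variable {G : Type*} [Group G] [Finite G]

theorem Setup.not_dvd_25 (S : Setup G) : ¬ 5 * 5 ∣ Nat.card G := by rw [S.card_G]; decide
theorem Setup.not_dvd_49 (S : Setup G) : ¬ 7 * 7 ∣ Nat.card G := by rw [S.card_G]; decide

theorem Setup.card_cent_five (S : Setup G) {x : G} (h : orderOf x = 5) :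
    Nat.card (centralizer ({x} : Set G)) = 6720 :=
  let ⟨_, _, _, _, k⟩ := H60.J4.five_of S S.not_dvd_25 h; k.card_cent
theorem Setup.conj_five (S : Setup G) {x y : G} (h : orderOf x = 5) (h' : orderOf y = 5) :
    IsConj x y :=
  let ⟨_, _, _, _, k⟩ := H60.J4.five_of S S.not_dvd_25 h; isConj_iff.2 (k.conj_of S.not_dvd_25 h')
theorem Setup.card_cent_seven (S : Setup G) {x : G} (h : orderOf x = 7) :
    Nat.card (centralizer ({x} : Set G)) = 840 := (H60.J4.seven_of S S.not_dvd_49 h).2.1

end Cfsg.Agent.SGJ4
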