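/-
Project SGJ4, part Eleven.  General lemmas.
-/
import Cfsg.Agent.S0215
import Cfsg.Agent.H35.PrimeOrder
import Cfsg.Agent.H88.InvGen
import Cfsg.Agent.H14.Classes

set_option autoImplicit false

namespace Cfsg.Agent.SGJ4.El

open Subgroup

variable {G : Type*} [Group G]

/-- an element of prime order acting by conjugation on a finite set -/
theorem ncard_modEq [Finite G] {p : ℕ} (hp : p.Prime) {g : G} (hg : g ^ p = 1) {T : Set G}
    (hT : ∀ s ∈ T, g * s * g⁻¹ ∈ T) :
    T.ncard ≡ {s | s ∈ T ∧ g * s = s * g}.ncard [MOD p] := by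
  classical
  haveI := Fact.mk hp
  haveI : Fintype T := Fintype.ofFinite _
  let f : Function.End T := fun s => ⟨g * s * g⁻¹, hT _ s.2⟩
  have h1 : ∀ n (s : T), ((f ^ n) s : G) = g ^ n * s * (g ^ n)⁻¹ := by
    intro n
    induction n with
    | zero => intro s; simp [Function.End.one_def]
    | succ n ih =>
      intro s
      rw [pow_succ']
      change g * ((f ^ n) s : G) * g⁻¹ = _
      rw [ih, pow_succ']; group
  have h2 : f ^ p ^ 1 = 1 := by
    funext s
    refine Subtype.ext ?_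
    rw [pow_one, h1, hg]; simp [Function.End.one_def]
  have h3 := Equiv.Perm.card_fixedPoints_modEq h2
  rw [← Nat.card_eq_fintype_card, ← Nat.card_eq_fintype_card, Nat.card_coe_set_eq,
    Nat.card_coe_set_eq] at h3
  refine h3.trans (congrArg (· % p) ?_)
  rw [← Set.ncard_image_of_injective _ Subtype.val_injective]
  congr 1
  ext s
  simp only [Set.mem_image, Set.mem_ofPred_eq]
  constructor
  · rintro ⟨a, h, rfl⟩
    exact ⟨a.2, mul_inv_eq_iff_eq_mul.1 (congrArg Subtype.val h)⟩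
  · rintro ⟨h1, h2⟩
    exact ⟨⟨s, h1⟩, Subtype.ext (mul_inv_eq_iff_eq_mul.2 h2), rfl⟩

/-- a subgroup normalised by an element of prime order that centralises only the identity -/
theorem card_modEq_one [Finite G] {p : ℕ} (hp : p.Prime) {g : G} (hg : g ^ p = 1) {A : Subgroup G}
    (hA : ∀ s ∈ A, g * s * g⁻¹ ∈ A) (h : ∀ s ∈ A, g * s = s * g → s = 1) :
    Nat.card A ≡ 1 [MOD p] := by
  have := ncard_modEq hp hg (T := A) hA
  rw [← Nat.card_coe_set_eq] at this
  refine this.trans (congrArg (· % p) ?_)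
  rw [Set.ncard_eq_one]
  exact ⟨1, Set.eq_singleton_iff_unique_mem.2 ⟨⟨A.one_mem, by simp⟩, fun s hs => h s hs.1 hs.2⟩⟩

/-- the number of fixed points of `y` in an orbit of `K` is at most the order of the centraliser -/
theorem ncard_fix_orbit_le [Finite G] {β : Type*} [MulAction G β] (K : Subgroup G) (b : β) {y : G}
    (hy : y ∈ K) : {a | (∃ g ∈ K, g • b = a) ∧ y • a = a}.ncard ≤
      Nat.card ↥(K ⊓ centralizer {y}) := by
  classical
  set F := {a | (∃ g ∈ K, g • b = a) ∧ y • a = a}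
  set S := K ⊓ MulAction.stabilizer G b
  set C := K ⊓ centralizer {y}
  have hr : ∀ a : F, ∃ g ∈ K, g • b = a := fun a => a.2.1
  choose r hrK hr using hr
  have hw : ∀ w : G, ∃ c : G, (∃ g ∈ K, g⁻¹ * y * g = w) → c ∈ K ∧ c⁻¹ * y * c = w := by
    intro w
    by_cases h : ∃ g ∈ K, g⁻¹ * y * g = w
    · obtain ⟨g, h1, h2⟩ := h; exact ⟨g, fun _ => ⟨h1, h2⟩⟩
    · exact ⟨1, fun h' => absurd h' h⟩
  choose c hc using hw
  have m1 : ∀ (a : F) (s : S), (r a * s)⁻¹ * y * (r a * s) ∈ S := fun a s => by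
    have h1 : r a * s ∈ K := K.mul_mem (hrK a) s.2.1
    have h2 : (r a * s) • b = a := by rw [mul_smul, s.2.2, hr]
    refine ⟨K.mul_mem (K.mul_mem (K.inv_mem h1) hy) h1, ?_⟩
    change _ • b = b
    rw [mul_smul, mul_smul, h2, a.2.2, inv_smul_eq_iff, h2]
  have m2 : ∀ (a : F) (s : S), r a * s * (c ((r a * s)⁻¹ * y * (r a * s)))⁻¹ ∈ C := fun a s => by
    have h1 : r a * s ∈ K := K.mul_mem (hrK a) s.2.1
    obtain ⟨h2, h3⟩ := hc _ ⟨_, h1, rfl⟩
    refine ⟨K.mul_mem h1 (K.inv_mem h2), mem_centralizer_singleton_iff.2 ?_⟩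
    generalize c ((r a * s)⁻¹ * y * (r a * s)) = d at h3 ⊢
    generalize r a * s = g at h3 ⊢
    calc g * d⁻¹ * y = g * (d⁻¹ * y * d) * d⁻¹ := by group
      _ = _ := by rw [h3]; group
  have hf : Function.Injective (fun x : F × S => ((⟨_, m2 x.1 x.2⟩, ⟨_, m1 x.1 x.2⟩) : C × S)) := by
    rintro ⟨a, s⟩ ⟨a', s'⟩ h
    simp only [Prod.mk.injEq, Subtype.mk.injEq] at h
    have h1 : r a * s = r a' * s' := by
      have := h.1
      rwa [h.2, mul_left_inj] at this
    have h2 : a = a' := Subtype.ext (by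
      rw [← hr a, ← hr a', ← s.2.2, ← mul_smul, h1, mul_smul, s.2.2, s'.2.2])
    subst h2
    rw [Subtype.ext (mul_left_cancel h1)]
  have h1 := Nat.card_le_card_of_injective _ hf
  rw [Nat.card_prod, Nat.card_prod, Nat.card_coe_set_eq] at h1
  exact Nat.le_of_mul_le_mul_right h1 Nat.card_pos

/-- two elements normalising a cyclic group commute modulo its centraliser -/
theorem comm_cent {a b w : G} (ha : a * w * a⁻¹ ∈ zpowers w) (hb : b * w * b⁻¹ ∈ zpowers w) :
    a⁻¹ * b⁻¹ * a * b * w = w * (a⁻¹ * b⁻¹ * a * b) := by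
  obtain ⟨i, hi⟩ := mem_zpowers_iff.1 ha
  obtain ⟨j, hj⟩ := mem_zpowers_iff.1 hb
  have h1 : a * (b * w * b⁻¹) * a⁻¹ = w ^ (i * j) := by
    rw [← hj, ← conj_zpow, ← hi, ← zpow_mul]
  have h2 : b * (a * w * a⁻¹) * b⁻¹ = w ^ (i * j) := by
    rw [← hi, ← conj_zpow, ← hj, ← zpow_mul, mul_comm]
  calc a⁻¹ * b⁻¹ * a * b * w = a⁻¹ * b⁻¹ * (a * (b * w * b⁻¹) * a⁻¹) * a * b := by group
    _ = a⁻¹ * b⁻¹ * (b * (a * w * a⁻¹) * b⁻¹) * a * b := by rw [h1, h2]
    _ = _ := by group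

theorem exists_invol_pow [Finite G] {g : G} (h : Even (orderOf g)) :
    ∃ k : ℕ, orderOf (g ^ k) = 2 := by
  obtain ⟨k, hk⟩ := h
  have h0 : 0 < orderOf g := orderOf_pos g
  refine ⟨k, ?_⟩
  rw [orderOf_pow, hk, ← two_mul, Nat.gcd_mul_left_left, Nat.mul_div_cancel _ (by omega)]

/-- decomposition of an element into an inverted one and a centralised one -/
theorem exists_inv_mul {z u : G} (hz : z * z = 1) {n : ℕ} (hn : Odd n)
    (h : (u * z * u⁻¹ * z) ^ n = 1) : ∃ s ∈ zpowers (u * z * u⁻¹ * z),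
      z * s * z = s⁻¹ ∧ s⁻¹ * u * z = z * (s⁻¹ * u) := by
  have h1 : u * z * u⁻¹ * (u * z * u⁻¹) = 1 := by
    calc _ = u * (z * z) * u⁻¹ := by group
      _ = 1 := by rw [hz]; group
  obtain ⟨k, hk⟩ := H88.exists_conj_of_odd h1 hz hn h
  refine ⟨(u * z * u⁻¹ * z) ^ k, pow_mem (mem_zpowers _) k, ?_, ?_⟩
  · have h2 : z * (u * z * u⁻¹ * z) * z⁻¹ = (u * z * u⁻¹ * z)⁻¹ := by
      rw [mul_inv_rev, inv_eq_of_mul_eq_one_right h1, inv_eq_of_mul_eq_one_right hz]
      calc _ = z * (u * z * u⁻¹) * (z * z) := by group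
        _ = _ := by rw [hz, mul_one]
    rw [← inv_pow, ← h2, conj_pow, inv_eq_of_mul_eq_one_right hz]
  · generalize (u * z * u⁻¹ * z) ^ k = s at hk ⊢
    calc s⁻¹ * u * z = s⁻¹ * (u * z * u⁻¹) * s * (s⁻¹ * u) := by group
      _ = _ := by rw [hk]

theorem dvd_card_cent {x g : G} (h : g * x = x * g) :
    orderOf g ∣ Nat.card (centralizer ({x} : Set G)) :=
  (centralizer {x}).orderOf_dvd_natCard (mem_centralizer_singleton_iff.2 h)

theorem exists_orderOf [Finite G] {p : ℕ} (hp : p.Prime) {A : Subgroup G} (h : p ∣ Nat.card A) :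
    ∃ g ∈ A, orderOf g = p := by
  haveI := Fact.mk hp
  obtain ⟨g, hg⟩ := exists_prime_orderOf_dvd_card' p h
  exact ⟨g, g.2, by rw [orderOf_coe, hg]⟩

theorem card_cent_conj (g x : G) : Nat.card (centralizer ({g * x * g⁻¹} : Set G)) =
    Nat.card (centralizer ({x} : Set G)) := by
  have := H14.card_centralizer_conj (K := ⊤) (mem_top g) x
  rwa [top_inf_eq, top_inf_eq] at this

theorem card_cent_isConj {x y : G} (h : IsConj x y) :
    Nat.card (centralizer ({y} : Set G)) = Nat.card (centralizer ({x} : Set G)) := by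
  obtain ⟨g, rfl⟩ := isConj_iff.1 h
  exact card_cent_conj g x

theorem orderOf_conj' (g x : G) : orderOf (g * x * g⁻¹) = orderOf x :=
  orderOf_injective (MulAut.conj g).toMonoidHom (MulAut.conj g).injective x

theorem conj_comm {g a b : G} (h : a * b = b * a) :
    g * a * g⁻¹ * (g * b * g⁻¹) = g * b * g⁻¹ * (g * a * g⁻¹) := by
  rw [conj_mul, conj_mul, h]

/-- a self-normalising subgroup of order 11 in a group of order dividing the order of M23 -/
theorem card_of_selfnorm [Finite G] {y : G} (hy : orderOf y = 11)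
    (hN : ∀ g, g * y * g⁻¹ ∈ zpowers y → g ∈ zpowers y) (hd : Nat.card G ∣ 10200960) :
    Nat.card G = 11 ∨ Nat.card G = 253 := by
  haveI : Fact (Nat.Prime 11) := ⟨by norm_num⟩
  have h2 : ¬ 11 ^ 2 ∣ Nat.card G := fun h => absurd (h.trans hd) (by norm_num)
  obtain ⟨P, hP⟩ := H35.exists_sylow_eq_zpowers hy h2
  have hc : normalizer (P : Set G) ≤ centralizer (P : Set G) := fun g hg => by
    change g ∈ normalizer ((P : Subgroup G) : Set G) at hg
    change g ∈ centralizer ((P : Subgroup G) : Set G)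
    rw [hP] at hg ⊢
    rw [H35.centralizer_zpowers]
    obtain ⟨k, rfl⟩ := mem_zpowers_iff.1 (hN g (H35.mem_normalizer_zpowers_iff.1 hg))
    exact mem_centralizer_singleton_iff.2 (Commute.zpow_self y k).eq
  have hL := MonoidHom.ker_transferSylow_isComplement' P hc
  generalize hk : (MonoidHom.transferSylow P hc).ker = L at hL
  haveI : L.Normal := hk ▸ inferInstance
  have hPc : Nat.card P = 11 := by
    rw [hP, Nat.card_zpowers, hy]
  have h3 : Nat.card L * 11 = Nat.card G := hPc ▸ hL.card_mul_card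
  have hi : L.index = 11 := hPc ▸ hL.symm.index_eq_card
  have key : ∀ r, r.Prime → r ∣ Nat.card L → ∃ k, 1 ≤ k ∧ r ^ k ∣ Nat.card L ∧
      r ^ k ≡ 1 [MOD 11] := by
    intro r hr hrd
    haveI := Fact.mk hr
    have hr11 : r ≠ 11 := by
      rintro rfl
      exact h2 (h3 ▸ Nat.mul_dvd_mul_right hrd 11)
    obtain ⟨R⟩ : Nonempty (Sylow r L) := inferInstance
    have hF := R.normalizer_sup_eq_top
    set R' : Subgroup G := (R : Subgroup L).map L.subtype
    have h4 : 11 ∣ Nat.card (normalizer (R' : Set G)) := by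
      rw [← hi, ← relIndex_top_right, ← hF, relIndex_sup_right]
      exact relIndex_dvd_card _ _
    obtain ⟨w, hw, ho⟩ := exists_orderOf (by norm_num) h4
    obtain ⟨g, hg⟩ := H35.exists_conj_mem_zpowers hy h2 ho
    have hRc : Nat.card R' = r ^ (Nat.card L).factorization r := by
      rw [card_map_of_injective L.subtype_injective]; exact R.card_eq_multiplicity
    refine ⟨(Nat.card L).factorization r, hr.factorization_pos_of_dvd Nat.card_pos.ne' hrd,
      Nat.ordProj_dvd _ _, hRc ▸ card_modEq_one (by norm_num) (ho ▸ pow_orderOf_eq_one w)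
      (fun s hs => (mem_normalizer_iff.1 hw s).1 hs) fun s hs hsw => ?_⟩
    have h5 : g * s * g⁻¹ ∈ centralizer {y} := by
      rw [← H35.centralizer_eq_of_mem (by norm_num) hy hg fun h => by
        have := orderOf_conj' g w
        rw [h, orderOf_one, ho] at this; omega]
      exact mem_centralizer_singleton_iff.2 (conj_comm hsw.symm)
    have h6 := hN _ (by
      rw [mem_centralizer_singleton_iff.1 h5, mul_inv_cancel_right]; exact mem_zpowers y)
    have h7 := orderOf_dvd_of_mem_zpowers h6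
    rw [orderOf_conj', hy] at h7
    have h8 := R'.orderOf_dvd_natCard hs
    rw [hRc] at h8
    exact orderOf_eq_one_iff.1 (Nat.eq_one_of_dvd_coprimes
      (Nat.Coprime.pow_left _ ((Nat.coprime_primes hr (by norm_num)).2 hr11)) h8 h7)
  have h4 : Nat.card L ∣ 40320 * 23 := Nat.dvd_of_mul_dvd_mul_right (by norm_num : 0 < 11)
    (h3 ▸ hd)
  have hp : ∀ r ∈ [2, 3, 5, 7], r.Prime := by decide
  have h5 : ∀ r ∈ [2, 3, 5, 7], ¬ r ∣ Nat.card L := by
    intro r hr hrd
    obtain ⟨k, h1, h6, h7⟩ := key r (hp r hr) hrd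
    have h8 := h6.trans h4
    have d1 : ∀ r ∈ [2, 3, 5, 7], ¬ r ^ 8 ∣ 40320 * 23 := by decide
    have d2 : ∀ r ∈ [2, 3, 5, 7], ∀ k < 8, 1 ≤ k → r ^ k ∣ 40320 * 23 → ¬ r ^ k ≡ 1 [MOD 11] := by
      decide
    exact d2 r hr k (not_le.1 fun h => d1 r hr ((pow_dvd_pow r h).trans h8)) h1 h8 h7
  have h6 : (Nat.card L).Coprime 40320 := by
    have c : ∀ r ∈ [2, 3, 5, 7], (Nat.card L).Coprime r := fun r hr =>
      ((hp r hr).coprime_iff_not_dvd.2 (h5 r hr)).symm
    exact (((c 2 (by decide)).pow_right 7).mul_right ((c 3 (by decide)).pow_right 2)).mul_right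
      ((c 5 (by decide)).mul_right (c 7 (by decide)))
  rcases (Nat.dvd_prime (by norm_num)).1 (h6.dvd_of_dvd_mul_left h4) with h | h <;> omega

theorem mul_self_of_orderOf {z : G} (hz : orderOf z = 2) : z * z = 1 := by
  rw [← sq, ← hz, pow_orderOf_eq_one]

theorem ne_one_of_orderOf {z : G} {n : ℕ} (hz : orderOf z = n) (h : n ≠ 1) : z ≠ 1 := by
  rintro rfl
  exact h (hz.symm.trans orderOf_one)

theorem orderOf_two {z : G} (h : z * z = 1) (h1 : z ≠ 1) : orderOf z = 2 :=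
  orderOf_eq_prime (by rw [sq, h]) h1

/-- the Z* theorem for an involution that is the only one in its centraliser -/
theorem zstar [Finite G] {z : G} (hz : orderOf z = 2)
    (hu : ∀ w, w * w = 1 → w * z = z * w → w = 1 ∨ w = z) :
    ∃ O : Subgroup G, O.Normal ∧ Odd (Nat.card O) ∧
      ∀ c, ∃ o ∈ O, ∃ h, h * z = z * h ∧ c = o * h := by
  have hzz := mul_self_of_orderOf hz
  obtain ⟨P, hP⟩ := (IsPGroup.of_card (p := 2) (n := 1) (G := zpowers z)
    (by rw [Nat.card_zpowers, hz, pow_one])).exists_le_sylow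
  have hzP : z ∈ P := hP (mem_zpowers z)
  haveI : Nontrivial P := ⟨⟨⟨z, hzP⟩, 1, fun h => ne_one_of_orderOf hz (by decide)
    (congrArg Subtype.val h)⟩⟩
  haveI := P.2.center_nontrivial
  obtain ⟨w, hw, ho⟩ := exists_orderOf Nat.prime_two (A := center P)
    ((P.2.to_subgroup _).card_eq_or_dvd.resolve_left Finite.one_lt_card.ne')
  rw [← orderOf_coe] at ho
  have hwz : (w : G) = z := (hu w (mul_self_of_orderOf ho)
    (congrArg Subtype.val (mem_center_iff.1 hw ⟨z, hzP⟩)).symm).resolve_left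
      (ne_one_of_orderOf ho (by decide))
  obtain ⟨O, hn, ho', h⟩ := S0215.result P z hz hzP fun g hg => by
    have h1 := orderOf_conj' g z
    rw [hz] at h1
    exact (hu _ (mul_self_of_orderOf h1) (hwz ▸ congrArg Subtype.val
      (mem_center_iff.1 hw ⟨_, hg⟩))).resolve_left (ne_one_of_orderOf h1 (by decide))
  refine ⟨O, hn, ho', fun c => ?_⟩
  have h1 : c * z * c⁻¹ * z ∈ O := by
    have := O.inv_mem (h c)
    rwa [show (z * c * z⁻¹ * c⁻¹)⁻¹ = c * z * c⁻¹ * z⁻¹ by group,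
      inv_eq_of_mul_eq_one_right hzz] at this
  obtain ⟨s, hs, -, h2⟩ := exists_inv_mul hzz ho'
    (orderOf_dvd_iff_pow_eq_one.1 (O.orderOf_dvd_natCard h1))
  exact ⟨s, zpowers_le.2 h1 hs, _, h2, by group⟩

theorem mem_of_coprime {O : Subgroup G} [O.Normal] {w o h : G} (ho : o ∈ O) (e : w = o * h)
    {a b : ℕ} (hab : a.Coprime b) (ha : w ^ a = 1) (hb : h ^ b ∈ O) : w ∈ O := by
  rw [← QuotientGroup.eq_one_iff] at ho hb ⊢
  have h1 : (w : G ⧸ O) ^ a = 1 := by rw [← QuotientGroup.mk_pow, ha, QuotientGroup.mk_one]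
  have h2 : (w : G ⧸ O) ^ b = 1 := by
    rw [e, QuotientGroup.mk_mul, ho, one_mul, ← QuotientGroup.mk_pow, hb]
  exact orderOf_eq_one_iff.1 (Nat.eq_one_of_dvd_coprimes hab (orderOf_dvd_of_pow_eq_one h1)
    (orderOf_dvd_of_pow_eq_one h2))

theorem card_inf_mul_relIndex (A B : Subgroup G) :
    Nat.card ↥(A ⊓ B) * A.relIndex B = Nat.card B := by
  rw [← (A.subgroupOf B).card_mul_index, ← inf_subgroupOf_right,
    Nat.card_congr (subgroupOfEquivOfLe (inf_le_right : A ⊓ B ≤ B)).toEquiv, inf_subgroupOf_right]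
  rfl

theorem index_dvd_of_sup [Finite G] {N O : Subgroup G} [O.Normal] (h : N ⊔ O = ⊤) :
    N.index ∣ Nat.card O := by
  have h1 := card_inf_mul_relIndex O N
  have h2 := O.card_mul_index
  rw [← relIndex_top_right, ← h, relIndex_sup_right, ← N.card_mul_index, ← h1] at h2
  have h3 : O.relIndex N ≠ 0 := fun h => by rw [h, mul_zero] at h1; exact Nat.card_pos.ne h1
  exact ⟨Nat.card ↥(O ⊓ N), Nat.eq_of_mul_eq_mul_right (Nat.pos_of_ne_zero h3) (by rw [h2]; ring)⟩

/-- the centraliser of an element of order 11 of the first kind, abstractly -/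
theorem cent_struct [Finite G] {z x p e1 e2 : G} (hx : ∀ g, g * x = x * g) (ox : orderOf x = 11)
    (hz : orderOf z = 2) (hc : Nat.card (centralizer ({z} : Set G)) = 264)
    (hu : ∀ w, w * w = 1 → w * z = z * w → w = 1 ∨ w = z) (he : e1⁻¹ * e2⁻¹ * e1 * e2 = z)
    (op : orderOf p = 3) (hp : ∀ w, p * w = w * p → w * z = z * w)
    (h5 : ∀ w : G, orderOf w ≠ 5) (h7 : ∀ w : G, orderOf w ≠ 7)
    (hb : ∀ r ∈ [23, 29, 31, 37, 43], ∀ w j : G, orderOf w = r → orderOf j = 2 → j * w ≠ w * j)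
    (hd : Nat.card G ∣ 86775571046077562880) (h121 : 121 ∣ Nat.card G) :
    Nat.card G = 31944 ∧ ∀ U : Sylow 11 G, (U : Subgroup G).Normal := by
  haveI : Fact (Nat.Prime 11) := ⟨by norm_num⟩
  have hzz := mul_self_of_orderOf hz
  obtain ⟨O, hn, hO, hdec⟩ := zstar hz hu
  have h1 := H14.card_eq_cls_mul ⊤ z
  rw [top_inf_eq, hc, card_top] at h1
  have h2 : H14.cls ⊤ z = H14.cls O z := by
    refine Set.Subset.antisymm ?_ fun _ ⟨g, _, e⟩ => ⟨g, trivial, e⟩
    rintro _ ⟨c, -, rfl⟩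
    obtain ⟨o, ho, h, hh, rfl⟩ := hdec c
    exact ⟨o, ho, by rw [mul_assoc o h, hh]; group⟩
  have h3 : (H14.cls ⊤ z).ncard ≡ 1 [MOD 3] := by
    refine (ncard_modEq Nat.prime_three (op ▸ pow_orderOf_eq_one p) ?_).trans
      (congrArg (· % 3) ?_)
    · rintro _ ⟨c, -, rfl⟩
      exact ⟨p * c, trivial, by group⟩
    · rw [Set.ncard_eq_one]
      refine ⟨z, Set.eq_singleton_iff_unique_mem.2 ⟨⟨H14.self_mem_cls _ _, hp p rfl⟩, ?_⟩⟩
      rintro _ ⟨⟨c, -, rfl⟩, h⟩
      have h4 := (orderOf_conj' c z).trans hz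
      exact (hu _ (mul_self_of_orderOf h4) (hp _ h)).resolve_left (ne_one_of_orderOf h4 (by decide))
  have h4 : Odd (H14.cls ⊤ z).ncard :=
    hO.of_dvd_nat (h2 ▸ Dvd.intro _ (H14.card_eq_cls_mul O z).symm)
  have hpow : ∀ h : G, h * z = z * h → h ^ 264 = 1 := fun h hh =>
    orderOf_dvd_iff_pow_eq_one.1 (hc ▸ dvd_card_cent hh)
  have hzO : z ∉ O := fun h => by
    have := O.orderOf_dvd_natCard h
    rw [hz] at this
    exact (Nat.not_even_iff_odd.2 hO) (even_iff_two_dvd.2 this)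
  have hbig : ∀ r ∈ [23, 29, 31, 37, 43], ¬ r ∣ Nat.card G := by
    intro r hr hrd
    have d : ∀ r ∈ [23, 29, 31, 37, 43], r.Prime ∧ r.Coprime 264 ∧
      ¬ r ^ 2 ∣ 86775571046077562880 := by decide +kernel
    obtain ⟨d1, d2, d3⟩ := d r hr
    obtain ⟨w, -, hw⟩ := exists_orderOf d1 (A := (⊤ : Subgroup G)) (by rwa [card_top])
    obtain ⟨o, ho, h, hh, e⟩ := hdec w
    have hwO : w ∈ O := mem_of_coprime ho e d2 (hw ▸ pow_orderOf_eq_one w)
      (hpow h hh ▸ O.one_mem)
    have k : ∀ c : G, ∃ o ∈ O, o * c * w * (o * c)⁻¹ ∈ zpowers w := fun c => by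
      obtain ⟨o, ho, h⟩ := H88.exists_conj_mem_zpowers_of_mem d1 (H := O)
        (fun h => d3 (h.trans ((card_subgroup_dvd_card O).trans hd))) (hn.conj_mem _ hwO c) hwO
        ((orderOf_conj' c w).trans hw) hw
      exact ⟨o, ho, by rwa [show o * c * w * (o * c)⁻¹ = o * (c * w * c⁻¹) * o⁻¹ by group]⟩
    obtain ⟨o1, m1, k1⟩ := k e1
    obtain ⟨o2, m2, k2⟩ := k e2
    have k3 := comm_cent k1 k2
    have k4 : (((o1 * e1)⁻¹ * (o2 * e2)⁻¹ * (o1 * e1) * (o2 * e2) : G) : G ⧸ O) = z := by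
      rw [← QuotientGroup.eq_one_iff] at m1 m2
      simp only [← he, QuotientGroup.mk_mul, QuotientGroup.mk_inv, m1, m2, one_mul]
    generalize (o1 * e1)⁻¹ * (o2 * e2)⁻¹ * (o1 * e1) * (o2 * e2) = g at k3 k4
    have k5 : Even (orderOf g) := by
      by_contra k5
      refine hzO (mem_of_coprime (o := 1) (h := z) O.one_mem (one_mul z).symm (a := 2)
        (b := orderOf g) (Nat.coprime_two_left.2 (Nat.not_even_iff_odd.1 k5)) (by rw [sq, hzz]) ?_)
      rw [← QuotientGroup.eq_one_iff, QuotientGroup.mk_pow, ← k4, ← QuotientGroup.mk_pow,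
        pow_orderOf_eq_one, QuotientGroup.mk_one]
    obtain ⟨i, hi⟩ := exists_invol_pow k5
    exact hb r hr w _ hw hi (Commute.pow_left k3 i)
  have hcard : Nat.card G = 31944 := by
    generalize (H14.cls ⊤ z).ncard = n at h1 h3 h4
    have c : ∀ r ∈ [2, 3, 5, 7, 23, 29, 31, 37, 43], n.Coprime r := by
      intro r hr
      have d : ∀ r ∈ [2, 3, 5, 7, 23, 29, 31, 37, 43], r.Prime ∧
        (r = 2 ∨ r = 3 ∨ r = 5 ∨ r = 7 ∨ r ∈ [23, 29, 31, 37, 43]) := by decide +kernel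
      refine ((d r hr).1.coprime_iff_not_dvd.2 fun h => ?_).symm
      have h6 : r ∣ Nat.card (⊤ : Subgroup G) := by rw [card_top, h1]; exact h.mul_right _
      obtain ⟨w, -, hw⟩ := exists_orderOf (d r hr).1 h6
      rcases (d r hr).2 with rfl | rfl | rfl | rfl | h8
      · exact (Nat.not_even_iff_odd.2 h4) (even_iff_two_dvd.2 h)
      · unfold Nat.ModEq at h3; omega
      · exact h5 w hw
      · exact h7 w hw
      · exact hbig r h8 (card_top (G := G) ▸ h6)
    have c2 : n.Coprime (2 ^ 18 * 3 ^ 2 * 5 * 7 * 23 * 29 * 31 * 37 * 43) := by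
      simp only [List.forall_mem_cons] at c
      simp only [Nat.coprime_mul_iff_right]
      exact ⟨⟨⟨⟨⟨⟨⟨⟨c.1.pow_right _, c.2.1.pow_right _⟩, c.2.2.1⟩, c.2.2.2.1⟩, c.2.2.2.2.1⟩,
        c.2.2.2.2.2.1⟩, c.2.2.2.2.2.2.1⟩, c.2.2.2.2.2.2.2.1⟩, c.2.2.2.2.2.2.2.2.1⟩
    have h6 : n ∣ 11 ^ 2 := by
      refine c2.dvd_of_dvd_mul_left (Nat.dvd_of_mul_dvd_mul_right (by norm_num : 0 < 264) ?_)
      rw [← h1]
      exact hd.trans (by norm_num)
    obtain ⟨k, hk, rfl⟩ := (Nat.dvd_prime_pow (by norm_num)).1 h6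
    rw [h1] at h121 ⊢
    interval_cases k
    · exact absurd h121 (by decide)
    · exact absurd h3 (by decide)
    · rfl
  refine ⟨hcard, fun U => ?_⟩
  haveI : (zpowers x).Normal := ⟨fun a ha g => by
    obtain ⟨k, rfl⟩ := mem_zpowers_iff.1 ha
    rw [(Commute.zpow_right (hx g) k).eq, mul_inv_cancel_right]; exact ha⟩
  have hU : Nat.card U = 11 ^ 3 := by
    rw [U.card_eq_multiplicity, hcard]; decide +kernel
  have h6 : (U : Subgroup G) ≤ O ⊔ zpowers x := fun u hu' => by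
    obtain ⟨o, ho, h, hh, e⟩ := hdec u
    refine mem_of_coprime (mem_sup_left ho) e (a := 11 ^ 3) (b := 24) (by decide)
      (orderOf_dvd_iff_pow_eq_one.1 (hU ▸ U.1.orderOf_dvd_natCard hu')) (mem_sup_right ?_)
    have h7 : zpowers x ≤ centralizer {z} :=
      zpowers_le.2 (mem_centralizer_singleton_iff.2 (hx z).symm)
    have h8 : (zpowers x).relIndex (centralizer {z}) = 24 := by
      have := card_inf_mul_relIndex (zpowers x) (centralizer {z})
      rw [inf_of_le_left h7, Nat.card_zpowers, ox, hc] at this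
      omega
    exact h8 ▸ (zpowers x).pow_relIndex_mem (mem_centralizer_singleton_iff.2 hh)
  have h7 := U.normalizer_sup_eq_top' h6
  have h8 : Odd (normalizer (U : Set G)).index := by
    refine hO.of_dvd_nat (index_dvd_of_sup (eq_top_iff.2 (h7 ▸ sup_le le_sup_left
      (sup_le le_sup_right (le_sup_of_le_left (zpowers_le.2 ?_))))))
    exact centralizer_le_normalizer _ (mem_centralizer_iff.2 fun g _ => hx g)
  have h9 := U.card_eq_index_normalizer
  have h10 := card_sylow_modEq_one 11 G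
  have h11 : (normalizer (U : Set G)).index ∣ 24 := by
    have := U.1.card_mul_index
    rw [hU, hcard] at this
    exact (show U.1.index = 24 by omega) ▸ index_dvd_of_le le_normalizer
  rw [h9] at h10
  have d : ∀ n ∈ Nat.divisors 24, Odd n → n ≡ 1 [MOD 11] → n = 1 := by decide
  exact normalizer_eq_top_iff.1 (index_eq_one.1 (d _ (Nat.mem_divisors.2 ⟨h11, by decide⟩) h8 h10))

end Cfsg.Agent.SGJ4.El
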