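/-
Project SGJ4, part Eleven.  Elements of order 11 in the two models.
-/
import Cfsg.Agent.SGJ4.XBasic
import Cfsg.Agent.SGJ4.ElG
import Cfsg.Agent.H14.MClasses
import Cfsg.Agent.H14.Local
import Cfsg.Agent.H14.PermSimple

set_option autoImplicit false

namespace Cfsg.Agent.SGJ4.El

open Subgroup AG H14

/-! ### M24 -/

theorem cent11 {g h : Equiv.Perm GolayPt} (hg : g ∈ M24) (ho : orderOf g = 11) (hh : h ∈ M24)
    (c : h * g = g * h) : h ∈ zpowers g := by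
  have k : allL m24Cl (fun c => force (ordN 5 32 24 c.X 30) fun o =>
      !(Nat.beq o 0) && bimp (Nat.beq o 11) (Nat.beq c.c 11)) = true := by decide +kernel
  obtain ⟨d, hd, -, h1, h2⟩ := m24_classes.conj' hg
  have h3 := allL_iff.1 k d hd
  simp only [force_eq, Bool.and_eq_true, Bool.not_eq_true', bimp_iff, beq_iff,
    ← Bool.not_eq_true] at h3
  have h4 := m24_classes.orderOf_eq hd rfl h3.1
  rw [h3.2 (h4.symm.trans (h1.trans ho))] at h2
  have h5 : zpowers g = M24 ⊓ centralizer {g} := eq_of_le_of_card_ge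
    (zpowers_le.2 ⟨hg, mem_centralizer_singleton_iff.2 rfl⟩) (by rw [h2, Nat.card_zpowers, ho])
  exact h5 ▸ ⟨hh, mem_centralizer_singleton_iff.2 c⟩

theorem exists_conj_mem_sylow {G : Type*} [Group G] [Finite G] {p k : ℕ} [Fact p.Prime]
    (P : Sylow p G) {g : G} (hg : orderOf g = p ^ k) : ∃ c, c * g * c⁻¹ ∈ P := by
  obtain ⟨Q, hQ⟩ := (IsPGroup.of_card (G := zpowers g)
    ((Nat.card_zpowers g).trans hg)).exists_le_sylow
  obtain ⟨c, rfl⟩ := MulAction.exists_smul_eq G Q P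
  exact ⟨c, smul_mem_pointwise_smul g (MulAut.conj c) _ (hQ (mem_zpowers g))⟩

/-- a Sylow 2-subgroup of M24 is not elementary abelian -/
theorem not_elem {A : Subgroup (Equiv.Perm GolayPt)} (hA : A ≤ M24) (hc : Nat.card A = 1024)
    (h : ∀ a ∈ A, a * a = 1) : False := by
  have h1 : Nat.card (A.subgroupOf M24) = 2 ^ (Nat.card M24).factorization 2 := by
    rw [Nat.card_congr (subgroupOfEquivOfLe hA).toEquiv, hc, card_M24]; decide +kernel
  have hm : m24_4A ∈ m24Cl := by simp [m24Cl]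
  have h2 := m24_classes.orderOf_eq (o := 4) (f := 30) hm (by decide +kernel) (by decide)
  obtain ⟨c, h3⟩ := exists_conj_mem_sylow (k := 2) (Sylow.ofCard _ h1)
    (g := ⟨_, m24_classes.mem hm⟩) (by rw [← orderOf_coe]; exact h2)
  have h4 := orderOf_dvd_of_pow_eq_one ((sq _).trans (h _ h3))
  rw [map_mul, map_mul, map_inv, orderOf_conj', coe_subtype, h2] at h4
  omega

/-- multiplication by 2 -/
noncomputable def yp : Equiv.Perm GolayPt := GE.perm 0xbd6717b56939461b52507314831040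

theorem inG_yp : GE.InG M24 0xbd6717b56939461b52507314831040 :=
  inG_M24 (by decide +kernel) (by decide +kernel)
theorem pk_yp : GE.pk yp = 0xbd6717b56939461b52507314831040 := inG_yp.pk_perm
theorem yp_mem : yp ∈ M24 := inG_yp.perm_mem
theorem orderOf_yp : orderOf yp = 11 :=
  GE.orderOf_eq_of_ordP (by norm_num) (by rw [pk_yp]; decide +kernel)
theorem yp_none : yp none = none := by rw [GE.apply_eq, pk_yp]; decide +kernel
theorem orderOf_shift : orderOf shiftPerm = 23 :=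
  GE.orderOf_eq_of_ordP (by norm_num) (by rw [pk_shiftPerm]; decide +kernel)
theorem yp_shift : yp * shiftPerm = shiftPerm ^ 2 * yp := GE.pk_injective (by
  rw [GE.pk_mul, GE.pk_mul, GE.pk_pow, pk_yp, pk_shiftPerm]; decide +kernel)
theorem projInv_yp : projInv * yp * projInv⁻¹ = yp ^ 10 := GE.pk_injective (by
  rw [GE.pk_mul3, GE.pk_inv, GE.pk_pow, pk_yp, pk_projInv]; decide +kernel)

theorem fix_of_mem_zpowers {g : Equiv.Perm GolayPt} (h : g ∈ zpowers yp) : g none = none :=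
  (zpowers_le (H := MulAction.stabilizer (Equiv.Perm GolayPt) (none : GolayPt))).2 yp_none h

theorem conj_pow_pow {G : Type*} [Group G] {g y : G} {k : ℕ} (h : g * y * g⁻¹ = y ^ k) (n : ℕ) :
    g ^ n * y * (g ^ n)⁻¹ = y ^ k ^ n := by
  induction n with
  | zero => simp
  | succ n ih =>
    calc _ = g * (g ^ n * y * (g ^ n)⁻¹) * g⁻¹ := by rw [pow_succ']; group
      _ = _ := by rw [ih, ← conj_pow, h, ← pow_mul, pow_succ']

theorem exists_conj_eq_pow {G : Type*} [Group G] [Finite G] {g y : G} {n : ℕ} (ho : orderOf y = n)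
    (hn : n ≠ 1) (h : g * y * g⁻¹ ∈ zpowers y) : ∃ k < n, k ≠ 0 ∧ g * y * g⁻¹ = y ^ k := by
  classical
  obtain ⟨k, hk, e⟩ := Finset.mem_image.1 (mem_zpowers_iff_mem_range_orderOf.1 h)
  refine ⟨k, ho ▸ Finset.mem_range.1 hk, ?_, e.symm⟩
  rintro rfl
  exact ne_one_of_orderOf ((orderOf_conj' g y).trans ho) hn (e.symm.trans (pow_zero y))

theorem norm_yp {g : Equiv.Perm GolayPt} (hg : g ∈ M24) (h : g * yp * g⁻¹ ∈ zpowers yp)
    (h0 : g none = none) : g ^ 5 ∈ zpowers yp := by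
  obtain ⟨k, hk, h1, e⟩ := exists_conj_eq_pow orderOf_yp (by decide) h
  have h2 := conj_pow_pow e 5
  rw [← pow_mod_orderOf yp, orderOf_yp] at h2
  have d : ∀ k < 11, k ≠ 0 → k ^ 5 % 11 = 1 ∨ k ^ 5 % 11 = 10 := by decide
  rcases d k hk h1 with h3 | h3 <;> rw [h3] at h2
  · rw [pow_one, mul_inv_eq_iff_eq_mul] at h2
    exact cent11 yp_mem orderOf_yp (pow_mem hg 5) h2
  · have h4 := fix_of_mem_zpowers (cent11 yp_mem orderOf_yp
      (mul_mem (inv_mem projInv_mem) (pow_mem hg 5)) (by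
        calc projInv⁻¹ * g ^ 5 * yp = projInv⁻¹ * (g ^ 5 * yp * (g ^ 5)⁻¹) * g ^ 5 := by group
          _ = _ := by rw [h2, ← projInv_yp]; group))
    rw [Equiv.Perm.mul_apply, Equiv.Perm.pow_apply_eq_self_of_apply_eq_self h0,
      Equiv.Perm.inv_eq_iff_eq] at h4
    exact absurd h4 (by decide)

/-! ### the model `Ns` -/

/-- the element of order 11 -/
noncomputable def y0 : AG := kof ⟨yp, yp_mem⟩
/-- the element of order 23 -/
noncomputable def r0 : AG := kof ⟨shiftPerm, shiftPerm_mem⟩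

theorem y0_mem : y0 ∈ Ks := kof_mem _
theorem r0_mem : r0 ∈ Ks := kof_mem _
theorem y0_p : y0.p = yp := rfl
theorem r0_p : r0.p = shiftPerm := rfl

theorem eq_of_p {a b : AG} (ha : a ∈ Ks) (hb : b ∈ Ks) (h : a.p = b.p) : a = b := by
  rw [← lin_eq_self.2 ha.2, ← lin_eq_self.2 hb.2, lin_eq_of_p ha.1 hb.1 h]

theorem pow_p (a : AG) (n : ℕ) : (a ^ n).p = a.p ^ n := map_pow pr a n

theorem orderOf_Ks {a : AG} (ha : a ∈ Ks) : orderOf a = orderOf a.p :=
  orderOf_eq_orderOf_iff.2 fun n => ⟨fun h => by rw [← pow_p, h, one_p],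
    fun h => eq_of_p (pow_mem ha n) (one_mem _) (by rw [pow_p, h, one_p])⟩

theorem orderOf_y0 : orderOf y0 = 11 := (orderOf_Ks y0_mem).trans orderOf_yp
theorem orderOf_r0 : orderOf r0 = 23 := (orderOf_Ks r0_mem).trans orderOf_shift
theorem y0_r0 : y0 * r0 = r0 ^ 2 * y0 :=
  eq_of_p (mul_mem y0_mem r0_mem) (mul_mem (pow_mem r0_mem 2) y0_mem) yp_shift

theorem cd_y0 : cd y0 = cN 0xbd6717b56939461b52507314831040 0 := by
  rw [cd_of_mem_Nf y0_mem.1, y0_p, pk_yp]; rfl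

theorem fix_y0 {v : Vb} (hv : v ∈ Ev) : y0.m v = v ↔ v = 0 ∨ v = ts := by
  have h : force (cA (cN 0xbd6717b56939461b52507314831040 0)) (fun A => all2 64 64 fun n =>
      bimp (Nat.beq (pn n) 0) (Nat.beq (ap A n) n == (Nat.beq n 0 || Nat.beq n 1141))) = true := by
    decide +kernel
  rw [force_eq] at h
  have h1 := bimp_iff.1 (all2_iff.1 h _ v.lt) (beq_iff.2 (mem_Ev'.1 hv))
  rw [beq_iff_eq, Bool.eq_iff_iff, Bool.or_eq_true, beq_iff, beq_iff, beq_iff, ← cd_y0,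
    ← val_m] at h1
  rw [← Vb.val_inj, ← Vb.val_inj, ← Vb.val_inj]; exact h1

theorem tr_comm_iff {a : AG} {v : Vb} : tr v * a = a * tr v ↔ a.m v = v := by
  rw [mul_tr, mul_left_inj, tr_inj, eq_comm]

theorem ts_mem' : ts ∈ Ev := tr_mem_Ns.1 tN_mem
theorem tN_y0 : tN * y0 = y0 * tN := tr_comm_iff.2 ((fix_y0 ts_mem').2 (Or.inr rfl))
theorem orderOf_tr {v : Vb} (h : v ≠ 0) : orderOf (tr v) = 2 :=
  orderOf_two (tr_mul_self v) fun e => h (tr_eq_one.1 e)
theorem orderOf_tN : orderOf tN = 2 := orderOf_tr (by decide +kernel)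

theorem exists_pow_of_mem {G : Type*} [Group G] [Finite G] {g y : G} (h : g ∈ zpowers y) :
    ∃ k < orderOf y, y ^ k = g := by
  classical
  obtain ⟨k, hk, e⟩ := Finset.mem_image.1 (mem_zpowers_iff_mem_range_orderOf.1 h)
  exact ⟨k, Finset.mem_range.1 hk, e⟩

theorem cent_y0 {a : AG} (ha : a ∈ Ns) (h : a * y0 = y0 * a) :
    ∃ i : ℕ, a = y0 ^ i ∨ a = tN * y0 ^ i := by
  obtain ⟨i, -, e⟩ := exists_pow_of_mem (cent11 yp_mem orderOf_yp ha.1.1 (congrArg AG.p h))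
  have h1 : lin a = y0 ^ i := eq_of_p (lin_mem_Ks ha.1) (pow_mem y0_mem i) (by
    rw [pow_p]; exact e.symm)
  have h2 : y0.m a.v = a.v := by
    have := congrArg AG.v h
    rw [mul_v, mul_v, y0_mem.2, map_zero, add_zero, zero_add] at this
    exact this.symm
  refine ⟨i, ?_⟩
  rw [← h1]
  rcases (fix_y0 ha.2).1 h2 with h3 | h3
  · exact Or.inl (lin_eq_self.2 h3).symm
  · exact Or.inr (by rw [tN, ← h3, tr_mul_lin])

/-! ### the model `Hb` -/

/-- the element of order 11 -/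
noncomputable def a0 : AG := ofC ca
/-- the outer involution inverting it -/
noncomputable def u1 : AG := ofC cu

theorem inS_ca : InS X ca := inS_xG _ (by simp [xG])
theorem inS_cu : InS X cu := inS_xG _ (by simp [xG])
theorem a0_mem : a0 ∈ X := inS_ca.ofC_mem
theorem u1_mem : u1 ∈ X := inS_cu.ofC_mem
theorem cd_a0 : cd a0 = ca := inS_ca.cd_ofC
theorem cd_u1 : cd u1 = cu := inS_cu.cd_ofC
theorem a0_pow : a0 ^ 11 = 1 := cd_inj.1 (by rw [cd_pow, cd_a0, cd_one]; decide +kernel)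
theorem u1_sq : u1 * u1 = 1 := cd_inj.1 (by rw [cd_mul, cd_u1, cd_one]; decide +kernel)
theorem orderOf_a0_p : orderOf a0.p = 11 :=
  GE.orderOf_eq_of_ordP (by norm_num) (by rw [← cP_cd, cd_a0]; decide +kernel)
theorem orderOf_u1_p : orderOf u1.p = 2 :=
  GE.orderOf_eq_of_ordP (by norm_num) (by rw [← cP_cd, cd_u1]; decide +kernel)
theorem om_a0 : om * a0 = a0 * om :=
  cd_inj.1 (by rw [cd_mul, cd_mul, cd_a0, cd_om]; decide +kernel)
theorem u1_a0 : u1 * a0 = a0 ^ 10 * u1 :=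
  cd_inj.1 (by rw [cd_mul, cd_mul, cd_pow, cd_a0, cd_u1]; decide +kernel)

/-- the vectors fixed by `a0` -/
def Fa : AddSubgroup Vb where
  carrier := {v | a0.m v = v}
  zero_mem' := map_zero _
  add_mem' := fun {v w} hv hw => (map_add _ v w).trans (congrArg₂ _ hv hw)
  neg_mem' := fun h => h

theorem mem_Fa {v : Vb} : v ∈ Fa ↔ a0.m v = v := Iff.rfl

theorem mem_Fa' {v : Vb} : v ∈ Fa ↔ Nat.beq (ap (cA ca) v.val) v.val = true := by
  rw [mem_Fa, beq_iff, ← cd_a0, ← val_m, Vb.val_inj]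

theorem card_Fa : Nat.card Fa = 4 :=
  (Vb.ncard_eq (fun v => v ∈ Fa) (fun n => Nat.beq (ap (cA ca) n) n)
    fun _ => mem_Fa'.symm).trans (by decide +kernel)

theorem eq_zero_of_Fa {v : Vb} (h : v ∈ Fa) (hq : q v = 0) : v = 0 := by
  have k : all2 64 64 (fun n => bimp (Nat.beq (ap (cA ca) n) n)
      (Nat.beq n 0 || Nat.beq (ty n) 3)) = true := by decide +kernel
  have := bimp_iff.1 (all2_iff.1 k _ v.lt) (mem_Fa'.1 h)
  rw [Bool.or_eq_true, beq_iff, beq_iff] at this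
  exact Vb.ext (this.resolve_right (q_eq_zero.1 hq))

theorem f1_mem : Vb.of 1024 ∈ Fa := mem_Fa'.2 (by decide +kernel)
theorem f2_mem : Vb.of 2048 ∈ Fa := mem_Fa'.2 (by decide +kernel)
theorem q_f1 : q (Vb.of 1024) = 1 := q_eq_one.2 (by decide +kernel)
theorem q_f2 : q (Vb.of 2048) = 1 := q_eq_one.2 (by decide +kernel)
theorem B_f : B (Vb.of 1024) (Vb.of 2048) = 1 := by decide +kernel

theorem lin_X {a : AG} (h : a ∈ X) : lin a = a := lin_eq_self.2 (v_of_mem_X a h)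

theorem exists_shape {b c : AG} (hb : b ∈ Hb) (hc : c ∈ X) (h : b.p ∈ zpowers c.p) :
    ∃ i < orderOf c.p, ∃ j < 3, ∃ v, b = c ^ i * om ^ j * tr v := by
  obtain ⟨i, hi, e⟩ := exists_pow_of_mem h
  have h1 : ∃ j < 3, (c ^ i)⁻¹ * lin b = om ^ j := by
    rcases ker_X _ (mul_mem (inv_mem (pow_mem hc i)) hb) (by
      rw [mul_p, inv_p, pow_p, e, lin_p, inv_mul_cancel]) with h | h | h
    exacts [⟨0, by decide, h⟩, ⟨1, by decide, h.trans (pow_one _).symm⟩,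
      ⟨2, by decide, h.trans (sq _).symm⟩]
  obtain ⟨j, hj, h1⟩ := h1
  refine ⟨i, hi, j, hj, (lin b)⁻¹.m b.v, ?_⟩
  rw [← h1, mul_inv_cancel_left, mul_tr, m_inv_m, tr_mul_lin]

theorem card_shape {c : AG} (hc : c ∈ X) {A : Subgroup AG} (h1 : c ∈ A) (h2 : om ∈ A)
    (h3 : ∀ v, tr v ∈ A ↔ v ∈ Fa) (h4 : ∀ b ∈ A, b ∈ Hb ∧ b.p ∈ zpowers c.p) :
    Nat.card A = orderOf c.p * 12 := by
  have hf : Function.Bijective (fun x : Fin (orderOf c.p) × Fin 3 × Fa =>
      (⟨c ^ x.1.val * om ^ x.2.1.val * tr x.2.2, mul_mem (mul_mem (pow_mem h1 _) (pow_mem h2 _))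
        ((h3 _).2 x.2.2.2)⟩ : A)) := by
    constructor
    · rintro ⟨i, j, v⟩ ⟨i', j', v'⟩ e
      simp only [Subtype.mk.injEq] at e
      obtain rfl : i = i' := by
        have := congrArg AG.p e
        simp only [mul_p, pow_p, om_p, tr_p, one_pow, mul_one] at this
        exact Fin.ext (pow_injOn_Iio_orderOf i.2 i'.2 this)
      rw [mul_assoc, mul_assoc, mul_right_inj] at e
      obtain rfl : j = j' := by
        have := congrArg lin e
        simp only [map_mul, map_pow, lin_tr, mul_one, lin_X om_mem] at this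
        exact Fin.ext (pow_injOn_Iio_orderOf (j.2.trans_eq orderOf_om.symm)
          (j'.2.trans_eq orderOf_om.symm) this)
      rw [Subtype.ext (tr_inj.1 (mul_left_cancel e))]
    · rintro ⟨b, hb⟩
      obtain ⟨i, hi, j, hj, v, rfl⟩ := exists_shape (h4 b hb).1 hc (h4 b hb).2
      exact ⟨⟨⟨i, hi⟩, ⟨j, hj⟩, v, (h3 v).1 ((mul_mem_cancel_left
        (mul_mem (pow_mem h1 _) (pow_mem h2 _))).1 hb)⟩, rfl⟩
  rw [← Nat.card_congr (Equiv.ofBijective _ hf), Nat.card_prod, Nat.card_prod, card_Fa]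
  simp

theorem p_mem_M24 {a : AG} (h : a ∈ Hb) : a.p ∈ M24 := (p_mem_M22x a h).1

theorem p_mem_of_comm {b : AG} (hb : b ∈ Hb) (h : b * a0 = a0 * b) : b.p ∈ zpowers a0.p :=
  cent11 (p_mem_M24 (X_le_Hb a0_mem)) orderOf_a0_p (p_mem_M24 hb) (congrArg AG.p h)

theorem card_cent_a0 : Nat.card ↥(Hb ⊓ centralizer {a0}) = 132 := by
  rw [card_shape (A := Hb ⊓ centralizer {a0}) a0_mem ⟨X_le_Hb a0_mem, mem_centralizer_singleton_iff.2 rfl⟩
    ⟨X_le_Hb om_mem, mem_centralizer_singleton_iff.2 om_a0⟩ (fun v => by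
      rw [mem_inf, mem_centralizer_singleton_iff, tr_comm_iff, mem_Fa]
      exact and_iff_right (tr_mem_Hb v))
    fun b hb => ⟨hb.1, p_mem_of_comm hb.1 (mem_centralizer_singleton_iff.1 hb.2)⟩, orderOf_a0_p]

theorem invol_cent_a0 {b : AG} (hb : b ∈ Hb) (h : b * a0 = a0 * b) (h2 : b * b = 1) :
    ∃ v ∈ Fa, b = tr v := by
  obtain ⟨i, -, j, -, v, e⟩ := exists_shape hb a0_mem (p_mem_of_comm hb h)
  have h3 : lin b = a0 ^ i * om ^ j := by
    simp only [e, map_mul, map_pow, lin_tr, mul_one, lin_X om_mem, lin_X a0_mem]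
  have h4 : lin b ^ 33 = 1 := by
    rw [h3, (Commute.pow_pow om_a0.symm i j).mul_pow, ← pow_mul, ← pow_mul, mul_comm i, mul_comm j,
      pow_mul, pow_mul, show a0 ^ 33 = 1 by rw [show 33 = 11 * 3 from rfl, pow_mul, a0_pow, one_pow],
      show om ^ 33 = 1 from orderOf_dvd_iff_pow_eq_one.1 (by rw [orderOf_om]; decide), one_pow,
      one_pow, one_mul]
  have h5 : lin b ^ 2 = 1 := by rw [sq, ← map_mul, h2, map_one]
  have h6 : lin b = 1 := orderOf_eq_one_iff.1 (Nat.eq_one_of_dvd_coprimes (by decide)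
    (orderOf_dvd_of_pow_eq_one h4) (orderOf_dvd_of_pow_eq_one h5))
  rw [lin_eq_one.1 h6] at h ⊢
  exact ⟨_, tr_comm_iff.1 h, rfl⟩

/-- the image of the subgroup GL(2,3) -/
noncomputable def Kb : Subgroup AG :=
  Hb ⊓ normalizer ((zpowers a0 : Subgroup AG) : Set AG) ⊓ (zpowers u1.p).comap pr

theorem u1_mem_Kb : u1 ∈ Kb := ⟨⟨X_le_Hb u1_mem, H35.mem_normalizer_zpowers_iff.2 (by
  rw [u1_a0, mul_inv_cancel_right]; exact pow_mem (mem_zpowers _) _)⟩, mem_zpowers _⟩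

theorem om_mem_Kb : om ∈ Kb := ⟨⟨X_le_Hb om_mem, H35.mem_normalizer_zpowers_iff.2 (by
  rw [om_a0, mul_inv_cancel_right]; exact mem_zpowers _)⟩,
    show om.p ∈ zpowers u1.p from om_p ▸ one_mem _⟩

theorem tr_mem_Kb {v : Vb} : tr v ∈ Kb ↔ v ∈ Fa := by
  refine ⟨fun h => ?_, fun h => ⟨⟨tr_mem_Hb v, H35.mem_normalizer_zpowers_iff.2 (by
    rw [tr_comm_iff.2 h, mul_inv_cancel_right]; exact mem_zpowers _)⟩,
    (zpowers u1.p).one_mem⟩⟩
  have h1 := v_of_mem_X _ (zpowers_le.2 a0_mem (H35.mem_normalizer_zpowers_iff.1 h.1.2))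
  rw [tr_conj, mul_v, v_of_mem_X _ a0_mem, map_zero, add_zero, tr_v, Vb.add_eq_zero'] at h1
  exact h1.symm

theorem card_Kb : Nat.card Kb = 24 := by
  rw [card_shape u1_mem u1_mem_Kb om_mem_Kb (fun _ => tr_mem_Kb) fun b hb => ⟨hb.1.1, hb.2⟩,
    orderOf_u1_p]

theorem m_mem_Fa {b : AG} (hb : b ∈ Kb) {v : Vb} (hv : v ∈ Fa) : b.m v ∈ Fa :=
  tr_mem_Kb.1 (conj_tr b v ▸ mul_mem (mul_mem hb (tr_mem_Kb.2 hv)) (inv_mem hb))

theorem eq_tr_of_fix {b : AG} (hb : b ∈ Kb) (h1 : b.m (Vb.of 1024) = Vb.of 1024)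
    (h2 : b.m (Vb.of 2048) = Vb.of 2048) : ∃ v ∈ Fa, tr v = b := by
  obtain ⟨i, hi, j, hj, v, rfl⟩ := exists_shape hb.1.1 u1_mem hb.2
  rw [orderOf_u1_p] at hi
  have k : ∀ i < 2, ∀ j < 3, ap (cA (cmul (cpow cu i) (cpow cw3 j))) 1024 = 1024 →
      ap (cA (cmul (cpow cu i) (cpow cw3 j))) 2048 = 2048 → i = 0 ∧ j = 0 := by decide +kernel
  rw [mul_m, tr_m, ← Vb.val_inj, val_m, cd_mul, cd_pow, cd_pow, cd_u1, cd_om] at h1 h2
  obtain ⟨rfl, rfl⟩ := k i hi j hj h1 h2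
  rw [pow_zero, pow_zero, one_mul, one_mul] at hb ⊢
  exact ⟨v, tr_mem_Kb.1 hb, rfl⟩

end Cfsg.Agent.SGJ4.El
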