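/-
Project SGJ4.  The elements of order 3.
-/
import Cfsg.Agent.H80.J4R

set_option autoImplicit false

namespace Cfsg.Agent.SGJ4

open Subgroup AG
open scoped Pointwise

variable {G : Type*} [Group G] [Finite G] (S : Setup G)

theorem Setup.cent_p_le : centralizer {S.p} ≤ S.H := H80.J4.cent_p_le
theorem Setup.card_cent_p : Nat.card (centralizer ({S.p} : Set G)) = 2661120 := by
  rw [H80.J4.cent_p_eq, H80.J4.card_pre_X0]
theorem Setup.conj_three {x : G} (h : orderOf x = 3) : IsConj S.p x := H80.J4.conj_three h

end Cfsg.Agent.SGJ4
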