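/-
Project SGJ4, part Eleven.  The centraliser of the element `y` of order 11 of `N` has order 242.
-/
import Cfsg.Agent.SGJ4.ElM
import Cfsg.Agent.SGJ4.NFacts
import Cfsg.Agent.SGJ4.Order
import Cfsg.Agent.SGJ4.Three
import Cfsg.Agent.SGJ4.FiveSeven

set_option autoImplicit false

namespace Cfsg.Agent.SGJ4.El

open Subgroup AG H14 Setup

variable {G : Type*} [Group G]

theorem isConj_of_uniq [Finite G] {C : Subgroup G} {z u : G} (hz : orderOf z = 2)
    (hu : orderOf u = 2) (m1 : z ∈ C) (m2 : u ∈ C)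
    (h : ∀ w ∈ C, w * w = 1 → w * z = z * w → w = 1 ∨ w = z) : IsConj z u := by
  have h1 := mul_self_of_orderOf hz
  have h2 := mul_self_of_orderOf hu
  rcases Nat.even_or_odd (orderOf (z * u)) with he | ho
  · obtain ⟨k, hk⟩ := exists_invol_pow he
    have h3 := H88.inv_pow_conj h1 h2 k
    have h4 := mul_self_of_orderOf hk
    rw [inv_eq_of_mul_eq_one_right h4] at h3
    have h5 := (h _ (pow_mem (mul_mem m1 m2) k) h4 (by
      conv_rhs => rw [← h3, ← mul_assoc, ← mul_assoc, h1, one_mul])).resolve_left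
      (ne_one_of_orderOf hk (by decide))
    have h6 : z * u * z = z * (z * u) := by
      conv_lhs => enter [2]; rw [← h5]
      conv_rhs => enter [1]; rw [← h5]
      exact (Commute.self_pow _ _).eq
    rw [mul_assoc, mul_right_inj] at h6
    rw [(h u m2 h2 h6).resolve_left (ne_one_of_orderOf hu (by decide))]
  · obtain ⟨k, hk⟩ := H88.exists_conj_of_odd h1 h2 ho (pow_orderOf_eq_one _)
    exact isConj_iff.2 ⟨_, by rw [inv_inv]; exact hk⟩

variable (S : Setup G)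

/-- the element of order 11 of `N` -/
noncomputable def yy : G := S.th y0

/-- the image in M24 of a subgroup of `N` -/
def pm (A : Subgroup G) : Subgroup (Equiv.Perm GolayPt) :=
  (A.comap S.θ).map (pr.comp Ns.subtype)

/-- the intersection of `N` with a conjugate -/
def Xc (c : G) : Subgroup G := S.N ⊓ MulAction.stabilizer G (c : G ⧸ S.N)

variable {S}

theorem y0_Ns : y0 ∈ Ns := Ks_le_Ns y0_mem
theorem orderOf_yy : orderOf (yy S) = 11 := (orderOf_th y0_Ns).trans orderOf_y0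
theorem orderOf_t : orderOf S.t = 2 := (orderOf_th tN_mem).trans orderOf_tN
theorem yy_mem : yy S ∈ S.N := mem_N.2 ⟨_, y0_Ns, rfl⟩
theorem t_mem : S.t ∈ S.N := mem_N.2 ⟨_, tN_mem, rfl⟩
theorem t_yy : S.t * yy S = yy S * S.t := by
  rw [yy, t, ← th_mul tN_mem y0_Ns, tN_y0, th_mul y0_Ns tN_mem]
theorem mem_N_of_t {g : G} (h : g * S.t = S.t * g) : g ∈ S.N :=
  cent_t_le (mem_centralizer_singleton_iff.2 h)

theorem not_conj : ¬ IsConj S.z S.t := fun h => by
  rcases (isConj_th tN_mem orderOf_tN).1 h with h | h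
  · exact h.2 ⟨none, some 0, by decide, ts_eq⟩
  · exact h.1 rfl

theorem cent_yy {g : G} (hg : g ∈ S.N) (h : g * yy S = yy S * g) :
    ∃ i : ℕ, g = yy S ^ i ∨ g = S.t * yy S ^ i := by
  obtain ⟨a, ha, rfl⟩ := mem_N.1 hg
  rw [yy, ← th_mul ha y0_Ns, ← th_mul y0_Ns ha, th_inj (mul_mem ha y0_Ns) (mul_mem y0_Ns ha)] at h
  obtain ⟨i, h | h⟩ := cent_y0 ha h
  · exact ⟨i, Or.inl (by rw [h, th_pow y0_Ns]; rfl)⟩
  · exact ⟨i, Or.inr (by rw [h, th_mul tN_mem (pow_mem y0_Ns i), th_pow y0_Ns]; rfl)⟩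

theorem eq_one_of_mem_yy {g : G} (h : g ∈ zpowers (yy S)) (h2 : g * g = 1) : g = 1 :=
  orderOf_eq_one_iff.1 (Nat.eq_one_of_dvd_coprimes (show Nat.Coprime 11 2 by decide)
    (orderOf_yy (S := S) ▸ orderOf_dvd_of_mem_zpowers h)
    (orderOf_dvd_of_pow_eq_one ((sq g).trans h2)))

theorem invol_cent_yy {g : G} (hg : g ∈ S.N) (h : g * yy S = yy S * g) (h2 : g * g = 1) :
    g = 1 ∨ g = S.t := by
  obtain ⟨i, rfl | rfl⟩ := cent_yy hg h
  · exact Or.inl (eq_one_of_mem_yy (pow_mem (mem_zpowers _) i) h2)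
  · rw [(Commute.pow_right t_yy i).symm.mul_mul_mul_comm, mul_self_of_orderOf orderOf_t,
      one_mul] at h2
    rw [eq_one_of_mem_yy (pow_mem (mem_zpowers _) i) h2, mul_one]
    exact Or.inr rfl

theorem card_N_cent : Nat.card ↥(S.N ⊓ centralizer {yy S}) = 22 := by
  have c : Commute S.t (yy S) := t_yy
  have h1 : orderOf (S.t * yy S) = 22 := by
    rw [c.orderOf_mul_eq_mul_orderOf_of_coprime (by rw [orderOf_t, orderOf_yy]; decide),
      orderOf_t, orderOf_yy]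
  have t2 : S.t ^ 2 = 1 := orderOf_t (S := S) ▸ pow_orderOf_eq_one _
  have y2 : yy S ^ 11 = 1 := orderOf_yy (S := S) ▸ pow_orderOf_eq_one _
  have h2 : yy S ∈ zpowers (S.t * yy S) := ⟨(12 : ℕ), by
    simp only [zpow_natCast]
    rw [c.mul_pow, pow_succ (yy S), y2, show 12 = 2 * 6 from rfl, pow_mul, t2]; simp⟩
  have h3 : S.t ∈ zpowers (S.t * yy S) := (mul_mem_cancel_right h2).1 (mem_zpowers _)
  rw [← h1, ← Nat.card_zpowers]
  congr 3
  refine le_antisymm (fun g hg => ?_) (zpowers_le.2 ⟨mul_mem t_mem yy_mem,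
    mem_centralizer_singleton_iff.2 (c.mul_left rfl)⟩)
  obtain ⟨i, rfl | rfl⟩ := cent_yy hg.1 (mem_centralizer_singleton_iff.1 hg.2)
  exacts [pow_mem h2 i, mul_mem h3 (pow_mem h2 i)]

theorem mem_pm {A : Subgroup G} {g : Equiv.Perm GolayPt} :
    g ∈ pm S A ↔ ∃ a ∈ Ns, S.th a ∈ A ∧ a.p = g :=
  ⟨fun ⟨a, h, e⟩ => ⟨a, a.2, by rw [th_coe]; exact h, e⟩,
    fun ⟨a, h, h1, e⟩ => ⟨⟨a, h⟩, by rw [S.th_eq h] at h1; exact h1, e⟩⟩

theorem pm_le (A : Subgroup G) : pm S A ≤ M24 := fun _ h =>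
  let ⟨_, h1, _, e⟩ := mem_pm.1 h; e ▸ h1.1.1

theorem inj_p {A : Subgroup G} (hA : A ⊓ S.V = ⊥) {a b : AG} (ha : a ∈ Ns) (hb : b ∈ Ns)
    (h1 : S.th a ∈ A) (h2 : S.th b ∈ A) (e : a.p = b.p) : a = b := by
  have h3 := mul_mem (inv_mem ha) hb
  have h4 : lin (a⁻¹ * b) = 1 := by rw [map_mul, map_inv, lin_eq_of_p ha.1 hb.1 e, inv_mul_cancel]
  have h5 : S.th (a⁻¹ * b) ∈ A ⊓ S.V :=
    ⟨by rw [th_mul (inv_mem ha) hb, th_inv ha]; exact A.mul_mem (A.inv_mem h1) h2,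
      mem_V.2 ⟨_, h3.2, by rw [← lin_eq_one.1 h4]⟩⟩
  rwa [hA, mem_bot, th_eq_one h3, inv_mul_eq_one] at h5

theorem card_pm {A : Subgroup G} (h : A ≤ S.N) (hA : A ⊓ S.V = ⊥) :
    Nat.card (pm S A) = Nat.card A := by
  have k : ∀ g : A, ∃ a ∈ Ns, S.th a = g := fun g => mem_N.1 (h g.2)
  choose f h1 h2 using k
  refine (Nat.card_congr (Equiv.ofBijective (fun g : A => (⟨(f g).p,
    mem_pm.2 ⟨_, h1 g, h2 g ▸ g.2, rfl⟩⟩ : pm S A)) ⟨fun a b e => Subtype.ext ?_, ?_⟩)).symm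
  · rw [← h2, ← h2, inj_p hA (h1 a) (h1 b) (h2 a ▸ a.2) (h2 b ▸ b.2) (congrArg Subtype.val e)]
  · rintro ⟨_, hg⟩
    obtain ⟨a, ha, h3, rfl⟩ := mem_pm.1 hg
    exact ⟨⟨_, h3⟩, Subtype.ext (congrArg AG.p ((th_inj (h1 _) ha).1 (h2 _)))⟩

theorem mem_stab {c g : G} : g ∈ MulAction.stabilizer G (c : G ⧸ S.N) ↔ c⁻¹ * g * c ∈ S.N := by
  rw [MulAction.mem_stabilizer_iff, MulAction.Quotient.smul_coe, eq_comm, QuotientGroup.eq,
    smul_eq_mul, mul_assoc]

theorem mem_Xc {c g : G} : g ∈ Xc S c ↔ g ∈ S.N ∧ c⁻¹ * g * c ∈ S.N :=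
  and_congr_right' mem_stab

theorem V_sq {g : G} (h : g ∈ S.V) : g * g = 1 := by
  obtain ⟨v, hv, rfl⟩ := mem_V.1 h
  rw [← th_mul (tr_mem_Ns.2 hv) (tr_mem_Ns.2 hv), tr_mul_self, th_one]

theorem V_comm {g h : G} (hg : g ∈ S.V) (hh : h ∈ S.V) : g * h = h * g := by
  rw [← inv_eq_of_mul_eq_one_right (V_sq (mul_mem hg hh)), mul_inv_rev,
    inv_eq_of_mul_eq_one_right (V_sq hg), inv_eq_of_mul_eq_one_right (V_sq hh)]

theorem conj_mem_V {g v : G} (hg : g ∈ S.N) (hv : v ∈ S.V) : g * v * g⁻¹ ∈ S.V := by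
  rw [N_eq] at hg
  exact (mem_normalizer_iff.1 hg v).1 hv

theorem card_N : Nat.card S.N = 501397585920 := (card_im le_rfl).trans card_Ns

variable [Finite G]

theorem index_N : Nat.card (G ⧸ S.N) = 173067389 := by
  have := S.N.card_mul_index
  rw [card_N, S.card_G, index_eq_card] at this
  omega

theorem not_comm_z {g : G} : g * S.z * g⁻¹ * yy S ≠ yy S * (g * S.z * g⁻¹) := fun h =>
  not_conj ((isConj_iff.2 ⟨g, rfl⟩).trans (isConj_of_uniq (C := centralizer {yy S}) orderOf_t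
    ((orderOf_conj' _ _).trans S.ord_z) (mem_centralizer_singleton_iff.2 t_yy)
    (mem_centralizer_singleton_iff.2 h) fun _ h1 h2 h3 =>
      invol_cent_yy (mem_N_of_t h3) (mem_centralizer_singleton_iff.1 h1) h2).symm)

omit [Finite G] in
theorem card_cent_t_yy : Nat.card ↥(centralizer {yy S} ⊓ centralizer {S.t}) = 22 := by
  rw [← card_N_cent (S := S)]
  congr 3
  refine le_antisymm (le_inf (inf_le_right.trans cent_t_le) inf_le_left)
    (le_inf inf_le_right fun g hg => mem_centralizer_singleton_iff.2 ?_)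
  have c : Commute S.t (yy S) := t_yy
  obtain ⟨i, rfl | rfl⟩ := cent_yy hg.1 (mem_centralizer_singleton_iff.1 hg.2)
  exacts [(c.pow_right i).symm, ((Commute.refl _).mul_right (c.pow_right i)).symm]

theorem not_four : ¬ 4 ∣ Nat.card (centralizer ({yy S} : Set G)) := by
  have h1 := card_eq_cls_mul (centralizer {yy S}) S.t
  rw [card_cent_t_yy] at h1
  have h2 : (cls (centralizer {yy S}) S.t).ncard ≡ 1 [MOD 2] := by
    have ht : S.t ∈ centralizer {yy S} := mem_centralizer_singleton_iff.2 t_yy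
    refine (ncard_modEq Nat.prime_two (orderOf_t (S := S) ▸ pow_orderOf_eq_one S.t) ?_).trans
      (congrArg (· % 2) ?_)
    · rintro _ ⟨c, hc, rfl⟩
      exact ⟨S.t * c, mul_mem ht hc, by group⟩
    · rw [Set.ncard_eq_one]
      refine ⟨S.t, Set.eq_singleton_iff_unique_mem.2 ⟨⟨self_mem_cls _ _, rfl⟩, ?_⟩⟩
      rintro _ ⟨⟨c, hc, rfl⟩, h⟩
      have h4 := (orderOf_conj' c S.t).trans orderOf_t
      exact (invol_cent_yy (mem_N_of_t h.symm) (mem_centralizer_singleton_iff.1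
        (cls_subset ht ⟨c, hc, rfl⟩)) (mul_self_of_orderOf h4)).resolve_left
        (ne_one_of_orderOf h4 (by decide))
  unfold Nat.ModEq at h2
  omega

theorem not_three : ¬ 3 ∣ Nat.card (centralizer ({yy S} : Set G)) := fun h => by
  obtain ⟨w, hw, ho⟩ := exists_orderOf Nat.prime_three h
  obtain ⟨c, rfl⟩ := isConj_iff.1 (S.conj_three ho)
  have h1 := conj_comm (g := c⁻¹) (mem_centralizer_singleton_iff.1 hw)
  rw [show c⁻¹ * (c * S.p * c⁻¹) * c⁻¹⁻¹ = S.p by group] at h1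
  have h2 := conj_comm (g := c) (S.mem_H.1 (S.cent_p_le (mem_centralizer_singleton_iff.2 h1.symm)))
  rw [show c * (c⁻¹ * yy S * c⁻¹⁻¹) * c⁻¹ = yy S by group] at h2
  exact not_comm_z h2.symm

theorem ne_eleven_five (S : Setup G) {w x : G} (ox : orderOf x = 11) (h : w * x = x * w) : orderOf w ≠ 5 :=
  fun ho => by
    have := dvd_card_cent h.symm
    rw [S.card_cent_five ho, ox] at this
    omega

theorem ne_eleven_seven (S : Setup G) {w x : G} (ox : orderOf x = 11) (h : w * x = x * w) : orderOf w ≠ 7 :=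
  fun ho => by
    have := dvd_card_cent h.symm
    rw [S.card_cent_seven ho, ox] at this
    omega

theorem dvd_two {n : ℕ} (h1 : n ∣ Nat.card (centralizer ({yy S} : Set G))) (h2 : n ∣ 6720) :
    n ∣ 2 := by
  have h5 : ¬ 5 ∣ n := fun h => by
    obtain ⟨w, hw, ho⟩ := exists_orderOf Nat.prime_five (h.trans h1)
    exact ne_eleven_five S orderOf_yy (mem_centralizer_singleton_iff.1 hw) ho
  have h7 : ¬ 7 ∣ n := fun h => by
    obtain ⟨w, hw, ho⟩ := exists_orderOf Nat.prime_seven (h.trans h1)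
    exact ne_eleven_seven S orderOf_yy (mem_centralizer_singleton_iff.1 hw) ho
  have d : ∀ n ∈ Nat.divisors 6720, ¬ 4 ∣ n → ¬ 3 ∣ n → ¬ 5 ∣ n → ¬ 7 ∣ n → n ∣ 2 := by
    decide +kernel
  exact d n (Nat.mem_divisors.2 ⟨h2, by decide⟩) (fun h => not_four (h.trans h1))
    (fun h => not_three (h.trans h1)) h5 h7

omit [Finite G] in
theorem conj_yy {c : G} (hc : c * yy S = yy S * c) : c⁻¹ * yy S * c = yy S := by
  rw [mul_assoc, ← hc, inv_mul_cancel_left]

omit [Finite G] in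
theorem yy_mem_Xc {c : G} (hc : c * yy S = yy S * c) : yy S ∈ Xc S c :=
  mem_Xc.2 ⟨yy_mem, by rw [conj_yy hc]; exact yy_mem⟩

omit [Finite G] in
theorem cent_Xc {c : G} (hc : c * yy S = yy S * c) (hN : c ∉ S.N) {g : G} (hg : g ∈ Xc S c)
    (h : g * yy S = yy S * g) : g ∈ zpowers (yy S) := by
  obtain ⟨i, rfl | rfl⟩ := cent_yy hg.1 h
  · exact pow_mem (mem_zpowers _) i
  · have h1 := (mem_Xc.1 ((mul_mem_cancel_right (pow_mem (yy_mem_Xc hc) i)).1 hg)).2
    have h2 := (orderOf_conj' c⁻¹ S.t).trans orderOf_t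
    have h3 := conj_comm (g := c⁻¹) (t_yy (S := S))
    rw [inv_inv] at h2 h3
    rw [conj_yy hc] at h3
    have h4 := (invol_cent_yy h1 h3 (mul_self_of_orderOf h2)).resolve_left
      (ne_one_of_orderOf h2 (by decide))
    exact absurd (mem_N_of_t (by rw [mul_assoc, inv_mul_eq_iff_eq_mul] at h4; exact h4.symm)) hN

theorem Xc_inf_V {c : G} (hc : c * yy S = yy S * c) (hN : c ∉ S.N) : Xc S c ⊓ S.V = ⊥ := by
  have hy : yy S ^ 11 = 1 := orderOf_yy (S := S) ▸ pow_orderOf_eq_one _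
  have key : ∀ A : Subgroup G, A ≤ Xc S c ⊓ S.V → (∀ s ∈ A, yy S * s * (yy S)⁻¹ ∈ A) →
      Nat.card A = 1 ∨ Nat.card A = 1024 := fun A hA h => by
    have h1 := card_modEq_one (by norm_num) hy h fun s hs e =>
      eq_one_of_mem_yy (cent_Xc hc hN (hA hs).1 e.symm) (V_sq (hA hs).2)
    obtain ⟨k, hk, e⟩ := (Nat.dvd_prime_pow Nat.prime_two).1
      (card_V (S := S) ▸ card_dvd_of_le (hA.trans inf_le_right))
    rw [e] at h1 ⊢
    interval_cases k <;> first | decide | exact absurd h1 (by decide)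
  have hA : ∀ s ∈ Xc S c ⊓ S.V, yy S * s * (yy S)⁻¹ ∈ Xc S c ⊓ S.V := fun s hs =>
    mem_inf.2 ⟨mul_mem (mul_mem (yy_mem_Xc hc) hs.1) (inv_mem (yy_mem_Xc hc)),
      conj_mem_V yy_mem hs.2⟩
  refine card_eq_one.1 ((key _ le_rfl hA).resolve_right fun h1 => ?_)
  let φ := (MulAut.conj c⁻¹).toMonoidHom
  have hφ : ∀ g, φ g = c⁻¹ * g * c := fun g => by simp [φ]
  have hi : Function.Injective φ := (MulAut.conj c⁻¹).injective
  rcases key (Xc S c ⊓ S.V ⊓ S.V.comap φ) inf_le_left (fun s hs => ⟨hA s hs.1, by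
    have := conj_mem_V yy_mem (show φ s ∈ S.V from hs.2)
    change φ _ ∈ S.V
    rwa [map_mul, map_mul, map_inv, hφ (yy S), conj_yy hc]⟩) with h2 | h2
  · have h3 : (Xc S c ⊓ S.V).map φ ≤ S.N := by
      rintro _ ⟨g, hg, rfl⟩
      rw [hφ]; exact (mem_Xc.1 hg.1).2
    have h4 : (Xc S c ⊓ S.V).map φ ⊓ S.V = ⊥ := eq_bot_iff.2 (by
      rintro _ ⟨⟨g, hg, rfl⟩, h⟩
      have : g ∈ Xc S c ⊓ S.V ⊓ S.V.comap φ := ⟨hg, h⟩
      rw [card_eq_one.1 h2, mem_bot] at this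
      rw [this, map_one]; exact one_mem _)
    refine not_elem (pm_le _) ((card_pm h3 h4).trans ((card_map_of_injective hi).trans h1)) ?_
    intro g hg
    obtain ⟨a, ha, ⟨s, hs, e⟩, rfl⟩ := mem_pm.1 hg
    rw [← mul_p, (th_eq_one (S := S) (mul_mem ha ha)).1, one_p]
    rw [th_mul ha ha, ← e, ← map_mul, V_sq hs.2, map_one]
  · have h3 : Xc S c ⊓ S.V ≤ S.V.comap φ :=
      inf_eq_left.1 (eq_of_le_of_card_ge inf_le_left (h1.trans h2.symm).le)
    have h4 : ((Xc S c ⊓ S.V).subgroupOf S.V).index = 2 := by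
      have := card_inf_mul_relIndex (Xc S c ⊓ S.V) S.V
      rw [inf_assoc, inf_idem, h1, card_V] at this
      change relIndex _ _ = 2
      omega
    obtain ⟨v, hv, h5⟩ : ∃ v, IsDuad v ∧ S.th (tr v) ∈ Xc S c ⊓ S.V := by
      have d1 : IsDuad (cl {none, some 0}) := ⟨_, _, by decide, rfl⟩
      have d2 : IsDuad (cl {some 0, some 1}) := ⟨_, _, by decide, rfl⟩
      have d3 : IsDuad (cl {none, some 0} + cl {some 0, some 1}) :=
        ⟨none, some 1, by decide, by rw [← cl_symmDiff]; congr 1⟩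
      by_contra h
      push Not at h
      refine h _ d3 ?_
      rw [tr_add, th_mul (tr_mem_Ns.2 d1.mem_Ev) (tr_mem_Ns.2 d2.mem_Ev)]
      exact (mul_mem_iff_of_index_two h4 (a := ⟨_, mem_V.2 ⟨_, d1.mem_Ev, rfl⟩⟩)
        (b := ⟨_, mem_V.2 ⟨_, d2.mem_Ev, rfl⟩⟩)).2 (iff_of_false (h _ d1) (h _ d2))
    obtain ⟨a, ha, rfl⟩ := duad_trans hv
    have ha' := Ks_le_Ns ha
    rw [← conj_tr, th_conj ha' (tr_mem_Ns.2 ts_mem')] at h5
    have h6 : S.V.comap φ ≤ S.N := fun g hg => by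
      have h7 : g * (S.th a * S.t * (S.th a)⁻¹) = (S.th a * S.t * (S.th a)⁻¹) * g :=
        hi (by rw [map_mul, map_mul φ _ g]; exact V_comm hg (h3 h5))
      have hn : S.th a ∈ S.N := mem_N.2 ⟨a, ha', rfl⟩
      have h8 := conj_comm (g := (S.th a)⁻¹) h7
      rw [show (S.th a)⁻¹ * (S.th a * S.t * (S.th a)⁻¹) * (S.th a)⁻¹⁻¹ = S.t by group] at h8
      exact (mul_mem_cancel_left (inv_mem hn)).1
        ((mul_mem_cancel_right (inv_mem (inv_mem hn))).1 (mem_N_of_t h8))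
    have h7 : Nat.card (S.V.comap φ) = 2 ^ 11 := by
      rw [← card_V (S := S)]
      exact Nat.card_congr ((MulAut.conj c⁻¹).toEquiv.subtypeEquiv fun _ => Iff.rfl)
    have h8 := uniq' (S := S) (T := S.V.comap φ ⊔ S.V) (A := S.V.comap φ)
      (IsPGroup.to_sup_of_normal_right' (IsPGroup.of_card h7) (IsPGroup.of_card card_V)
        (N_eq (S := S) ▸ h6)) le_sup_right le_sup_left ?_ h7
    · refine hN (N_eq (S := S) ▸ mem_normalizer_iff''.2 fun g => ?_)
      rw [← hφ, ← mem_comap, h8]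
    · exact ⟨⟨⟨fun a b => Subtype.ext (hi (by
        rw [coe_mul, coe_mul, map_mul, map_mul]; exact V_comm a.2 b.2))⟩⟩,
        fun a ha => hi (by rw [sq, map_mul, map_one]; exact V_sq ha)⟩

theorem t_comm_of_norm {d : G} (hd : d ∈ S.N) (h : d * yy S * d⁻¹ ∈ zpowers (yy S)) :
    d * S.t = S.t * d := by
  have h1 := (orderOf_conj' d S.t).trans orderOf_t
  have h2 : d * S.t * d⁻¹ ∈ centralizer {yy S} := by
    rw [← H35.centralizer_eq_of_mem (by norm_num) orderOf_yy h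
      (ne_one_of_orderOf ((orderOf_conj' _ _).trans orderOf_yy) (by decide))]
    exact mem_centralizer_singleton_iff.2 (conj_comm t_yy)
  exact mul_inv_eq_iff_eq_mul.1 ((invol_cent_yy (mul_mem (mul_mem hd t_mem) (inv_mem hd))
    (mem_centralizer_singleton_iff.1 h2) (mul_self_of_orderOf h1)).resolve_left
      (ne_one_of_orderOf h1 (by decide)))

theorem not_five {c : G} (hc : c * yy S = yy S * c) (hN : c ∉ S.N) {d : G} (hd : d ∈ Xc S c)
    (h : d * yy S * d⁻¹ ∈ zpowers (yy S)) : orderOf d ≠ 5 := fun ho => by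
  have h1 := t_comm_of_norm hd.1 h
  have h2 := conj_comm (g := c) (t_comm_of_norm (mem_Xc.1 hd).2 (by
    obtain ⟨k, hk⟩ := mem_zpowers_iff.1 h
    have : c⁻¹ * d * c * yy S * (c⁻¹ * d * c)⁻¹ = c⁻¹ * (d * (c * yy S * c⁻¹) * d⁻¹) * c := by group
    rw [this, hc, mul_inv_cancel_right, ← hk, mul_assoc, ← (Commute.zpow_right hc k).eq,
      inv_mul_cancel_left]
    exact zpow_mem (mem_zpowers _) k))
  rw [show c * (c⁻¹ * d * c) * c⁻¹ = d by group] at h2
  have h3 := conj_comm (g := c) (t_yy (S := S))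
  rw [hc, mul_inv_cancel_right] at h3
  have h4 := (orderOf_conj' c S.t).trans orderOf_t
  have h5 : c * S.t * c⁻¹ ≠ S.t := fun e => hN (mem_N_of_t (mul_inv_eq_iff_eq_mul.1 e))
  generalize c * S.t * c⁻¹ = u at h2 h3 h4 h5
  have h6 := orderOf_dvd_iff_pow_eq_one.1 (dvd_two (dvd_card_cent (Commute.mul_left t_yy h3))
    (S.card_cent_five ho ▸ dvd_card_cent (Commute.mul_left h1.symm h2.symm)))
  have h7 : u * S.t = S.t * u := by
    rw [← inv_eq_of_mul_eq_one_right ((sq _).symm.trans h6), mul_inv_rev,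
      inv_eq_of_mul_eq_one_right (mul_self_of_orderOf h4),
      inv_eq_of_mul_eq_one_right (mul_self_of_orderOf orderOf_t)]
  exact h5 ((invol_cent_yy (mem_N_of_t h7) h3 (mul_self_of_orderOf h4)).resolve_left
    (ne_one_of_orderOf h4 (by decide)))

theorem card_stab {c : G} (hc : c * yy S = yy S * c) (hN : c ∉ S.N) :
    Nat.card ↥(pm S (Xc S c) ⊓ MulAction.stabilizer (Equiv.Perm GolayPt) (none : GolayPt)) = 11 ∨
    Nat.card ↥(pm S (Xc S c) ⊓ MulAction.stabilizer (Equiv.Perm GolayPt) (none : GolayPt)) = 253 := by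
  have hV := Xc_inf_V hc hN
  have hy := yy_mem_Xc hc
  refine card_of_selfnorm (y := ⟨yp, mem_pm.2 ⟨_, y0_Ns, hy, rfl⟩, yp_none⟩)
    ((orderOf_coe _).symm.trans orderOf_yp) ?_
    (card_M23 ▸ card_dvd_of_le (inf_le_inf_right _ (pm_le _)))
  rintro ⟨g, hg, h0⟩ h
  have e : ∀ (x y : ↥(pm S (Xc S c) ⊓ MulAction.stabilizer (Equiv.Perm GolayPt) (none : GolayPt))),
      x ∈ zpowers y ↔ x.1 ∈ zpowers y.1 := fun x y =>
    ⟨fun ⟨k, hk⟩ => ⟨k, congrArg Subtype.val hk⟩, fun ⟨k, hk⟩ => ⟨k, Subtype.ext hk⟩⟩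
  rw [e] at h ⊢
  change g * yp * g⁻¹ ∈ zpowers yp at h
  change g ∈ zpowers yp
  have h1 := norm_yp (pm_le _ hg) h h0
  obtain ⟨a, ha, h2, rfl⟩ := mem_pm.1 hg
  have k : ∀ b ∈ Ns, S.th b ∈ Xc S c → b.p ∈ zpowers yp → S.th b ∈ zpowers (yy S) := by
    intro b hb h3 h4
    obtain ⟨i, -, h5⟩ := exists_pow_of_mem h4
    rw [← inj_p hV (pow_mem y0_Ns i) hb (by rw [th_pow y0_Ns]; exact pow_mem hy i) h3
      ((pow_p _ _).trans h5), th_pow y0_Ns]
    exact pow_mem (mem_zpowers _) i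
  have h3 := k _ (mul_mem (mul_mem ha y0_Ns) (inv_mem ha))
    (by rw [th_conj ha y0_Ns]; exact mul_mem (mul_mem h2 hy) (inv_mem h2)) h
  have h4 := k _ (pow_mem ha 5) (by rw [th_pow ha]; exact pow_mem h2 5) (by rwa [pow_p])
  rw [th_conj ha y0_Ns] at h3
  rw [th_pow ha] at h4
  have h5 : (S.th a ^ 11) ^ 5 = 1 := by
    rw [← pow_mul, mul_comm, pow_mul]
    exact orderOf_dvd_iff_pow_eq_one.1 (orderOf_yy (S := S) ▸ orderOf_dvd_of_mem_zpowers h4)
  have h6 : S.th a ^ 11 = 1 := by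
    by_contra h6
    haveI := Fact.mk Nat.prime_five
    exact not_five hc hN (pow_mem h2 11) (H35.mem_normalizer_zpowers_iff.1
      (pow_mem (H35.mem_normalizer_zpowers_iff.2 h3) 11)) (orderOf_eq_prime h5 h6)
  rw [← th_pow ha, th_eq_one (pow_mem ha 11)] at h6
  have h7 : a.p = (a.p ^ 5) ^ 9 := by
    rw [← pow_mul, show 5 * 9 = 11 * 4 + 1 from rfl, pow_succ, pow_mul, ← pow_p a 11, h6, one_p,
      one_pow, one_mul]
  exact h7 ▸ pow_mem h1 9

theorem card_Xc_eq {c : G} (hc : c * yy S = yy S * c) (hN : c ∉ S.N) :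
    Nat.card (Xc S c) = {a | ∃ g ∈ pm S (Xc S c), g • (none : GolayPt) = a}.ncard * Nat.card
      ↥(pm S (Xc S c) ⊓ MulAction.stabilizer (Equiv.Perm GolayPt) (none : GolayPt)) := by
  rw [← card_eq_orbit_mul, card_pm (A := Xc S c) inf_le_left (Xc_inf_V hc hN)]

omit [Finite G] in
theorem ncard_le (T : Set GolayPt) : T.ncard ≤ 24 := by
  have := Set.ncard_le_ncard (Set.subset_univ T)
  rwa [Set.ncard_univ, Nat.card_eq_fintype_card, card_golayPt] at this

theorem card_Xc_le {c : G} (hc : c * yy S = yy S * c) (hN : c ∉ S.N) :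
    Nat.card (Xc S c) ≤ 6072 := by
  rw [card_Xc_eq hc hN]
  rcases card_stab hc hN with h | h <;> rw [h]
  exacts [(Nat.mul_le_mul_right _ (ncard_le _)).trans (by decide),
    Nat.mul_le_mul_right _ (ncard_le _)]

omit [Finite G] in
theorem orbit_mul (c : G) : {a | ∃ g ∈ S.N, g • (c : G ⧸ S.N) = a}.ncard * Nat.card (Xc S c) =
    501397585920 := (card_eq_orbit_mul S.N _).symm.trans card_N

theorem ncard_le_index (T : Set (G ⧸ S.N)) : T.ncard ≤ 173067389 := by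
  have := Set.ncard_le_ncard (Set.subset_univ T)
  rwa [Set.ncard_univ, index_N] at this

theorem card_cent_le : Nat.card (centralizer ({yy S} : Set G)) ≤ 22 * 45 := by
  have h1 := card_eq_orbit_mul (centralizer {yy S}) ((1 : G) : G ⧸ S.N)
  rw [show MulAction.stabilizer G ((1 : G) : G ⧸ S.N) = S.N from
    MulAction.stabilizer_quotient _, inf_comm, card_N_cent] at h1
  set F := {a | ∃ g ∈ centralizer {yy S}, g • ((1 : G) : G ⧸ S.N) = a}
  let O : G ⧸ S.N → Set (G ⧸ S.N) := fun b => {a | ∃ g ∈ S.N, g • b = a}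
  have hO : ∀ b ∈ F, b ≠ ((1 : G) : G ⧸ S.N) → 82575360 ≤ (O b).ncard := by
    rintro _ ⟨c, hc, rfl⟩ h
    rw [MulAction.Quotient.smul_coe, smul_eq_mul, mul_one] at h ⊢
    have h2 := card_Xc_le (mem_centralizer_singleton_iff.1 hc) fun hN =>
      h (QuotientGroup.eq.2 (by simpa using hN))
    have h3 := orbit_mul (S := S) c
    change (O c).ncard * _ = _ at h3
    nlinarith
  have hF : ∀ b, (F ∩ O b).ncard ≤ 22 := fun b => by
    refine le_trans (Set.ncard_le_ncard ?_ (Set.toFinite _))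
      ((ncard_fix_orbit_le S.N b yy_mem).trans_eq card_N_cent)
    rintro _ ⟨⟨c, hc, rfl⟩, h⟩
    refine ⟨h, ?_⟩
    rw [← mul_smul, ← mem_centralizer_singleton_iff.1 hc, mul_smul]
    congr 1
    exact QuotientGroup.eq.2 (by simpa using yy_mem)
  have hd : ∀ a b, a ∉ O b → Disjoint (O a) (O b) := fun a b h => Set.disjoint_left.2 (by
    rintro _ ⟨g, hg, rfl⟩ ⟨g', hg', e⟩
    exact h ⟨g⁻¹ * g', mul_mem (inv_mem hg) hg', by rw [mul_smul, e, inv_smul_smul]⟩)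
  have hc : ∃ a b, F ⊆ {((1 : G) : G ⧸ S.N)} ∪ (F ∩ O a ∪ F ∩ O b) := by
    by_contra h
    push Not at h
    have k : ∀ a b, ∃ x ∈ F, x ≠ ((1 : G) : G ⧸ S.N) ∧ x ∉ O a ∧ x ∉ O b := fun a b => by
      obtain ⟨x, h2, h3⟩ := Set.not_subset.1 (h a b)
      exact ⟨x, h2, fun e => h3 (Or.inl e), fun e => h3 (Or.inr (Or.inl ⟨h2, e⟩)),
        fun e => h3 (Or.inr (Or.inr ⟨h2, e⟩))⟩
    obtain ⟨a, a1, a2, -⟩ := k (1 : G) (1 : G)
    obtain ⟨b, b1, b2, b3, -⟩ := k a a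
    obtain ⟨c, c1, c2, c3, c4⟩ := k a b
    have h2 := ncard_le_index (O c ∪ (O b ∪ O a))
    rw [Set.ncard_union_eq (Set.disjoint_union_right.2 ⟨hd _ _ c4, hd _ _ c3⟩),
      Set.ncard_union_eq (hd _ _ b3)] at h2
    have := hO a a1 a2
    have := hO b b1 b2
    have := hO c c1 c2
    omega
  obtain ⟨a, b, hc⟩ := hc
  have h2 := (Set.ncard_le_ncard hc).trans (Set.ncard_union_le _ _)
  have h3 := Set.ncard_union_le (F ∩ O a) (F ∩ O b)
  have := hF a
  have := hF b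
  rw [Set.ncard_singleton] at h2
  omega

omit [Finite G] in
theorem exists_sylow_mem {p : ℕ} [Fact p.Prime] {g : G} (hg : orderOf g = p) :
    ∃ U : Sylow p G, g ∈ U :=
  let ⟨U, h⟩ := (IsPGroup.of_card (n := 1) (G := zpowers g)
    ((Nat.card_zpowers g).trans (hg.trans (pow_one p).symm))).exists_le_sylow
  ⟨U, h (mem_zpowers g)⟩

/-- a nontrivial element of a `p`-group of order at least `p ^ 2` -/
theorem sq_dvd_card_cent {p : ℕ} [hp : Fact p.Prime] {U : Subgroup G} (hU : IsPGroup p U)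
    (h2 : p ^ 2 ∣ Nat.card U) {g : G} (hg : g ∈ U) :
    p ^ 2 ∣ Nat.card (centralizer ({g} : Set G)) := by
  obtain ⟨k, hk⟩ := IsPGroup.iff_card.1 (hU.to_le (inf_le_left : U ⊓ centralizer {g} ≤ U))
  refine dvd_trans ?_ (card_dvd_of_le (inf_le_right : U ⊓ centralizer {g} ≤ _))
  by_cases hc : ∀ u ∈ U, u * g = g * u
  · rwa [inf_eq_left.2 fun u hu => mem_centralizer_singleton_iff.2 (hc u hu)]
  rw [hk]
  refine pow_dvd_pow p (not_lt.1 fun h => hc fun u hu => ?_)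
  haveI : Nontrivial U := by
    by_contra hn
    rw [not_nontrivial_iff_subsingleton] at hn
    rw [Nat.card_of_subsingleton (1 : U)] at h2
    exact hp.out.ne_one (Nat.dvd_one.1 ((dvd_pow_self p two_ne_zero).trans h2))
  haveI := hU.center_nontrivial
  obtain ⟨w, hw, ho⟩ := exists_orderOf hp.out (A := center U)
    ((hU.to_subgroup _).card_eq_or_dvd.resolve_left Finite.one_lt_card.ne')
  rw [← orderOf_coe] at ho
  have h3 : zpowers (w : G) = U ⊓ centralizer {g} := eq_of_le_of_card_ge (zpowers_le.2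
    ⟨w.2, mem_centralizer_singleton_iff.2 (congrArg Subtype.val
      (mem_center_iff.1 hw ⟨g, hg⟩)).symm⟩) (by
    rw [hk, Nat.card_zpowers, ho]
    exact (Nat.pow_le_pow_right hp.out.pos (Nat.lt_succ_iff.1 h)).trans_eq (pow_one p))
  obtain ⟨i, rfl⟩ := mem_zpowers_iff.1 (h3 ▸ ⟨hg, mem_centralizer_singleton_iff.2 rfl⟩ :
    g ∈ zpowers (w : G))
  exact Commute.zpow_right (congrArg Subtype.val (mem_center_iff.1 hw ⟨u, hu⟩)) i

instance fact11 : Fact (Nat.Prime 11) := ⟨by norm_num⟩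

theorem card_sylow11 (S : Setup G) (U : Sylow 11 G) : Nat.card U = 11 ^ 3 := by
  rw [U.card_eq_multiplicity, S.card_G]; decide +kernel

theorem dvd_card_cent11 (S : Setup G) {g : G} (hg : orderOf g = 11) :
    121 ∣ Nat.card (centralizer ({g} : Set G)) := by
  obtain ⟨U, h⟩ := exists_sylow_mem hg
  exact sq_dvd_card_cent U.2 (by rw [card_sylow11 S]; decide) h

theorem card_cent_yy : Nat.card (centralizer ({yy S} : Set G)) = 242 := by
  have key : ∀ n : ℕ, n ≤ 22 * 45 → ¬ 4 ∣ n → ¬ 3 ∣ n → 121 ∣ n → 2 ∣ n → 0 < n → n = 242 := by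
    rintro _ h1 h2 h3 ⟨k, rfl⟩ h5 h6
    have d : ∀ k < 9, ¬ 4 ∣ 121 * k → ¬ 3 ∣ 121 * k → 2 ∣ 121 * k → 121 * k = 242 := by
      decide +kernel
    exact d k (by clear h2 h3 h5; omega) h2 h3 h5
  have h5 := dvd_card_cent (t_yy (S := S))
  rw [orderOf_t] at h5
  exact key _ card_cent_le not_four not_three (dvd_card_cent11 S orderOf_yy) h5 Nat.card_pos

end Cfsg.Agent.SGJ4.El
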