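/-
Project SGJ4, part Eleven.  The element `x` of order 11 of `H`, its centraliser, the Sylow
11-subgroups and the two classes of elements of order 11.
-/
import Cfsg.Agent.SGJ4.ElY
import Cfsg.Agent.H75.Q8Ext
import Cfsg.Agent.H73.PCube

set_option autoImplicit false

namespace Cfsg.Agent.SGJ4.El

open Subgroup AG H14 Setup Setup1

variable {G : Type*} [Group G]

section H
variable {S : Setup1 G}

theorem eq_of_pi_odd {g h : G} (hg : g ∈ S.H) (hh : h ∈ S.H) (e : S.pi g = S.pi h) {n : ℕ}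
    (hn : Odd n) (h1 : g ^ n = 1) (h2 : h ^ n = 1) : g = h := by
  refine ((pi_eq_iff hg hh).1 e).resolve_right fun e => S.z_ne_one ?_
  obtain ⟨k, rfl⟩ := hn
  rwa [e, Commute.mul_pow (S.mem_H.1 hh), h2, one_mul, pow_succ, pow_mul, sq, S.z_mul_z, one_pow,
    one_mul] at h1

theorem card_H (S : Setup1 G) : Nat.card S.H = 21799895040 := by
  rw [← pre_Hb, card_pre le_rfl, card_Hb]

/-- `x` is the lift of order 11 of `a0` -/
structure IsX (S : Setup1 G) (x : G) : Prop where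
  mem : x ∈ S.H
  pi : S.pi x = a0
  ord : orderOf x = 11

theorem a0_ne_one : a0 ≠ 1 := fun h => by
  have := orderOf_a0_p
  rw [h, one_p, orderOf_one] at this
  omega

theorem exists_isX (S : Setup1 G) : ∃ x, IsX S x := by
  obtain ⟨g, hg, e⟩ := exists_pi (S := S) (X_le_Hb a0_mem)
  have h1 : S.pi (g ^ 12) = a0 := by rw [pi_pow hg, e, pow_succ, a0_pow, one_mul]
  refine ⟨g ^ 12, pow_mem hg _, h1, orderOf_eq_prime ?_ fun h => a0_ne_one ?_⟩
  · rw [← pow_mul, mul_comm, pow_mul, show 12 = 2 * 6 from rfl, pow_mul, sq]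
    rcases (pi_eq_one (pow_mem hg 11)).1 (by rw [pi_pow hg, e, a0_pow]) with h | h <;> rw [h]
    · simp
    · rw [S.z_mul_z, one_pow]
  · rw [← h1, h, pi_one]

variable {x : G} (hx : IsX S x)
include hx

theorem IsX.pow : x ^ 11 = 1 := hx.ord ▸ pow_orderOf_eq_one x

theorem IsX.conj_eq {g : G} (hg : g ∈ S.H) {k : ℕ} (h : S.pi g * a0 * (S.pi g)⁻¹ = a0 ^ k) :
    g * x * g⁻¹ = x ^ k :=
  eq_of_pi_odd (mul_mem (mul_mem hg hx.mem) (inv_mem hg)) (pow_mem hx.mem k)
    (by rw [pi_conj hg hx.mem, pi_pow hx.mem, hx.pi, h]) (n := 11) (by decide)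
    (by rw [conj_pow, hx.pow, mul_one, mul_inv_cancel])
    (by rw [← pow_mul, mul_comm, pow_mul, hx.pow, one_pow])

theorem IsX.comm_iff {g : G} (hg : g ∈ S.H) : g * x = x * g ↔ S.pi g * a0 = a0 * S.pi g :=
  ⟨fun h => by rw [← hx.pi, ← pi_mul hg hx.mem, h, pi_mul hx.mem hg], fun h => by
    have := hx.conj_eq hg (k := 1) (by rw [h, mul_inv_cancel_right, pow_one])
    rwa [pow_one, mul_inv_eq_iff_eq_mul] at this⟩

theorem IsX.card_cent_H : Nat.card ↥(centralizer {x} ⊓ S.H) = 264 := by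
  have : centralizer {x} ⊓ S.H = S.pre (Hb ⊓ centralizer {a0}) := by
    ext g
    rw [mem_pre, mem_inf, mem_inf, mem_centralizer_singleton_iff (g := x),
      mem_centralizer_singleton_iff (g := a0), and_iff_right (pi_mem g), and_comm]
    exact and_congr_right hx.comm_iff
  rw [this, card_pre inf_le_left, card_cent_a0]

theorem IsX.invol {w : G} (hw : w ∈ S.H) (h : w * x = x * w) (h2 : w * w = 1) :
    w = 1 ∨ w = S.z := by
  obtain ⟨v, hv, e⟩ := invol_cent_a0 (pi_mem w) ((hx.comm_iff hw).1 h)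
    (by rw [← pi_mul hw hw, h2, pi_one])
  have h3 := sq_of_pi hw e
  rw [h2, eq_comm, zp_eq_one S.z_ne_one] at h3
  rw [eq_zero_of_Fa hv h3] at e
  exact (pi_eq_one hw).1 e

theorem IsX.p_comm : S.p * x = x * S.p := (hx.comm_iff S.p_mem).2 (by rw [pi_p, om_a0])

omit hx in
theorem exists_e (S : Setup1 G) : ∃ e1 ∈ S.H, ∃ e2 ∈ S.H, S.pi e1 = tr (Vb.of 1024) ∧
    S.pi e2 = tr (Vb.of 2048) ∧ e1 * e1 = S.z ∧ e2 * e2 = S.z ∧ e1 * e2 = e2 * e1 * S.z := by
  obtain ⟨e1, h1, k1⟩ := exists_tr (S := S) (Vb.of 1024)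
  obtain ⟨e2, h2, k2⟩ := exists_tr (S := S) (Vb.of 2048)
  exact ⟨e1, h1, e2, h2, k1, k2, by rw [sq_of_pi h1 k1, q_f1, zp_one],
    by rw [sq_of_pi h2 k2, q_f2, zp_one], by rw [comm_of_pi h1 h2 k1 k2, B_f, zp_one]⟩

theorem IsX.pre_Kb_le [Finite G] :
    S.pre Kb ≤ normalizer ((zpowers x : Subgroup G) : Set G) := fun g hg => by
  obtain ⟨h1, h2⟩ := mem_pre.1 hg
  obtain ⟨k, -, e⟩ := exists_pow_of_mem (H35.mem_normalizer_zpowers_iff.1 h2.1.2)
  rw [H35.mem_normalizer_zpowers_iff, hx.conj_eq h1 e.symm]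
  exact pow_mem (mem_zpowers x) k

end H

variable {S : Setup G}

theorem pre_Kb_equiv [Finite G] (S : Setup G) :
    Nonempty (S.toSetup1.pre Kb ≃* GL (Fin 2) (ZMod 3)) := by
  obtain ⟨e1, h1, e2, h2, k1, k2, s1, s2, c⟩ := exists_e S.toSetup1
  have o1 : orderOf e1 = 2 * 2 := by
    haveI := Fact.mk Nat.prime_two
    exact orderOf_eq_prime_pow (p := 2) (n := 1) (by rw [pow_one, sq, s1]; exact S.z_ne_one)
      (by rw [show 2 ^ (1 + 1) = 2 * 2 from rfl, pow_mul, sq, sq, s1, S.z_mul_z])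
  obtain ⟨Q, -, -, hQ, hc, ⟨e⟩⟩ := H9.exists_subgroup_quaternion le_rfl e1 e2 o1
    (by rw [s2, sq, s1]) (by
      rw [mul_inv_eq_iff_eq_mul, eq_inv_mul_iff_mul_eq, ← mul_assoc, c, mul_assoc, mul_assoc,
        ← S.mem_H.1 h1, ← mul_assoc e1, s1, S.z_mul_z, mul_one])
  have m1 : e1 ∈ S.toSetup1.pre (trS Fa) := mem_pre.2 ⟨h1, k1 ▸ tr_mem_trS.2 f1_mem⟩
  have m2 : e2 ∈ S.toSetup1.pre (trS Fa) := mem_pre.2 ⟨h2, k2 ▸ tr_mem_trS.2 f2_mem⟩
  have l1 : trS Fa ≤ Kb := by rintro _ ⟨v, hv, rfl⟩; exact tr_mem_Kb.2 hv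
  have l2 : Kb ≤ Hb := fun _ h => h.1.1
  obtain rfl : Q = S.toSetup1.pre (trS Fa) := eq_of_le_of_card_ge
    (hQ.trans ((closure_le _).2 (Set.pair_subset m1 m2)))
    (by rw [hc, card_pre (l1.trans l2), card_trS, card_Fa])
  have l3 := pre_mono (S := S.toSetup1) l1
  haveI : ((S.toSetup1.pre (trS Fa)).subgroupOf (S.toSetup1.pre Kb)).Normal := ⟨fun a ha g => by
    obtain ⟨h3, v, hv, h4⟩ := mem_pre.1 ha
    obtain ⟨h5, h6⟩ := mem_pre.1 g.2
    refine mem_pre.2 ⟨mul_mem (mul_mem h5 h3) (inv_mem h5), _, m_mem_Fa h6 hv, ?_⟩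
    rw [← conj_tr, h4]; exact (pi_conj h5 h3).symm⟩
  obtain ⟨ι, φ, hq, hr⟩ := H75.exists_q8Ext _ ((subgroupOfEquivOfLe l3).trans e) (fun g hg => by
    obtain ⟨h5, h6⟩ := mem_pre.1 g.2
    have k : ∀ a ∈ S.toSetup1.pre (trS Fa), ∀ v, S.pi a = tr v → (S.pi g).m v = v := by
      intro a ha v e
      have h7 : a * g = g * a := congrArg Subtype.val (hg ⟨a, l3 ha⟩ ha)
      rw [← tr_comm_iff, ← e, ← pi_mul (pre_le_H _ ha) h5, h7, pi_mul h5 (pre_le_H _ ha)]
    exact mem_pre.2 ⟨h5, eq_tr_of_fix h6 (k _ m1 _ k1) (k _ m2 _ k2)⟩)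
  obtain ⟨l, h3, h4⟩ := exists_pi (S := S.toSetup1) (X_le_Hb u1_mem)
  refine hq.equiv_gl23 (by rw [card_pre l2, card_Kb]) (s := ⟨l, mem_pre.2 ⟨h3, h4 ▸ u1_mem_Kb⟩⟩)
    (Subtype.ext (S.inv_lift l h3 (h4 ▸ u1_mem) (h4 ▸ u1_sq))) fun h => ?_
  rw [hr] at h
  obtain ⟨-, v, -, h5⟩ := mem_pre.1 h
  have := orderOf_u1_p
  rw [← h4, show S.pi l = tr v from h5.symm, tr_p, orderOf_one] at this
  omega

theorem orderOf_dvd_of_comm_t {w : G} (h : w * S.t = S.t * w) : orderOf w ∣ 887040 * 2 := by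
  obtain ⟨a, ha, rfl⟩ := mem_N.1 (mem_N_of_t h)
  rw [t, ← th_mul ha tN_mem, ← th_mul tN_mem ha, th_inj (mul_mem ha tN_mem) (mul_mem tN_mem ha),
    eq_comm, tN, tr_comm_iff, fix_ts_iff ha.1] at h
  have h1 : (a ^ 887040).p = 1 := by
    rw [pow_p, ← orderOf_dvd_iff_pow_eq_one, ← card_M22x]; exact M22x.orderOf_dvd_natCard h
  have h2 : lin (a ^ 887040) = 1 := lin_eq_of_p (pow_mem ha.1 _) (one_mem _) h1
  rw [orderOf_th ha, orderOf_dvd_iff_pow_eq_one, pow_mul, lin_eq_one.1 h2, sq, tr_mul_self]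

/-- an element commuting with an involution -/
theorem orderOf_dvd_of_invol (S : Setup G) {w j : G} (hj : orderOf j = 2) (h : j * w = w * j) :
    orderOf w ∣ 21799895040 := by
  rcases two' (S := S) hj with e | e <;> obtain ⟨c, rfl⟩ := isConj_iff.1 e <;>
    have h1 := conj_comm (g := c⁻¹) h.symm
  · rw [show c⁻¹ * (c * S.z * c⁻¹) * c⁻¹⁻¹ = S.z by group] at h1
    rw [← orderOf_conj' c⁻¹, ← card_H S.toSetup1]
    exact dvd_card_cent h1
  · rw [show c⁻¹ * (c * S.t * c⁻¹) * c⁻¹⁻¹ = S.t by group] at h1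
    rw [← orderOf_conj' c⁻¹]
    exact (orderOf_dvd_of_comm_t h1).trans (by decide)

variable [Finite G]

theorem exists_noncomm (S : Setup G) (U : Sylow 11 G) : ∃ a b : U, a * b ≠ b * a := by
  by_contra h
  push Not at h
  obtain ⟨c, hc⟩ := exists_conj_mem_sylow (k := 1) U (orderOf_yy (S := S))
  have := card_dvd_of_le (show (U : Subgroup G) ≤ centralizer {c * yy S * c⁻¹} from fun u hu =>
    mem_centralizer_singleton_iff.2 (congrArg Subtype.val (h ⟨u, hu⟩ ⟨_, hc⟩)))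
  rw [card_cent_conj, card_cent_yy, card_sylow11 S] at this
  omega

theorem extraspecial (S : Setup G) (U : Sylow 11 G) : IsExtraspecial 11 U :=
  H73.isExtraspecial_of_card_eq_cube (card_sylow11 S U) (exists_noncomm S U)

variable {x : G} (hx : IsX S.toSetup1 x)
include hx

theorem IsX.struct : Nat.card (centralizer ({x} : Set G)) = 31944 ∧
    ∀ U : Sylow 11 (centralizer ({x} : Set G)), U.1.Normal := by
  obtain ⟨e1, h1, e2, h2, k1, k2, -, -, c⟩ := exists_e S.toSetup1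
  have m : ∀ {g}, g * x = x * g → g ∈ centralizer ({x} : Set G) := mem_centralizer_singleton_iff.2
  have m' : ∀ g : centralizer ({x} : Set G), g * x = x * g := fun g =>
    mem_centralizer_singleton_iff.1 g.2
  refine cent_struct (z := ⟨S.z, m (S.mem_H.1 hx.mem).symm⟩) (x := ⟨x, m rfl⟩)
    (p := ⟨S.p, m hx.p_comm⟩)
    (e1 := ⟨e1, m ((hx.comm_iff h1).2 (k1 ▸ tr_comm_iff.2 f1_mem))⟩)
    (e2 := ⟨e2, m ((hx.comm_iff h2).2 (k2 ▸ tr_comm_iff.2 f2_mem))⟩)
    (fun g => Subtype.ext (m' g)) ((orderOf_coe _).symm.trans hx.ord)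
    ((orderOf_coe _).symm.trans S.ord_z) ((card_centralizer_subtype _).trans hx.card_cent_H)
    (fun w h3 h4 => ?_) (Subtype.ext ?_) ((orderOf_coe _).symm.trans S.ord_p)
    (fun w h => Subtype.ext (S.mem_H.1 (S.cent_p_le
      (mem_centralizer_singleton_iff.2 (congrArg Subtype.val h).symm))))
    (fun w => orderOf_coe w ▸ ne_eleven_five S hx.ord (m' w))
    (fun w => orderOf_coe w ▸ ne_eleven_seven S hx.ord (m' w)) (fun r hr w j hw hj h => ?_)
    (S.card_G ▸ card_subgroup_dvd_card _) (dvd_card_cent11 S hx.ord)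
  · exact (hx.invol (S.mem_H.2 (congrArg Subtype.val h4)) (m' w) (congrArg Subtype.val h3)).imp
      Subtype.ext Subtype.ext
  · change e1⁻¹ * e2⁻¹ * e1 * e2 = S.z
    rw [mul_assoc, c]; group
  · have := orderOf_dvd_of_invol S ((orderOf_coe _).trans hj) (congrArg Subtype.val h)
    rw [orderOf_coe, hw] at this
    exact (by decide : ∀ r ∈ [23, 29, 31, 37, 43], ¬ r ∣ 21799895040) r hr this

theorem IsX.card_cent : Nat.card (centralizer ({x} : Set G)) = 31944 := hx.struct.1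

/-- the Sylow 11-subgroup of `G` that is normal in the centraliser of `x` -/
theorem IsX.exists_sylow : ∃ U : Sylow 11 G, x ∈ U ∧ (U : Subgroup G) ≤ centralizer {x} ∧
    centralizer {x} ≤ normalizer (U : Set G) := by
  obtain ⟨U, hU⟩ := exists_sylow_mem (G := centralizer ({x} : Set G))
    (g := ⟨x, mem_centralizer_singleton_iff.2 rfl⟩) ((orderOf_coe _).symm.trans hx.ord)
  have h1 : Nat.card (U.1.map (centralizer {x}).subtype) = 11 ^ (Nat.card G).factorization 11 := by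
    rw [card_map_of_injective (subtype_injective _), S.card_G, U.card_eq_multiplicity, hx.card_cent]
    decide +kernel
  refine ⟨Sylow.ofCard _ h1, ⟨_, hU, rfl⟩, map_subtype_le _, fun g hg => ?_⟩
  refine mem_normalizer_fintype ?_
  rintro _ ⟨u, hu, rfl⟩
  exact ⟨_, (hx.struct.2 U).conj_mem u hu ⟨g, hg⟩, rfl⟩

omit hx in
theorem center_eq (S : Setup G) {U : Sylow 11 G} {x : G} (ox : orderOf x = 11) (h : x ∈ U)
    (hc : (U : Subgroup G) ≤ centralizer {x}) {w : G} (hw : w ∈ U)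
    (h1 : ∀ u ∈ U, u * w = w * u) : w ∈ zpowers x := by
  have h2 : zpowers (⟨x, h⟩ : U) = center U := eq_of_le_of_card_ge
    (zpowers_le.2 (mem_center_iff.2 fun g => Subtype.ext (mem_centralizer_singleton_iff.1 (hc g.2))))
    ((extraspecial S U).2.trans (by rw [Nat.card_zpowers, ← orderOf_coe, ox])).le
  obtain ⟨k, hk⟩ : (⟨w, hw⟩ : U) ∈ zpowers (⟨x, h⟩ : U) :=
    h2 ▸ mem_center_iff.2 fun g => Subtype.ext (h1 g g.2)
  exact ⟨k, congrArg Subtype.val hk⟩

theorem IsX.norm_eq {U : Sylow 11 G} (h : x ∈ U) (hc : (U : Subgroup G) ≤ centralizer {x})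
    (hn : centralizer {x} ≤ normalizer (U : Set G)) :
    normalizer (U : Set G) = normalizer ((zpowers x : Subgroup G) : Set G) := by
  have hp : ∀ {g u : G}, g ∈ normalizer (U : Set G) → u ∈ U → g * u * g⁻¹ ∈ U := fun hg hu =>
    (mem_set_normalizer_iff.1 hg _).1 hu
  refine le_antisymm (fun g hg => H35.mem_normalizer_zpowers_iff.2
    (center_eq S hx.ord h hc (hp hg h) fun u hu => ?_)) fun g hg => mem_normalizer_fintype ?_
  · have := conj_comm (g := g) (mem_centralizer_singleton_iff.1 (hc (hp (inv_mem hg) hu)))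
    rwa [show g * (g⁻¹ * u * g⁻¹⁻¹) * g⁻¹ = u by group] at this
  · intro u hu
    have h1 : g * u * g⁻¹ ∈ centralizer {x} := by
      rw [← H35.centralizer_eq_of_mem (by norm_num) hx.ord (H35.mem_normalizer_zpowers_iff.1 hg)
        (ne_one_of_orderOf ((orderOf_conj' _ _).trans hx.ord) (by decide))]
      exact mem_centralizer_singleton_iff.2 (conj_comm (mem_centralizer_singleton_iff.1 (hc hu)))
    obtain ⟨k, -, hk⟩ := (Nat.dvd_prime_pow (by norm_num)).1
      (card_sylow11 S U ▸ U.1.orderOf_dvd_natCard hu)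
    have h2 := (IsPGroup.of_card (G := zpowers (g * u * g⁻¹)) ((Nat.card_zpowers _).trans
      ((orderOf_conj' _ _).trans hk))).inf_normalizer_sylow U
    exact (h2.le ⟨mem_zpowers _, hn h1⟩).2

theorem IsX.card_conj : {y | y ∈ zpowers x ∧ IsConj x y}.ncard = 10 := by
  obtain ⟨U, h, hc, hn⟩ := hx.exists_sylow
  have h1 := H35.card_normalizer_zpowers x
  rw [← hx.norm_eq h hc hn, hx.card_cent] at h1
  change _ = {y | y ∈ zpowers x ∧ IsConj x y}.ncard * _ at h1
  have h2 := (normalizer (U : Set G)).card_mul_index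
  have h3 := card_sylow_modEq_one 11 G
  rw [U.card_eq_index_normalizer] at h3
  have h4 : {y | y ∈ zpowers x ∧ IsConj x y}.ncard ≤ 11 := by
    rw [← hx.ord, ← Nat.card_zpowers]
    exact Set.ncard_le_ncard (fun _ h => h.1) (Set.toFinite (zpowers x : Set G))
  rw [h1, S.card_G] at h2
  generalize {y | y ∈ zpowers x ∧ IsConj x y}.ncard = e at h2 h4
  have h5 : e * (normalizer (U : Set G)).index = 2716490453483520 := by nlinarith
  have h6 := h3.mul_left e
  rw [h5] at h6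
  unfold Nat.ModEq at h6
  omega

theorem IsX.card_norm : Nat.card (normalizer ((zpowers x : Subgroup G) : Set G)) = 319440 := by
  rw [H35.card_normalizer_zpowers x, hx.card_cent]
  exact congrArg (· * 31944) hx.card_conj

theorem IsX.isConj {w : G} (hw : w ∈ zpowers x) (h1 : w ≠ 1) : IsConj x w := by
  have h2 : {y | y ∈ zpowers x ∧ IsConj x y} = (zpowers x : Set G) \ {1} :=
    Set.eq_of_subset_of_ncard_le (fun y hy => ⟨hy.1, fun e => ne_one_of_orderOf hx.ord
      (by decide) (isConj_one_left.1 (e ▸ hy.2 :))⟩) (by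
      rw [hx.card_conj, Set.ncard_sdiff_singleton_of_mem (zpowers x).one_mem, ← Nat.card_coe_set_eq]
      exact (congrArg (· - 1) ((Nat.card_zpowers x).trans hx.ord)).le)
  exact (h2.ge ⟨hw, h1⟩).2

theorem IsX.not_mem {w : G} (h : IsConj (yy S) w) : w ∉ zpowers x := fun hw => by
  have := card_dvd_of_le (show centralizer {x} ≤ centralizer {w} from fun g hg => by
    obtain ⟨k, rfl⟩ := mem_zpowers_iff.1 hw
    exact mem_centralizer_singleton_iff.2 (Commute.zpow_right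
      (mem_centralizer_singleton_iff.1 hg) k))
  rw [hx.card_cent, card_cent_isConj h, card_cent_yy] at this
  omega

theorem IsX.cases {w : G} {k : ℕ} (hw : orderOf w = 11 ^ k) :
    w = 1 ∨ IsConj x w ∨ IsConj (yy S) w := by
  obtain ⟨U, h, hc, hn⟩ := hx.exists_sylow
  obtain ⟨c, h1⟩ := exists_conj_mem_sylow (k := 1) U (orderOf_yy (S := S))
  have h2 := card_eq_cls_mul (normalizer (U : Set G)) (c * yy S * c⁻¹)
  have h3 := card_le_of_le (inf_le_right : normalizer (U : Set G) ⊓ centralizer {c * yy S * c⁻¹} ≤ _)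
  rw [card_cent_conj, card_cent_yy] at h3
  have h4 : ∀ u ∈ cls (normalizer (U : Set G)) (c * yy S * c⁻¹), IsConj (yy S) u := by
    rintro _ ⟨g, -, rfl⟩
    exact isConj_iff.2 ⟨g * c, by group⟩
  have h5 : cls (normalizer (U : Set G)) (c * yy S * c⁻¹) = (U : Set G) \ zpowers x := by
    refine Set.eq_of_subset_of_ncard_le (fun u hu => ⟨?_, hx.not_mem (h4 u hu)⟩) ?_
    · obtain ⟨g, hg, rfl⟩ := hu
      exact (mem_set_normalizer_iff.1 hg _).1 h1
    · have e1 : (U : Set G).ncard = 11 ^ 3 := card_sylow11 S U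
      have e2 : (zpowers x : Set G).ncard = 11 := (Nat.card_zpowers x).trans hx.ord
      rw [Set.ncard_sdiff (show (zpowers x : Set G) ⊆ U from zpowers_le.2 h), e1, e2]
      rw [hx.norm_eq h hc hn, hx.card_norm, ← hx.norm_eq h hc hn] at h2
      have := h2.trans_le (Nat.mul_le_mul_left _ h3)
      omega
  obtain ⟨d, h6⟩ := exists_conj_mem_sylow U hw
  have h7 : IsConj (d * w * d⁻¹) w := (isConj_iff.2 ⟨d, rfl⟩).symm
  by_cases h8 : d * w * d⁻¹ ∈ zpowers x
  · by_cases h9 : d * w * d⁻¹ = 1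
    · exact Or.inl (isConj_one_right.1 (h9 ▸ h7 :))
    · exact Or.inr (Or.inl ((hx.isConj h8 h9).trans h7))
  · exact Or.inr (Or.inr ((h4 _ (h5.ge ⟨h6, h8⟩)).trans h7))

omit hx

theorem card_cent_eleven (S : Setup G) {w : G} (hw : orderOf w = 11) :
    Nat.card (centralizer ({w} : Set G)) = 31944 ∨ Nat.card (centralizer ({w} : Set G)) = 242 := by
  obtain ⟨x, hx⟩ := exists_isX S.toSetup1
  rcases hx.cases (k := 1) hw with h | h | h
  · exact absurd h (ne_one_of_orderOf hw (by decide))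
  · exact Or.inl ((card_cent_isConj h).trans hx.card_cent)
  · exact Or.inr ((card_cent_isConj h).trans card_cent_yy)

theorem two_classes (S : Setup G) : ∃ x y : G, orderOf x = 11 ∧ orderOf y = 11 ∧ ¬ IsConj x y ∧
    ∀ w : G, orderOf w = 11 → IsConj w x ∨ IsConj w y := by
  obtain ⟨x, hx⟩ := exists_isX S.toSetup1
  exact ⟨x, yy S, hx.ord, orderOf_yy, fun h => hx.not_mem h.symm (mem_zpowers x), fun w hw =>
    ((hx.cases (k := 1) hw).resolve_left (ne_one_of_orderOf hw (by decide))).imp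
      IsConj.symm IsConj.symm⟩

theorem sylow_eleven (S : Setup G) (U : Sylow 11 G) :
    IsExtraspecial 11 ↥(U : Subgroup G) ∧ Nat.card ↥(U : Subgroup G) = 11 ^ 3 ∧
    Monoid.exponent ↥(U : Subgroup G) = 11 ∧
    Nat.card ↥(normalizer ((U : Subgroup G) : Set G)) = 2 ^ 4 * 3 * 5 * 11 ^ 3 ∧
    ∃ K : Subgroup G, K ≤ normalizer ((U : Subgroup G) : Set G) ∧
      Nonempty (↥K ≃* GL (Fin 2) (ZMod 3)) := by
  obtain ⟨x, hx⟩ := exists_isX S.toSetup1
  obtain ⟨U0, h, hc, hn⟩ := hx.exists_sylow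
  refine ⟨extraspecial S U, card_sylow11 S U, ?_, ?_, ?_⟩
  · obtain ⟨a, b, hab⟩ := exists_noncomm S U
    haveI : Nontrivial (U : Subgroup G) := ⟨⟨_, _, hab⟩⟩
    refine (Monoid.exponent_eq_prime_iff (by norm_num)).2 fun w hw => ?_
    obtain ⟨k, -, hk⟩ := (Nat.dvd_prime_pow (by norm_num)).1
      (card_sylow11 S U ▸ U.1.orderOf_dvd_natCard w.2)
    rw [← orderOf_coe]
    rcases hx.cases hk with e | e | e
    · exact absurd (Subtype.ext e) hw
    all_goals obtain ⟨c, e⟩ := isConj_iff.1 e; rw [← e, orderOf_conj']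
    exacts [hx.ord, orderOf_yy]
  · have h1 := (normalizer (U : Set G)).card_mul_index
    have h2 := (normalizer (U0 : Set G)).card_mul_index
    rw [← U0.card_eq_index_normalizer, hx.norm_eq h hc hn, hx.card_norm] at h2
    rw [← U.card_eq_index_normalizer, ← h2] at h1
    exact Nat.eq_of_mul_eq_mul_right Nat.card_pos h1
  · obtain ⟨c, rfl⟩ := MulAction.exists_smul_eq G U0 U
    obtain ⟨e⟩ := pre_Kb_equiv S
    refine ⟨(S.toSetup1.pre Kb).map (MulAut.conj c).toMonoidHom, ?_,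
      ⟨(equivMapOfInjective _ _ (MulAut.conj c).injective).symm.trans e⟩⟩
    rintro _ ⟨k, hk, rfl⟩
    have h1 := hx.pre_Kb_le hk
    rw [← hx.norm_eq h hc hn, ← Sylow.smul_eq_iff_mem_normalizer] at h1
    refine Sylow.smul_eq_iff_mem_normalizer.1 ?_
    change (c * k * c⁻¹) • _ = _
    rw [mul_smul, inv_smul_smul, mul_smul, h1]

end Cfsg.Agent.SGJ4.El
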