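/-
Project SGJ4, part Eleven.  The primes 23, 29, 31, 37, 43.
-/
import Cfsg.Agent.SGJ4.ElX

set_option autoImplicit false

namespace Cfsg.Agent.SGJ4.El

open Subgroup AG H14 Setup Setup1

variable {G : Type*} [Group G] [Finite G]

theorem not_comm_big (S : Setup G) {q r : ℕ} (hq : q ∈ [2, 3, 5, 7, 11])
    (hr : r ∈ [23, 29, 31, 37, 43]) {g w : G} (hg : orderOf g = q) (hw : orderOf w = r) :
    g * w ≠ w * g := fun h => by
  have d : ∀ r ∈ [23, 29, 31, 37, 43], ∀ n ∈ [21799895040, 2661120, 6720, 840, 31944, 242],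
    ¬ r ∣ n := by decide
  have h1 := dvd_card_cent h.symm
  rw [hw] at h1
  simp only [List.mem_cons, List.not_mem_nil, or_false] at hq
  rcases hq with rfl | rfl | rfl | rfl | rfl
  · exact d r hr _ (by decide) (hw ▸ orderOf_dvd_of_invol S hg h)
  · exact d r hr 2661120 (by decide) (by rwa [card_cent_isConj (S.conj_three hg), S.card_cent_p] at h1)
  · exact d r hr 6720 (by decide) (by rwa [S.card_cent_five hg] at h1)
  · exact d r hr 840 (by decide) (by rwa [S.card_cent_seven hg] at h1)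
  · rcases card_cent_eleven S hg with e | e <;> rw [e] at h1 <;> exact d r hr _ (by decide) h1

theorem card_cent_dvd (S : Setup G) {r : ℕ} (hr : r ∈ [23, 29, 31, 37, 43]) {w : G}
    (hw : orderOf w = r) : Nat.card (centralizer ({w} : Set G)) ∣ 23 * 29 * 31 * 37 * 43 := by
  have c : ∀ q ∈ [2, 3, 5, 7, 11], (Nat.card (centralizer ({w} : Set G))).Coprime q := by
    intro q hq
    have hp := (by decide : ∀ q ∈ [2, 3, 5, 7, 11], q.Prime) q hq
    refine (hp.coprime_iff_not_dvd.2 fun h => ?_).symm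
    obtain ⟨g, h1, h2⟩ := exists_orderOf hp h
    exact not_comm_big S hq hr h2 hw (mem_centralizer_singleton_iff.1 h1)
  have c2 : (Nat.card (centralizer ({w} : Set G))).Coprime (2 ^ 21 * 3 ^ 3 * 5 * 7 * 11 ^ 3) := by
    simp only [List.forall_mem_cons] at c
    simp only [Nat.coprime_mul_iff_right]
    exact ⟨⟨⟨⟨c.1.pow_right _, c.2.1.pow_right _⟩, c.2.2.1⟩, c.2.2.2.1⟩, c.2.2.2.2.1.pow_right _⟩
  refine c2.dvd_of_dvd_mul_left ((card_subgroup_dvd_card _).trans ?_)
  rw [S.card_G]; norm_num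

/-- the possibilities left by the congruences -/
def bigL : List (ℕ × ℕ × ℕ) := [(23, 22, 23), (23, 1, 30659), (29, 28, 29), (29, 2, 1247),
  (29, 1, 38657), (31, 10, 31), (31, 6, 1333), (31, 1, 49321), (31, 2, 32897107), (37, 12, 37),
  (37, 2, 1591), (37, 12, 24679), (37, 12, 49321), (37, 2, 1061197), (37, 12, 32897107),
  (43, 14, 43), (43, 6, 1333)]

set_option synthInstance.maxSize 1024 in
theorem big_data (S : Setup G) {r : ℕ} (hr : r ∈ [23, 29, 31, 37, 43]) {w : G}
    (hw : orderOf w = r) : ∃ e, Nat.card (normalizer ((zpowers w : Subgroup G) : Set G)) =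
      e * Nat.card (centralizer ({w} : Set G)) ∧
      (r, e, Nat.card (centralizer ({w} : Set G))) ∈ bigL := by
  obtain ⟨hp, h2⟩ := (by decide +kernel : ∀ r ∈ [23, 29, 31, 37, 43], r.Prime ∧
    ¬ r ^ 2 ∣ 86775571046077562880) r hr
  haveI := Fact.mk hp
  rw [← S.card_G] at h2
  have h1 := H35.card_normalizer_zpowers w
  have h3 := Dvd.intro_left _ (H35.card_classes_mul_relIndex hw h2)
  rw [H35.relIndex_eq_card_conj] at h3
  generalize Nat.card {y : G // y ∈ zpowers w ∧ IsConj w y} = e at h1 h3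
  refine ⟨e, h1, ?_⟩
  obtain ⟨P, hP⟩ := H35.exists_sylow_eq_zpowers hw h2
  have h4 := card_sylow_modEq_one r G
  rw [P.card_eq_index_normalizer] at h4
  change (normalizer ((P : Subgroup G) : Set G)).index ≡ 1 [MOD r] at h4
  have h5 := (normalizer ((zpowers w : Subgroup G) : Set G)).card_mul_index
  rw [hP, ← Nat.mul_div_cancel_left (index _)
    (Nat.card_pos (α := normalizer ((zpowers w : Subgroup G) : Set G))), h5, S.card_G, h1] at h4
  have h6 := card_cent_dvd S hr hw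
  have h7 : ∀ q ∈ [2, 3, 5, 7, 11], q ∣ e → Nat.card (centralizer ({w} : Set G)) ≡ 1 [MOD q] := by
    intro q hq hqe
    have hp' := (by decide : ∀ q ∈ [2, 3, 5, 7, 11], q.Prime) q hq
    obtain ⟨g, hg, ho⟩ := exists_orderOf hp' (h1 ▸ hqe.mul_right _)
    refine card_modEq_one hp' (ho ▸ pow_orderOf_eq_one g) (fun s hs => ?_) fun s hs h => ?_
    · rw [← H35.centralizer_eq_of_mem hp hw (H35.mem_normalizer_zpowers_iff.1 hg)
        (ne_one_of_orderOf ((orderOf_conj' _ _).trans hw) hp.ne_one)]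
      exact mem_centralizer_singleton_iff.2 (conj_comm (mem_centralizer_singleton_iff.1 hs))
    · by_contra h8
      obtain ⟨p, hp1, hp2⟩ := Nat.exists_prime_and_dvd (orderOf_eq_one_iff.not.2 h8)
      obtain ⟨u, ⟨k, rfl⟩, hu⟩ := exists_orderOf hp1 (A := zpowers s) (by rwa [Nat.card_zpowers])
      refine not_comm_big S hq ?_ ho hu (Commute.zpow_right h k)
      have h9 := hp2.trans (((centralizer {w}).orderOf_dvd_natCard hs).trans h6)
      simp only [hp1.dvd_mul] at h9
      rcases h9 with (((h9 | h9) | h9) | h9) | h9 <;>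
        rw [(Nat.prime_dvd_prime_iff_eq hp1 (by norm_num)).1 h9] <;> decide
  have h8 := dvd_card_cent (rfl : w * w = w * w)
  rw [hw] at h8
  have h9 : e < 43 := by
    have := Nat.le_of_dvd (by have := hp.two_le; omega) h3
    have := (by decide : ∀ r ∈ [23, 29, 31, 37, 43], r ≤ 43) r hr
    omega
  generalize Nat.card (centralizer ({w} : Set G)) = m at h4 h6 h7 h8
  obtain ⟨_, m5, j1, k5, rfl⟩ := Nat.dvd_mul.1 h6
  obtain ⟨_, m4, j2, k4, rfl⟩ := Nat.dvd_mul.1 j1
  obtain ⟨_, m3, j3, k3, rfl⟩ := Nat.dvd_mul.1 j2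
  obtain ⟨m1, m2, k1, k2, rfl⟩ := Nat.dvd_mul.1 j3
  rw [Nat.dvd_prime (by norm_num)] at k1 k2 k3 k4 k5
  have d : ∀ m1 ∈ [1, 23], ∀ m2 ∈ [1, 29], ∀ m3 ∈ [1, 31], ∀ m4 ∈ [1, 37], ∀ m5 ∈ [1, 43],
      ∀ r ∈ [23, 29, 31, 37, 43], r ∣ m1 * m2 * m3 * m4 * m5 → ∀ e < 43, e ∣ r - 1 →
      86775571046077562880 / (e * (m1 * m2 * m3 * m4 * m5)) ≡ 1 [MOD r] →
      (∀ q ∈ [2, 3, 5, 7, 11], q ∣ e → m1 * m2 * m3 * m4 * m5 ≡ 1 [MOD q]) →
      (r, e, m1 * m2 * m3 * m4 * m5) ∈ bigL := by decide +kernel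
  exact d _ (by simpa using k1) _ (by simpa using k2) _ (by simpa using k3) _ (by simpa using k4)
    _ (by simpa using k5) r hr h8 e h9 h3 h4 h7

/-- orders of the centraliser and of the normaliser for all elements of order `r` -/
def Good (G : Type*) [Group G] (r e : ℕ) : Prop := ∀ w : G, orderOf w = r →
  Nat.card (centralizer ({w} : Set G)) = r ∧
    Nat.card (normalizer ((zpowers w : Subgroup G) : Set G)) = r * e

theorem Good.not_dvd {s e r : ℕ} (h : Good G s e) (hs : s.Prime) (hrs : ¬ r ∣ s) {w : G}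
    (hw : orderOf w = r) : ¬ s ∣ Nat.card (centralizer ({w} : Set G)) := fun hd => by
  obtain ⟨g, h1, h2⟩ := exists_orderOf hs hd
  have := dvd_card_cent (mem_centralizer_singleton_iff.1 h1).symm
  rw [(h g h2).1, hw] at this
  exact hrs this

theorem good_of (S : Setup G) {r e : ℕ} (hr : r ∈ [23, 29, 31, 37, 43]) (P : ℕ → ℕ → Prop)
    (h : ∀ w : G, orderOf w = r → P (Nat.card (centralizer ({w} : Set G)))
      (Nat.card (normalizer ((zpowers w : Subgroup G) : Set G))))
    (d : ∀ x ∈ bigL, x.1 = r → P x.2.2 (x.2.1 * x.2.2) → x.2.2 = r ∧ x.2.1 = e) : Good G r e := by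
  intro w hw
  obtain ⟨e', h1, h2⟩ := big_data S hr hw
  obtain ⟨h3, h4⟩ := d _ h2 rfl (h1 ▸ h w hw)
  exact ⟨h3, by rw [h1, mul_comm]; exact congrArg₂ _ h3 h4⟩

theorem five_dvd (S : Setup G) {B : Subgroup G} (hB : Nat.card B = 9999360) {w : G}
    (hw : orderOf w = 31) : 5 ∣ Nat.card (normalizer ((zpowers w : Subgroup G) : Set G)) := by
  haveI : Fact (Nat.Prime 31) := ⟨by norm_num⟩
  obtain ⟨b, hb⟩ := exists_prime_orderOf_dvd_card' (G := B) 31 (by rw [hB]; decide)
  obtain ⟨P, hP⟩ := H35.exists_sylow_eq_zpowers hb (by rw [hB]; decide)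
  have h1 := card_sylow_modEq_one 31 B
  rw [P.card_eq_index_normalizer] at h1
  change (normalizer ((P : Subgroup B) : Set B)).index ≡ 1 [MOD 31] at h1
  have h2 := (normalizer ((zpowers b : Subgroup B) : Set B)).card_mul_index
  rw [hP] at h1
  rw [← orderOf_coe] at hb
  obtain ⟨e, h3, h4⟩ := big_data S (by decide) hb
  have h5 : Nat.card (normalizer ((zpowers b : Subgroup B) : Set B)) ∣
      Nat.card (normalizer ((zpowers (b : G) : Subgroup G) : Set G)) := by
    rw [← card_map_of_injective B.subtype_injective]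
    refine card_dvd_of_le ?_
    rintro _ ⟨g, hg, rfl⟩
    obtain ⟨k, hk⟩ := H35.mem_normalizer_zpowers_iff.1 hg
    exact H35.mem_normalizer_zpowers_iff.2 ⟨k, congrArg Subtype.val hk⟩
  have h6 : Nat.card (normalizer ((zpowers w : Subgroup G) : Set G)) =
      Nat.card (normalizer ((zpowers (b : G) : Subgroup G) : Set G)) := by
    have h7 : ¬ 31 ^ 2 ∣ Nat.card G := by rw [S.card_G]; decide
    obtain ⟨Q, hQ⟩ := H35.exists_sylow_eq_zpowers hw h7
    obtain ⟨R, hR⟩ := H35.exists_sylow_eq_zpowers hb h7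
    have h8 := (normalizer (Q : Set G)).card_mul_index
    have h9 := (normalizer (R : Set G)).card_mul_index
    rw [← Sylow.card_eq_index_normalizer] at h8 h9
    rw [← hQ, ← hR]
    exact Nat.eq_of_mul_eq_mul_right Nat.card_pos (h8.trans h9.symm)
  rw [h6, h3]
  rw [h3] at h5
  rw [hB] at h2
  rw [← Nat.mul_div_cancel_left (index _)
    (Nat.card_pos (α := normalizer ((zpowers b : Subgroup B) : Set B))), h2] at h1
  have h7 := Nat.dvd_gcd h5 (Dvd.intro _ h2)
  have d : ∀ x ∈ bigL, x.1 = 31 → ∀ k ∈ Nat.divisors (Nat.gcd (x.2.1 * x.2.2) 9999360),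
      9999360 / k ≡ 1 [MOD 31] → 5 ∣ x.2.1 * x.2.2 := by decide +kernel
  exact d _ h4 rfl _ (Nat.mem_divisors.2 ⟨h7, (Nat.gcd_pos_of_pos_right _ (by decide)).ne'⟩) h1

theorem good_all (S : Setup G) {B : Subgroup G} (hB : Nat.card B = 9999360) :
    Good G 23 22 ∧ Good G 29 28 ∧ Good G 31 10 ∧ Good G 37 12 ∧ Good G 43 14 := by
  have g31 : Good G 31 10 := good_of S (by decide) (fun _ n => 5 ∣ n)
    (fun _ => five_dvd S hB) (by decide)
  have g43 : Good G 43 14 := good_of S (by decide) (fun m _ => ¬ 31 ∣ m)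
    (fun _ => g31.not_dvd (by norm_num) (by decide)) (by decide)
  have g23 : Good G 23 22 := good_of S (by decide) (fun m _ => ¬ 31 ∣ m)
    (fun _ => g31.not_dvd (by norm_num) (by decide)) (by decide)
  have g29 : Good G 29 28 := good_of S (by decide) (fun m _ => ¬ 43 ∣ m)
    (fun _ => g43.not_dvd (by norm_num) (by decide)) (by decide)
  exact ⟨g23, g29, g31, good_of S (by decide) (fun m _ => ¬ 43 ∣ m ∧ ¬ 23 ∣ m)
    (fun _ hw => ⟨g43.not_dvd (by norm_num) (by decide) hw,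
      g23.not_dvd (by norm_num) (by decide) hw⟩) (by decide), g43⟩

theorem Good.cent_eq {r e : ℕ} (h : Good G r e) {w : G} (hw : orderOf w = r) :
    centralizer {w} = zpowers w := (eq_of_le_of_card_ge
  (zpowers_le.2 (mem_centralizer_singleton_iff.2 rfl)) (by rw [(h w hw).1, Nat.card_zpowers, hw])).symm

theorem Good.sylow (S : Setup G) {r e : ℕ} (h : Good G r e) (hr : r ∈ [23, 29, 31, 37, 43])
    (U : Sylow r G) : centralizer ((U : Subgroup G) : Set G) = (U : Subgroup G) ∧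
      Nat.card ↥(normalizer ((U : Subgroup G) : Set G)) = r * e := by
  obtain ⟨hp, h2⟩ := (by decide +kernel : ∀ r ∈ [23, 29, 31, 37, 43], r.Prime ∧
    r ^ (86775571046077562880).factorization r = r) r hr
  haveI := Fact.mk hp
  obtain ⟨w, hw, e⟩ := H35.exists_zpowers_eq_of_card hp (P := (U : Subgroup G))
    (by rw [U.card_eq_multiplicity, S.card_G, h2])
  rw [e, H35.centralizer_zpowers]
  exact ⟨h.cent_eq hw, (h w hw).2⟩

end Cfsg.Agent.SGJ4.El
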