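/-
Project SGJ4, part Eleven.  The subgroup PGL(2,23).
-/
import Cfsg.Agent.SGJ4.ElR
import Cfsg.Agent.S0730

set_option autoImplicit false

namespace Cfsg.Agent.SGJ4.El

open Subgroup AG H14 Setup Setup1

variable {G : Type*} [Group G] [Finite G]

instance fact23 : Fact (Nat.Prime 23) := ⟨by norm_num⟩

theorem pgl_congr {F : Type*} [Field F] [Fintype F] (h : Fintype.card F = 23) :
    Nonempty (Matrix.ProjGenLinGroup (Fin 2) F ≃*
      GL (Fin 2) (ZMod 23) ⧸ center (GL (Fin 2) (ZMod 23))) := by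
  let e : F ≃+* ZMod 23 := FiniteField.ringEquivOfCardEq (by rw [h, ZMod.card])
  let f : GL (Fin 2) F ≃* GL (Fin 2) (ZMod 23) := Units.mapEquiv e.mapMatrix.toMulEquiv
  refine ⟨QuotientGroup.congr (center _) (center _) f ?_⟩
  ext g
  obtain ⟨g, rfl⟩ := f.surjective g
  refine (mem_map_iff_mem f.injective).trans ?_
  simp only [mem_center_iff, f.surjective.forall, ← map_mul, f.injective.eq_iff]

/-- a group of order 24·23·22 in which an element of order 23 is self-centralising with normaliser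
of order 23·22 -/
theorem sharp3 {r : G} (ho : orderOf r = 23) (hK : Nat.card G = 12144)
    (hM : Nat.card (normalizer ((zpowers r : Subgroup G) : Set G)) = 506)
    (hC : centralizer {r} ≤ zpowers r) :
    Nonempty (G ≃* GL (Fin 2) (ZMod 23) ⧸ center (GL (Fin 2) (ZMod 23))) := by
  classical
  set M := normalizer ((zpowers r : Subgroup G) : Set G) with hMdef
  have hRM : zpowers r ≤ M := le_normalizer
  have hc : Nat.card (G ⧸ M) = 24 := by
    have := M.card_mul_index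
    rw [hM, hK, index_eq_card] at this
    omega
  have fix : ∀ g a : G, g • (a : G ⧸ M) = a ↔ a⁻¹ * g * a ∈ M := fun g a => by
    rw [MulAction.Quotient.smul_coe, eq_comm, QuotientGroup.eq, smul_eq_mul, mul_assoc]
  have one : ∀ a : G, (a : G ⧸ M) = (1 : G) ↔ a ∈ M := fun a => by
    rw [eq_comm, QuotientGroup.eq, inv_one, one_mul]
  have free : ∀ ρ ∈ zpowers r, ∀ a : G ⧸ M, a ≠ (1 : G) → ρ • a = a → ρ = 1 := by
    intro ρ hρ a ha h
    obtain ⟨a, rfl⟩ := QuotientGroup.mk_surjective a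
    by_contra h1
    have h2 := H35.orderOf_eq_of_mem_zpowers (by norm_num) ho hρ h1
    have h3 := (orderOf_conj' a⁻¹ ρ).trans h2
    rw [inv_inv] at h3
    obtain ⟨m, hm, h4⟩ := H88.exists_conj_mem_zpowers_of_mem (by norm_num) (H := M)
      (by rw [hM]; decide) ((fix _ _).1 h) (hRM (mem_zpowers r)) h3 ho
    have h5 : m * a⁻¹ ∈ M := by
      have h6 := H35.zpowers_eq_of_mem (by norm_num) ho hρ h1
      rw [hMdef, ← h6, H35.mem_normalizer_zpowers_iff, h6]
      convert h4 using 1; group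
    exact ha ((one a).2 (inv_mem_iff.1 ((mul_mem_cancel_left hm).1 h5)))
  have key1 : ∀ (g : G) (a b : G ⧸ M), g ∈ M → a ≠ (1 : G) → b ≠ (1 : G) → a ≠ b → g • a = a →
      g • b = b → g = 1 := by
    intro g a b hg ha hb hab h1 h2
    have h3 := card_eq_orbit_mul (zpowers r) a
    rw [show zpowers r ⊓ MulAction.stabilizer G a = ⊥ from
      eq_bot_iff.2 fun ρ h => free ρ h.1 a ha h.2, card_bot, Nat.card_zpowers, ho] at h3
    have h4 : {c | ∃ ρ ∈ zpowers r, ρ • a = c} = Set.univ \ {((1 : G) : G ⧸ M)} := by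
      refine Set.eq_of_subset_of_ncard_le ?_ (by
        rw [Set.ncard_sdiff_singleton_of_mem (Set.mem_univ _), Set.ncard_univ, hc]; omega)
      rintro _ ⟨ρ, hρ, rfl⟩
      refine ⟨trivial, fun h => ha ?_⟩
      rw [Set.mem_singleton_iff, smul_eq_iff_eq_inv_smul] at h
      rw [h, fix]; simpa using hRM hρ
    obtain ⟨ρ, hρ, rfl⟩ := h4.ge ⟨trivial, hb⟩
    have h5 := free (ρ⁻¹ * (g * ρ * g⁻¹)) (mul_mem (inv_mem hρ) ((mem_normalizer_iff.1 hg ρ).1 hρ))
      a ha (by rw [mul_smul, mul_smul, inv_smul_eq_iff.2 h1.symm, mul_smul, h2, inv_smul_smul])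
    rw [inv_mul_eq_one, eq_mul_inv_iff_mul_eq] at h5
    refine free g (hC ?_) a ha h1
    rw [← H35.centralizer_eq_of_mem (by norm_num) ho hρ fun h => hab (by rw [h, one_smul])]
    exact mem_centralizer_singleton_iff.2 h5.symm
  have key : ∀ (g : G) (x : Fin 3 ↪ G ⧸ M), g • x = x → g = 1 := by
    intro g x h
    have h1 : ∀ i, g • x i = x i := fun i => congrArg (fun y : Fin 3 ↪ G ⧸ M => y i) h
    obtain ⟨k, hk⟩ := QuotientGroup.mk_surjective (x 0)
    have h2 : ∀ i, i ≠ 0 → k⁻¹ • x i ≠ (1 : G) := fun i hi e => hi (x.injective (by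
      rw [inv_smul_eq_iff, MulAction.Quotient.smul_coe, smul_eq_mul, mul_one] at e
      rw [e, hk]))
    have h3 : ∀ i, (k⁻¹ * g * k) • k⁻¹ • x i = k⁻¹ • x i := fun i => by
      rw [mul_smul, smul_inv_smul, mul_smul, h1]
    have := key1 (k⁻¹ * g * k) _ _ ((fix _ _).1 (hk ▸ h1 0)) (h2 1 (by decide)) (h2 2 (by decide))
      (fun e => absurd (x.injective (MulAction.injective _ e)) (by decide)) (h3 1) (h3 2)
    rwa [mul_assoc, inv_mul_eq_one, right_eq_mul] at this
  haveI : Fintype (G ⧸ M) := Fintype.ofFinite _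
  rw [Nat.card_eq_fintype_card] at hc
  have hE : Nat.card (Fin 3 ↪ G ⧸ M) = 12144 := by
    rw [Nat.card_eq_fintype_card, Fintype.card_embedding_eq, hc]; decide
  have trans : ∀ x y : Fin 3 ↪ G ⧸ M, ∃ g : G, g • x = y := fun x y => by
    have h1 := card_eq_orbit_mul (⊤ : Subgroup G) x
    rw [show ⊤ ⊓ MulAction.stabilizer G x = ⊥ from eq_bot_iff.2 fun g h => key g x h.2, card_bot,
      card_top, hK, mul_one] at h1
    have h2 : {a | ∃ g ∈ (⊤ : Subgroup G), g • x = a} = Set.univ :=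
      Set.eq_of_subset_of_ncard_le (Set.subset_univ _) (by rw [Set.ncard_univ, hE, ← h1])
    obtain ⟨g, -, h⟩ := h2.ge (Set.mem_univ y)
    exact ⟨g, h⟩
  obtain ⟨F, _, _, hF, ⟨e⟩⟩ := S0730.result (p := 23) (f := 1) (by norm_num) (by decide) odd_one hc
    (MulAction.toPermHom G (G ⧸ M)).range ⟨fun x y => by
      obtain ⟨g, h⟩ := trans x y
      exact ⟨⟨_, g, rfl⟩, h⟩⟩ fun x => eq_bot_iff.2 (by
      rintro ⟨_, g, rfl⟩ h
      obtain rfl := key g x h
      exact Subtype.ext (map_one _))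
  obtain ⟨e'⟩ := pgl_congr hF
  obtain ⟨x⟩ : Nonempty (Fin 3 ↪ G ⧸ M) := (Nat.card_pos_iff.1 (by rw [hE]; decide)).1
  refine ⟨((MonoidHom.ofInjective ((injective_iff_map_eq_one _).2 fun g h => key g x ?_)).trans
    e).trans e'⟩
  ext i
  exact congrArg (fun σ : Equiv.Perm (G ⧸ M) => σ (x i)) h

variable {S : Setup G}

omit [Finite G] in
theorem mem_zpowers_coe {K : Subgroup G} {a b : K} : a ∈ zpowers b ↔ (a : G) ∈ zpowers (b : G) :=
  ⟨fun ⟨k, hk⟩ => ⟨k, congrArg Subtype.val hk⟩, fun ⟨k, hk⟩ => ⟨k, Subtype.ext hk⟩⟩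

theorem card_Xc {c : G} (hc : c * yy S = yy S * c) (hN : c ∉ S.N) (hr : S.th r0 ∈ Xc S c) :
    Nat.card (Xc S c) = 6072 := by
  have hs : shiftPerm ∈ pm S (Xc S c) := mem_pm.2 ⟨r0, Ks_le_Ns r0_mem, hr, rfl⟩
  have h1 := (card_stab hc hN).resolve_left fun h => by
    have := Subgroup.orderOf_dvd_natCard _ (show shiftPerm ∈ pm S (Xc S c) ⊓
      MulAction.stabilizer (Equiv.Perm GolayPt) (none : GolayPt) from ⟨hs, rfl⟩)
    rw [h, orderOf_shift] at this
    omega
  have h2 := card_Xc_eq hc hN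
  have h3 := orbit_mul (S := S) c
  have h4 := ncard_le_index {a | ∃ g ∈ S.N, g • (c : G ⧸ S.N) = a}
  rw [h1] at h2
  set T := {a | ∃ g ∈ pm S (Xc S c), g • (none : GolayPt) = a}
  have h5 : 1 < T.ncard := by
    by_contra h
    have := Nat.mul_le_mul h4 (h2.trans_le (Nat.mul_le_mul_right _ (not_lt.1 h)))
    omega
  obtain ⟨a, ⟨g, hg, ha⟩, h6⟩ := Set.exists_ne_of_one_lt_ncard h5 none
  obtain ⟨a, rfl⟩ := Option.ne_none_iff_exists'.1 h6
  have h7 : T = Set.univ := Set.eq_univ_of_forall fun b => by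
    cases b with
    | none => exact ⟨1, one_mem _, rfl⟩
    | some b =>
      have k : ∀ n : ℕ, (shiftPerm ^ n) (some a) = some (a + n) := fun n => by
        induction n with
        | zero => simp
        | succ n ih => rw [pow_succ', Equiv.Perm.mul_apply, ih, Nat.cast_succ, ← add_assoc]; rfl
      refine ⟨shiftPerm ^ (b - a).val * g, mul_mem (pow_mem hs _) hg, ?_⟩
      rw [mul_smul, ha, Equiv.Perm.smul_def, k, ZMod.natCast_zmod_val, add_sub_cancel]
  rw [h2, h7, Set.ncard_univ, Nat.card_eq_fintype_card, card_golayPt]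

theorem exists_pgl (S : Setup G) : ∃ K : Subgroup G,
    Nonempty (K ≃* GL (Fin 2) (ZMod 23) ⧸ center (GL (Fin 2) (ZMod 23))) := by
  have r0N := Ks_le_Ns r0_mem
  have or : orderOf (S.th r0) = 23 := (orderOf_th r0N).trans orderOf_r0
  have rN : S.th r0 ∈ S.N := mem_N.2 ⟨_, r0N, rfl⟩
  have hy : yy S ∈ normalizer ((zpowers (S.th r0) : Subgroup G) : Set G) := by
    rw [H35.mem_normalizer_zpowers_iff, yy, ← th_mul y0_Ns r0N, y0_r0,
      th_mul (pow_mem r0N 2) y0_Ns, mul_inv_cancel_right, th_pow r0N]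
    exact pow_mem (mem_zpowers _) 2
  obtain ⟨e, h1, h2⟩ := big_data S (by decide) or
  obtain ⟨h3, h4⟩ := (by decide : ∀ x ∈ bigL, x.1 = 23 → 11 ∣ x.2.1 * x.2.2 →
    x.2.2 = 23 ∧ x.2.1 = 22) _ h2 rfl (h1 ▸ orderOf_yy (S := S) ▸ Subgroup.orderOf_dvd_natCard _ hy)
  dsimp only at h3 h4
  rw [h3, h4] at h1
  have hC : centralizer {S.th r0} = zpowers (S.th r0) := (eq_of_le_of_card_ge
    (zpowers_le.2 (mem_centralizer_singleton_iff.2 rfl)) (by rw [h3, Nat.card_zpowers, or])).symm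
  generalize hr : S.th r0 = r at *
  set M := normalizer ((zpowers r : Subgroup G) : Set G) with hM
  obtain ⟨τ, τM, oτ, τy⟩ : ∃ τ ∈ M, orderOf τ = 2 ∧ τ * yy S = yy S * τ := by
    obtain ⟨P, hP⟩ := H35.exists_sylow_eq_zpowers (p := 11) (x := (⟨yy S, hy⟩ : M))
      ((orderOf_coe _).symm.trans orderOf_yy) (by rw [h1]; decide)
    have k1 := card_sylow_modEq_one 11 M
    rw [P.card_eq_index_normalizer] at k1
    have k2 := (normalizer (P : Set M)).card_mul_index
    have d : ∀ n ∈ Nat.divisors (22 * 23), n ≡ 1 [MOD 11] → ¬ 2 ∣ n := by decide +kernel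
    have k3 := d _ (Nat.mem_divisors.2 ⟨h1 ▸ Dvd.intro_left _ k2, by decide⟩) k1
    obtain ⟨τ, k4, k5⟩ := exists_orderOf Nat.prime_two ((Nat.prime_two.dvd_mul.1
      (by rw [k2, h1]; decide)).resolve_right k3)
    change τ ∈ normalizer ((P : Subgroup M) : Set M) at k4
    rw [hP, ← inv_mem_iff, H35.mem_normalizer_zpowers_iff, mem_zpowers_coe] at k4
    refine ⟨τ, τ.2, (orderOf_coe _).trans k5, ?_⟩
    have k6 : (yy S)⁻¹ * (τ : G)⁻¹ * yy S * τ ∈ zpowers r := hC ▸ mem_centralizer_singleton_iff.2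
      (comm_cent (H35.mem_normalizer_zpowers_iff.1 hy) (H35.mem_normalizer_zpowers_iff.1 τ.2))
    have k7 : (yy S)⁻¹ * (τ : G)⁻¹ * yy S * τ ∈ zpowers (yy S) := by
      have := mul_mem (inv_mem (mem_zpowers (yy S))) k4
      simpa [mul_assoc] using this
    have k8 := orderOf_eq_one_iff.1 (Nat.eq_one_of_dvd_coprimes (show Nat.Coprime 23 11 by decide)
      (or ▸ orderOf_dvd_of_mem_zpowers k6) (orderOf_yy (S := S) ▸ orderOf_dvd_of_mem_zpowers k7))
    rw [mul_assoc, ← mul_inv_rev, inv_mul_eq_one] at k8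
    exact k8
  have τ2 := mul_self_of_orderOf oτ
  have τi := inv_eq_of_mul_eq_one_right τ2
  have τN : τ ∉ S.N := fun h => by
    obtain rfl := (invol_cent_yy h τy τ2).resolve_left (ne_one_of_orderOf oτ (by decide))
    have tV : S.t ∈ S.V := mem_V.2 ⟨_, ts_mem', rfl⟩
    have k1 : S.t * r * S.t⁻¹ * r⁻¹ ∈ zpowers r :=
      mul_mem (H35.mem_normalizer_zpowers_iff.1 τM) (inv_mem (mem_zpowers r))
    have k2 : S.t * r * S.t⁻¹ * r⁻¹ ∈ S.V := by
      have := mul_mem tV (conj_mem_V rN (inv_mem tV))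
      simpa only [mul_assoc] using this
    have k3 := orderOf_eq_one_iff.1 (Nat.eq_one_of_dvd_coprimes (show Nat.Coprime 23 2 by decide)
      (or ▸ orderOf_dvd_of_mem_zpowers k1) (orderOf_dvd_of_pow_eq_one ((sq _).trans (V_sq k2))))
    rw [mul_inv_eq_one, mul_inv_eq_iff_eq_mul] at k3
    have k4 := dvd_card_cent k3
    rw [oτ, h3] at k4
    omega
  have rX : r ∈ Xc S τ := mem_Xc.2 ⟨rN, zpowers_le.2 rN (by
    have := H35.mem_normalizer_zpowers_iff.1 (inv_mem τM)
    rwa [inv_inv] at this)⟩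
  have hX := card_Xc τy τN (hr ▸ rX)
  have nX : ∀ g, g ∈ Xc S τ → τ * g * τ ∈ Xc S τ := fun g hg => mem_Xc.2
    ⟨by have := (mem_Xc.1 hg).2; rwa [τi] at this, by
      rw [τi, show τ * (τ * g * τ) * τ = τ * τ * g * (τ * τ) by group, τ2, one_mul, mul_one]
      exact hg.1⟩
  let K : Subgroup G :=
    { carrier := {g | g ∈ Xc S τ ∨ g * τ ∈ Xc S τ}
      one_mem' := Or.inl (one_mem _)
      mul_mem' := by
        rintro a b (ha | ha) (hb | hb)
        · exact Or.inl (mul_mem ha hb)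
        · exact Or.inr (mul_assoc a b τ ▸ mul_mem ha hb)
        · exact Or.inr (by
            have := mul_mem ha (nX b hb)
            rwa [show a * τ * (τ * b * τ) = a * (τ * τ) * b * τ by group, τ2, mul_one] at this)
        · exact Or.inl (by
            have := mul_mem ha (nX _ hb)
            rwa [show a * τ * (τ * (b * τ) * τ) = a * (τ * τ) * b * (τ * τ) by group, τ2, mul_one,
              mul_one] at this)
      inv_mem' := by
        rintro a (ha | ha)
        · exact Or.inl (inv_mem ha)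
        · exact Or.inr (by
            have := nX _ (inv_mem ha)
            rwa [mul_inv_rev, τi, ← mul_assoc, τ2, one_mul] at this) }
  have XK : Xc S τ ≤ K := fun _ h => Or.inl h
  have τK : τ ∈ K := Or.inr (τ2 ▸ one_mem _)
  have hK : Nat.card K = 12144 := by
    have k1 := card_inf_mul_relIndex (Xc S τ) K
    have k2 : (Xc S τ).relIndex K = 2 := index_eq_two_iff.2 ⟨⟨τ, τK⟩, fun b => by
      have k3 : ¬ ((b : G) ∈ Xc S τ ∧ (b : G) * τ ∈ Xc S τ) := fun h =>
        τN ((mul_mem_cancel_left h.1).1 h.2).1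
      rcases b.2 with h | h
      exacts [Or.inr ⟨h, fun h' => k3 ⟨h, h'⟩⟩, Or.inl ⟨h, fun h' => k3 ⟨h', h⟩⟩]⟩
    rw [inf_of_le_left XK, hX, k2] at k1
    exact k1.symm
  have MK : M ≤ K := by
    have k1 := Subgroup.orderOf_dvd_natCard (M ⊓ K) (x := r) ⟨le_normalizer (mem_zpowers r), XK rX⟩
    have k2 := Subgroup.orderOf_dvd_natCard (M ⊓ K) (x := yy S) ⟨hy, XK (yy_mem_Xc τy)⟩
    have k3 := Subgroup.orderOf_dvd_natCard (M ⊓ K) (x := τ) ⟨τM, τK⟩
    rw [or] at k1; rw [orderOf_yy] at k2; rw [oτ] at k3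
    exact inf_eq_left.1 (eq_of_le_of_card_ge inf_le_left (h1 ▸ Nat.le_of_dvd Nat.card_pos
      (Nat.Coprime.mul_dvd_of_dvd_of_dvd (by decide)
        (Nat.Coprime.mul_dvd_of_dvd_of_dvd (show Nat.Coprime 2 11 by decide) k3 k2) k1)))
  refine ⟨K, sharp3 (r := ⟨r, XK rX⟩) ((orderOf_coe _).symm.trans or) hK ?_ fun g hg =>
    mem_zpowers_coe.2 (hC ▸ mem_centralizer_singleton_iff.2
      (congrArg Subtype.val (mem_centralizer_singleton_iff.1 hg)))⟩
  rw [← show Nat.card (M.subgroupOf K) = 506 from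
    (Nat.card_congr (subgroupOfEquivOfLe MK).toEquiv).trans h1]
  congr 3
  ext g
  rw [H35.mem_normalizer_zpowers_iff, mem_zpowers_coe, mem_subgroupOf, hM,
    H35.mem_normalizer_zpowers_iff]
  rfl

end Cfsg.Agent.SGJ4.El
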