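/-
Project SGJ4, classes.  Certificates for upper bounds of the orders of centralisers in M22 : 2, in `X`,
in `Hb` and in `Ns`.
-/
import Cfsg.Agent.SGJ4.ClsA
import Cfsg.Agent.SGJ4.Gen
import Cfsg.Agent.H80.J4X
import Cfsg.Agent.H97.M24Cls

set_option autoImplicit false

namespace Cfsg.Agent.SGJ4.Cls

open Subgroup AG Cfsg.Agent.H14

/-! ### lists -/

/-- evaluate `f` on the members of `l` and pass the list of values on -/
noncomputable def mapF {α : Type} (f : α → ℕ) (l : List α) : (List ℕ → Bool) → Bool :=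
  List.rec (fun κ => κ []) (fun a _ ih κ => force (f a) fun x => ih fun t => κ (x :: t)) l

theorem mapF_eq {α : Type} (f : α → ℕ) (l : List α) (κ : List ℕ → Bool) :
    mapF f l κ = κ (l.map f) := by
  induction l generalizing κ with
  | nil => rfl
  | cons a l ih =>
    have e : mapF f (a :: l) κ = mapF f l fun t => κ (f a :: t) := by simp only [mapF, force_eq]
    rw [e, ih]; rfl

/-- no repetitions -/
noncomputable def ndB (l : List ℕ) : Bool :=
  List.rec true (fun a t ih => allL t (fun b => !(Nat.beq a b)) && ih) l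

theorem nodup_of_ndB {l : List ℕ} (h : ndB l = true) : l.Nodup := by
  induction l with
  | nil => exact List.nodup_nil
  | cons a l ih =>
    have e : ndB (a :: l) = (allL l (fun b => !(Nat.beq a b)) && ndB l) := rfl
    rw [e, Bool.and_eq_true, allL_iff] at h
    refine List.nodup_cons.2 ⟨fun ha => ?_, ih h.2⟩
    simpa using h.1 a ha

/-! ### M22 : 2 -/

def xL0 : Lev := ⟨nat_lit 23, nat_lit 0x800001,
  .node (nat_lit 23) (.leaf (nat_lit 0x244394da70922a432cb814cea55f7)) (.leaf pone)⟩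

/-- stabiliser chain of M22 : 2 -/
def xL : List Lev := xL0 :: m24CertL.tail.tail

theorem m22x_chain : GE.IsChain xL M22x := by
  refine ⟨⟨by decide, fun x hx h => ?_⟩, fun g hg => ?_, ?_⟩
  · have k : ∀ x < 24, tb xL0.O x = true → x = 0 ∨ x = 23 := by decide
    rcases k x hx h with rfl | rfl
    · obtain ⟨a, ha, e⟩ := inS_xG cu (by simp [xG])
      have e1 : GE.pk a.p = xL0.U.get 0 := by rw [← cP_cd, e]; decide +kernel
      refine ⟨a.p, p_mem_M22x a (X_le_Hb ha), e1, ?_⟩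
      rw [GE.apply_pt a.p (by decide), e1]
      exact congrArg GE.pt (by decide +kernel)
    · exact ⟨1, one_mem _, pk_one', rfl⟩
  · rcases (X49.mem_M22x.1 hg).2 with h | h
    · change tb xL0.O (idx (g none)) = true
      rw [h.1]; decide
    · change tb xL0.O (idx (g none)) = true
      rw [h.1]; decide
  · have : M22x ⊓ MulAction.stabilizer (Equiv.Perm GolayPt) (GE.pt xL0.b) = Spor.M22 := by
      ext g
      exact ⟨fun h => (mem_M22_iff h.1).2 h.2,
        fun h => ⟨M22_le_M22x h, (mem_M22_iff (M22_le_M22x h)).1 h⟩⟩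
    exact this ▸ m22_chain

/-- bound for a centraliser in M22 : 2 -/
def CP (P c : ℕ) : Prop := Nat.card ↥(M22x ⊓ centralizer {GE.perm P}) ≤ c

theorem cp_of {P c : ℕ} (Os : List ℕ)
    (h : clsOK (nat_lit 5) (nat_lit 32) (nat_lit 24) xL (nat_lit 0) ⟨P, c, Os⟩ = true) : CP P c :=
  (m22x_chain.of_clsOK (GE.fixes_zero _) h).2

theorem CP.card_le {a : AG} {c : ℕ} (h : CP (cP (cd a)) c) :
    Nat.card ↥(M22x ⊓ centralizer {a.p}) ≤ c := by
  rwa [CP, cP_cd, GE.perm_pk] at h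

/-! ### the group `X` -/

/-- bound for a centraliser in `X` -/
def CX (l c : ℕ) : Prop := InS X l ∧ Nat.card ↥(X ⊓ centralizer {ofC l}) ≤ c

/-- `wl` is a word for `l`; an entry `(w, j)` of `ws` conjugates `l` to `l * om ^ j` -/
noncomputable def x1OK (l : ℕ) (wl : List ℕ) (ws : List (List ℕ × ℕ)) (c0 c : ℕ) : Bool :=
  Nat.beq (cw xG wl) l &&
    allL ws (fun e => Nat.ble e.2 2 && force (cw xG e.1) fun y =>
      Nat.beq (cmul y l) (cmul (cmul l (cpow cw3 e.2)) y)) &&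
    ndB (ws.map Prod.snd) && Nat.ble (3 * c0) (ws.length * c) && Nat.ble 1 ws.length

theorem cx_of {l c0 c : ℕ} (hP : CP (cP l) c0) (wl : List ℕ) (ws : List (List ℕ × ℕ))
    (h : x1OK l wl ws c0 c = true) : CX l c := by
  simp only [x1OK, Bool.and_eq_true, beq_iff, ble_iff, allL_iff, force_eq] at h
  obtain ⟨⟨⟨⟨h1, h2⟩, h3⟩, h4⟩, h5⟩ := h
  obtain ⟨a, ha, rfl⟩ : InS X l := h1 ▸ inS_cw inS_xG wl
  refine ⟨inS_cd.2 ha, ?_⟩
  rw [ofC_cd]
  set K := X ⊓ (M22x ⊓ centralizer {a.p}).comap pr with hK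
  have k1 : Nat.card K ≤ 3 * c0 := by
    rw [hK, H80.J4.card_X_comap inf_le_left]; exact Nat.mul_le_mul_left _ hP.card_le
  have k2 : K ⊓ centralizer {a} = X ⊓ centralizer {a} := by
    refine le_antisymm (inf_le_inf_right _ inf_le_left) fun y hy =>
      ⟨⟨hy.1, p_mem_M22x y (X_le_Hb hy.1), ?_⟩, hy.2⟩
    exact mem_centralizer_singleton_iff.2 (congrArg AG.p (mem_centralizer_singleton_iff.1 hy.2))
  have k3 : ((ws.map Prod.snd).map fun j => a * om ^ j).length ≤ (cls K a).ncard := by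
    refine length_le_ncard ((nodup_of_ndB h3).map_on fun i hi j hj e => ?_) (Set.toFinite _)
      fun b hb => ?_
    · obtain ⟨i', hi', rfl⟩ := List.mem_map.1 hi
      obtain ⟨j', hj', rfl⟩ := List.mem_map.1 hj
      have := pow_eq_pow_iff_modEq.1 (mul_left_cancel e)
      rw [orderOf_om] at this
      exact this.eq_of_lt_of_lt (by have := (h2 i' hi').1; omega) (by have := (h2 j' hj').1; omega)
    · obtain ⟨j, hj, rfl⟩ := List.mem_map.1 hb
      obtain ⟨e, he, rfl⟩ := List.mem_map.1 hj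
      obtain ⟨y, hy, ey⟩ := inS_cw inS_xG e.1
      have := (h2 e he).2
      rw [← ey, ← cd_om, ← cd_pow, ← cd_mul, ← cd_mul, ← cd_mul, cd_inj] at this
      refine ⟨y, ⟨hy, p_mem_M22x y (X_le_Hb hy), mem_centralizer_singleton_iff.2 ?_⟩,
        mul_inv_eq_iff_eq_mul.2 this⟩
      have h6 := congrArg pr this
      rwa [map_mul, map_mul, map_mul, map_pow, pr_apply om, om_p, one_pow, mul_one] at h6
  have k4 := card_eq_cls_mul K a
  rw [k2] at k4
  rw [List.length_map, List.length_map] at k3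
  refine Nat.le_of_mul_le_mul_left (c := ws.length) ?_ h5
  calc _ ≤ (cls K a).ncard * _ := Nat.mul_le_mul_right _ k3
    _ ≤ _ := by rw [← k4]; exact k1.trans h4

/-! ### affine groups -/

theorem comm_parts {a b : AG} (h : a * b = b * a) :
    lin a * lin b = lin b * lin a ∧ a.m b.v = b.v + (a.v + b.m a.v) := by
  refine ⟨by rw [← map_mul, h, map_mul], ?_⟩
  have := congrArg AG.v h
  rw [mul_v, mul_v] at this
  rw [add_left_comm, ← this, Vb.add_add_cancel]

theorem affine_bound {K Z : Subgroup AG} {U : AddSubgroup Vb} {b : AG} (Φ : Vb →+ Vb)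
    (hK : ∀ y ∈ K, ∀ w ∈ U, y.m w ∈ U)
    (hZ : ∀ a ∈ Z, lin a ∈ K ∧ a.v ∈ U ∧ a * b = b * a)
    (hΦ : ∀ w ∈ U, Φ (w + b.m w) = 0) :
    Nat.card Z * {x | ∃ y ∈ K ⊓ centralizer {lin b}, Φ (y.m b.v) = x}.ncard ≤
      {w | w ∈ U ∧ b.m w = w}.ncard * Nat.card ↥(K ⊓ centralizer {lin b}) := by
  rw [card_eq_trP_mul, mul_assoc]
  refine Nat.mul_le_mul ?_ (card_mul_ncard_le (S := Z.map lin) (C := K ⊓ centralizer {lin b}) ?_
    (fun y : AG => Φ (y.m b.v)) ?_)
  · refine Set.ncard_le_ncard (s := (trP Z : Set Vb)) (fun w hw => ?_) (Set.toFinite _)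
    obtain ⟨-, h1, h2⟩ := hZ _ hw
    have := (comm_parts h2).2
    rw [tr_m, tr_v, left_eq_add, Vb.add_eq_zero'] at this
    exact ⟨h1, this.symm⟩
  · rintro _ ⟨a, ha, rfl⟩
    exact ⟨(hZ a ha).1, mem_centralizer_singleton_iff.2 (comm_parts (hZ a ha).2.2).1⟩
  · rintro y hy _ ⟨a, ha, rfl⟩
    obtain ⟨-, h1, h2⟩ := hZ a ha
    have h3 : y.m (b.m a.v) = b.m (y.m a.v) :=
      congrArg (fun c : AG => c.m a.v) (mem_centralizer_singleton_iff.1 hy.2)
    change Φ (y.m (a.m b.v)) = _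
    rw [(comm_parts h2).2, map_add, map_add, map_add y.m, h3, hΦ _ (hK y hy.1 _ h1), add_zero]

/-- the members of `ys` commute with `l` and move `v` to vectors with different values of `Φ` -/
noncomputable def orbOK (l v Φ : ℕ) (ys : List ℕ) : Bool :=
  allL ys (fun y => Nat.beq (cmul y l) (cmul l y)) && mapF (fun y => ap Φ (ap (cA y) v)) ys ndB

theorem le_ncard_of_orbOK {K : Subgroup AG} {l : AG} {v : Vb} {Φ : ℕ} {ys : List ℕ}
    (hK : ∀ y ∈ ys, InS K y) (h : orbOK (cd l) v.val Φ ys = true) :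
    ys.length ≤ {x | ∃ y ∈ K ⊓ centralizer {l}, hom Φ (y.m v) = x}.ncard := by
  simp only [orbOK, Bool.and_eq_true, beq_iff, allL_iff, mapF_eq] at h
  rw [← List.length_map (f := fun y => hom Φ ((ofC y).m v))]
  refine length_le_ncard (List.Nodup.of_map Vb.val ?_) (Set.toFinite _) fun x hx => ?_
  · rw [List.map_map, List.map_congr_left (g := fun y => ap Φ (ap (cA y) v.val)) fun y hy => by
      rw [Function.comp_apply, val_hom, val_m, (hK y hy).cd_ofC]]
    exact nodup_of_ndB h.2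
  · obtain ⟨y, hy, rfl⟩ := List.mem_map.1 hx
    refine ⟨ofC y, ⟨(hK y hy).ofC_mem, mem_centralizer_singleton_iff.2 (cd_inj.1 ?_)⟩, rfl⟩
    rw [cd_mul, cd_mul, (hK y hy).cd_ofC]; exact h.1 y hy

/-- value of `Φ (w + b w)` on basis vector `i` -/
def phiE (Φ A i : ℕ) : ℕ :=
  ap Φ (Nat.xor (Nat.shiftLeft (nat_lit 1) i) (ap A (Nat.shiftLeft (nat_lit 1) i)))

theorem val_phiE (Φ : ℕ) (b : AG) {i : ℕ} (hi : i < 12) :
    (hom Φ (Vb.e i + b.m (Vb.e i))).val = phiE Φ (cA (cd b)) i := by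
  rw [val_hom, Vb.val_add, val_m, val_e hi, ← Nat.one_shiftLeft]; rfl

theorem phi_add (Φ : Vb →+ Vb) (b : AG) (v w : Vb) :
    Φ (v + w + b.m (v + w)) = Φ (v + b.m v) + Φ (w + b.m w) := by
  rw [← map_add Φ, map_add b.m, add_add_add_comm]

theorem phi_top {Φ : ℕ} {b : AG} (h : allN 12 (fun i => Nat.beq (phiE Φ (cA (cd b)) i) 0) = true)
    (w : Vb) : hom Φ (w + b.m w) = 0 := by
  induction w using Vb.induction with
  | h0 => simp
  | he i hi => exact Vb.ext (by rw [val_phiE _ _ hi]; exact beq_iff.1 (allN_iff.1 h i hi))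
  | ha v w h1 h2 => rw [phi_add, h1, h2, add_zero]

theorem phi_Ev {Φ : ℕ} {b : AG}
    (h : allN 12 (fun i => Nat.beq (phiE Φ (cA (cd b)) i) (phiE Φ (cA (cd b)) 0)) = true) :
    ∀ w ∈ Ev, hom Φ (w + b.m w) = 0 := by
  have k : ∀ w, hom Φ (w + b.m w) = (par w).val • hom Φ (Vb.e 0 + b.m (Vb.e 0)) := by
    intro w
    induction w using Vb.induction with
    | h0 => rw [map_zero, add_zero, map_zero]; rfl
    | he i hi =>
      have h1 : ∀ i < 12, (par (Vb.e i)).val = 1 := by decide +kernel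
      rw [h1 i hi, one_nsmul]
      exact Vb.ext (by rw [val_phiE _ _ hi, val_phiE _ _ (by decide)]
                       exact beq_iff.1 (allN_iff.1 h i hi))
    | ha v w h1 h2 =>
      rw [phi_add, h1, h2, par_add]
      generalize hom Φ (Vb.e 0 + b.m (Vb.e 0)) = u
      have z2 : ∀ c : ZMod 2, c = 0 ∨ c = 1 := by decide
      rcases z2 (par v) with e | e <;> rcases z2 (par w) with e' | e' <;> rw [e, e']
      · exact (show (0 • u + 0 • u : Vb) = 0 • u by simp)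
      · exact (show (0 • u + 1 • u : Vb) = 1 • u by simp)
      · exact (show (1 • u + 0 • u : Vb) = 1 • u by simp)
      · exact (show (1 • u + 1 • u : Vb) = 0 • u by rw [Vb.add_self, zero_nsmul])
  intro w hw
  rw [k, mem_Ev.1 hw]; rfl

/-! ### the group `Hb` -/

/-- bound for a centraliser in `Hb` -/
def CH (b c : ℕ) : Prop := InS Hb b ∧ Nat.card ↥(Hb ⊓ centralizer {ofC b}) ≤ c

theorem inS_Hb {b : ℕ} (h1 : InS X (clin b)) (h2 : cV b ≤ 4095)
    (h3 : cmul (ctr (cV b)) (clin b) = b) : InS Hb b :=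
  h3 ▸ ((inS_tr _ (Nat.lt_succ_of_le h2)).mono Tr_le_Hb).mul (h1.mono X_le_Hb)

noncomputable def x2OK (b Φ : ℕ) (ws : List (List ℕ)) (c0 c : ℕ) : Bool :=
  Nat.ble (cV b) 4095 && Nat.beq (cmul (ctr (cV b)) (clin b)) b &&
    force (cA b) (fun A => allN 12 (fun i => Nat.beq (phiE Φ A i) 0) &&
      Nat.ble (cnt2 64 64 (fun n => Nat.beq (ap A n) n) * c0) (ws.length * c)) &&
    force (clin b) (fun l => force (cV b) fun v => mapF (cw xG) ws (orbOK l v Φ)) &&
    Nat.ble 1 ws.length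

theorem hb_bound {b : AG} (Φ : Vb →+ Vb) (hΦ : ∀ w, Φ (w + b.m w) = 0) :
    Nat.card ↥(Hb ⊓ centralizer {b}) *
        {x | ∃ y ∈ X ⊓ centralizer {lin b}, Φ (y.m b.v) = x}.ncard ≤
      {w | b.m w = w}.ncard * Nat.card ↥(X ⊓ centralizer {lin b}) := by
  have := affine_bound (K := X) (Z := Hb ⊓ centralizer {b}) (U := ⊤) Φ (fun _ _ _ _ => trivial)
    (fun a ha => ⟨ha.1, trivial, mem_centralizer_singleton_iff.1 ha.2⟩) fun w _ => hΦ w
  simpa using this

theorem ch_of {b c0 c : ℕ} (hX : CX (clin b) c0) (Φ : ℕ) (ws : List (List ℕ))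
    (h : x2OK b Φ ws c0 c = true) : CH b c := by
  simp only [x2OK, Bool.and_eq_true, beq_iff (a := cmul _ _), ble_iff, force_eq, mapF_eq] at h
  obtain ⟨⟨⟨⟨h1, h2⟩, h3, h4⟩, h5⟩, h6⟩ := h
  obtain ⟨a, ha, rfl⟩ := inS_Hb hX.1 h1 h2
  refine ⟨inS_cd.2 ha, ?_⟩
  have k0 := hX.2
  rw [← cd_lin, ofC_cd] at k0
  rw [ofC_cd]
  rw [← cd_lin, cV_cd] at h5
  have k1 := le_ncard_of_orbOK (K := X) (fun y hy => by
    obtain ⟨w, -, rfl⟩ := List.mem_map.1 hy
    exact inS_cw inS_xG w) h5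
  have k2 := hb_bound (hom Φ) (phi_top h3)
  rw [Vb.ncard_eq (fun w => a.m w = w) (fun n => Nat.beq (ap (cA (cd a)) n) n) fun v => by
    rw [beq_iff, ← val_m, Vb.val_inj]] at k2
  rw [List.length_map] at k1
  refine Nat.le_of_mul_le_mul_left (c := ws.length) ?_ h6
  calc _ ≤ _ := by rw [mul_comm]; exact Nat.mul_le_mul_left _ k1
    _ ≤ _ := k2
    _ ≤ _ := (Nat.mul_le_mul_left _ k0).trans h4

/-! ### the group `Ns` -/

/-- bound for a centraliser in `Ns` -/
def CN (n c : ℕ) : Prop := InS Ns n ∧ Nat.card ↥(Ns ⊓ centralizer {ofC n}) ≤ c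

/-- the stabiliser of the duad in the complement -/
def Kt : Subgroup AG := Ks ⊓ M22x.comap pr

theorem cd_tN : cd tN = ctr 1141 := by rw [tN, cd_tr]; rfl

noncomputable def nOK (n k Φ : ℕ) (Ps : List ℕ) (c0 c : ℕ) : Bool :=
  inNs n && Nat.beq (cpow n k) (ctr 1141) &&
    force (cA n) (fun A => allN 12 (fun i => Nat.beq (phiE Φ A i) (phiE Φ A 0)) &&
      Nat.ble (cnt2 64 64 (fun x => Nat.beq (pn x) 0 && Nat.beq (ap A x) x) * c0)
        (Ps.length * c)) &&
    force (clin n) (fun l => force (cV n) fun v => mapF (fun P => cN P 0) Ps fun ys =>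
      allL ys (fun y => inNf y && Nat.beq (cV y) 0 && Nat.beq (ap (cA y) 1141) 1141) &&
        orbOK l v Φ ys) &&
    Nat.ble 1 Ps.length

theorem card_Kt_le {a : AG} : Nat.card ↥(Kt ⊓ centralizer {lin a}) ≤
    Nat.card ↥(M22x ⊓ centralizer {a.p}) := by
  refine Nat.card_le_card_of_injective (fun y => ⟨y.1.p, y.2.1.2, mem_centralizer_singleton_iff.2
    (congrArg AG.p (mem_centralizer_singleton_iff.1 y.2.2))⟩) fun y y' e => Subtype.ext ?_
  rw [← lin_eq_self.2 y.2.1.1.2, ← lin_eq_self.2 y'.2.1.1.2]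
  exact lin_eq_of_p y.2.1.1.1 y'.2.1.1.1 (congrArg Subtype.val e)

theorem m_ts_of_comm {a : AG} (h : a * tN = tN * a) : a.m ts = ts := by
  rw [tN, mul_tr] at h; exact tr_inj.1 (mul_right_cancel h)

theorem cn_of {n k c0 c : ℕ} (hP : CP (cP n) c0) (Φ : ℕ) (Ps : List ℕ)
    (h : nOK n k Φ Ps c0 c = true) : CN n c ∧ ofC n ^ k = tN := by
  simp only [nOK, Bool.and_eq_true, beq_iff (a := cpow _ _), ble_iff, force_eq, mapF_eq] at h
  obtain ⟨⟨⟨⟨h1, h2⟩, h3, h4⟩, h5, h5'⟩, h6⟩ := h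
  obtain ⟨a, ha, rfl⟩ := inS_Ns h1
  rw [← cd_pow, ← cd_tN, cd_inj] at h2
  rw [CN, ofC_cd]
  refine ⟨⟨inS_cd.2 ha, ?_⟩, h2⟩
  rw [← cd_lin, cV_cd] at h5'
  have k1 := le_ncard_of_orbOK (K := Kt) (fun y hy => by
    have := allL_iff.1 h5 y hy
    simp only [Bool.and_eq_true, beq_iff] at this
    obtain ⟨d, hd, rfl⟩ := inS_Nf this.1.1
    refine inS_cd.2 ⟨⟨hd, Vb.ext (by rw [← cV_cd]; exact this.1.2)⟩, (fix_ts_iff hd).1 ?_⟩
    exact Vb.ext (by rw [val_m]; exact this.2)) h5'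
  have k2 := affine_bound (K := Kt) (Z := Ns ⊓ centralizer {a}) (U := Ev) (hom Φ)
    (fun y hy w hw => (m_mem_Ev hy.1.1).2 hw) (fun d hd => by
      have e := mem_centralizer_singleton_iff.1 hd.2
      refine ⟨⟨lin_mem_Ks hd.1.1, (fix_ts_iff hd.1.1).1 (m_ts_of_comm ?_)⟩, hd.1.2, e⟩
      rw [← h2]; exact (show Commute d a from e).pow_right k) (phi_Ev h3)
  rw [Vb.ncard_eq (fun w => w ∈ Ev ∧ a.m w = w)
    (fun x => Nat.beq (pn x) 0 && Nat.beq (ap (cA (cd a)) x) x) fun v => by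
    rw [Bool.and_eq_true, beq_iff, beq_iff, ← val_m, Vb.val_inj, mem_Ev']] at k2
  rw [List.length_map] at k1
  refine Nat.le_of_mul_le_mul_left (c := Ps.length) ?_ h6
  calc _ ≤ _ := by rw [mul_comm]; exact Nat.mul_le_mul_left _ k1
    _ ≤ _ := k2
    _ ≤ _ := (Nat.mul_le_mul_left _ (card_Kt_le.trans hP.card_le)).trans h4

/-! ### non-conjugacy in `Hb` -/

/-- `b`, `b'` have the same permutation, whose centraliser is generated by the permutation of the word
`wh` of order `c`; no member of the preimage in `X` conjugates `b` to `b'` modulo translations -/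
noncomputable def ncOK (b b' Φ : ℕ) (wh : List ℕ) (c : ℕ) : Bool :=
  force (cw xG wh) fun h => force (clin b) fun l => force (clin b') fun l' =>
    Nat.beq (cP b) (cP b') && Nat.beq (pmul (cP h) (cP b)) (pmul (cP b) (cP h)) &&
    Nat.beq (ordN (nat_lit 5) (nat_lit 32) (nat_lit 24) (cP h) 24) c && Nat.ble 1 c &&
    allN 12 (fun i => Nat.beq (phiE Φ (cA b') i) 0) &&
    allN c fun i => force (cpow h i) fun hi => allN 3 fun j => force (cmul (cpow cw3 j) hi) fun y =>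
      bimp (Nat.beq (cmul y l) (cmul l' y))
        (!(Nat.beq (ap Φ (Nat.xor (ap (cA y) (cV b)) (cV b'))) 0))

theorem not_conj_of {b b' : AG} {c : ℕ} (hP : CP (cP (cd b)) c) (Φ : ℕ) (wh : List ℕ)
    (h : ncOK (cd b) (cd b') Φ wh c = true) : ∀ a ∈ Hb, a * b * a⁻¹ ≠ b' := by
  intro a ha e
  obtain ⟨g, hg, eg⟩ := inS_cw inS_xG wh
  simp only [ncOK, force_eq, Bool.and_eq_true, ble_iff, ← eg, cP_cd, beq_iff (a := GE.pk _),
    beq_iff (a := pmul _ _), beq_iff (a := ordN _ _ _ _ _), ← GE.pk_mul, GE.pk_inj] at h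
  obtain ⟨⟨⟨⟨⟨h1, h2⟩, h3⟩, h4⟩, h5⟩, h6⟩ := h
  have ho : orderOf g.p = c := by
    rw [← h3]; exact GE.orderOf_eq_ordN _ (by rw [h3]; omega)
  have k1 : zpowers g.p = M22x ⊓ centralizer {b.p} := by
    refine eq_of_le_of_card_ge ?_ (by rw [Nat.card_zpowers, ho]; exact hP.card_le)
    exact zpowers_le.2 ⟨p_mem_M22x g (X_le_Hb hg), mem_centralizer_singleton_iff.2 h2⟩
  have e' : a * b = b' * a := mul_inv_eq_iff_eq_mul.1 e
  have k2 : a.p ∈ zpowers g.p := by
    rw [k1]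
    refine ⟨p_mem_M22x a ha, mem_centralizer_singleton_iff.2 ?_⟩
    have := congrArg AG.p e'
    rwa [mul_p, mul_p, ← h1] at this
  obtain ⟨i, hi, ei⟩ : ∃ i < c, g.p ^ i = a.p := by
    obtain ⟨i, ei⟩ := mem_powers_iff_mem_zpowers.2 k2
    exact ⟨i % c, Nat.mod_lt _ h4, by rw [← ho, pow_mod_orderOf]; exact ei⟩
  obtain ⟨j, hj, ej⟩ : ∃ j < 3, lin a = om ^ j * g ^ i := by
    obtain ⟨j, hj, ej⟩ := X49.ker_pow (a := lin a * (g ^ i)⁻¹)
      (mul_mem ha (inv_mem (pow_mem hg i))) (by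
        rw [mul_p, inv_p, lin_p, ← ei, ← pr_apply (g ^ i), map_pow, pr_apply, mul_inv_cancel])
    exact ⟨j, hj, mul_inv_eq_iff_eq_mul.1 ej⟩
  have k3 := allN_iff.1 (allN_iff.1 h6 i hi) j hj
  rw [← cd_om, ← cd_pow, ← cd_pow, ← cd_mul, ← ej, ← cd_lin, ← cd_lin, ← cd_mul, ← cd_mul,
    ← map_mul, ← map_mul, e', cV_cd, cV_cd, ← val_m, lin_m] at k3
  have k4 := bimp_iff.1 k3 (beq_iff.2 rfl)
  have k5 : a.m b.v + b'.v = a.v + b'.m a.v := by
    have := congrArg AG.v e'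
    rw [mul_v, mul_v] at this
    rw [← Vb.add_add_cancel a.v (a.m b.v), this, add_assoc, add_comm b'.v, add_assoc, Vb.add_self,
      add_zero]
  have k6 := congrArg Vb.val (phi_top h5 a.v)
  rw [← k5, val_hom, Vb.val_add] at k6
  rw [show Nat.xor (a.m b.v).val b'.v.val = (a.m b.v).val ^^^ b'.v.val from rfl, k6] at k4
  exact absurd k4 (by decide)

/-! ### no elements of order 35 -/

theorem not35_M24 {g : Equiv.Perm GolayPt} (hg : g ∈ M24) : ¬ 35 ∣ orderOf g := by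
  obtain ⟨c, hc, -, h, -⟩ := H97.m24_rep hg
  rw [h]
  exact (by decide +kernel : ∀ c ∈ m24Cl,
    ¬ 35 ∣ ordN (nat_lit 5) (nat_lit 32) (nat_lit 24) c.X 24) c hc

theorem pow_six_Hb {a : AG} (ha : a ∈ Hb) (h : a.p = 1) : a ^ 6 = 1 := by
  obtain ⟨j, -, ej⟩ := X49.ker_pow (a := lin a) ha h
  have h1 : lin (a ^ 3) = 1 := by
    rw [map_pow, ej, ← pow_mul, mul_comm, pow_mul, H80.J4.om_cube, one_pow]
  rw [show 6 = 3 * 2 from rfl, pow_mul, lin_eq_one.1 h1, sq, tr_mul_self]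

theorem pow_six_Nf {a : AG} (ha : a ∈ Nf) (h : a.p = 1) : a ^ 6 = 1 := by
  have h1 : lin a = 1 := lin_eq_of_p ha (one_mem _) h
  rw [show 6 = 2 * 3 from rfl, pow_mul, lin_eq_one.1 h1, sq, tr_mul_self, one_pow]

end Cfsg.Agent.SGJ4.Cls
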