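/-
Project SGJ4, classes.  Representatives of the classes of elements with a power `z`, `t` or `p`.
-/
import Cfsg.Agent.SGJ4.ClsB
import Cfsg.Agent.H80.J4R

set_option autoImplicit false

namespace Cfsg.Agent.SGJ4.Cls

open Subgroup AG Cfsg.Agent.H14 Setup1 Setup

section S1

variable {G : Type*} [Group G] {S : Setup1 G}

theorem z2_cases (c : ZMod 2) : c = 0 ∨ c = 1 := by revert c; decide

theorem eq_mul_zp {g h : G} (hg : g ∈ S.H) (hh : h ∈ S.H) (e : S.pi g = S.pi h) :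
    ∃ c, g = h * zp S.z c := by
  rcases (pi_eq_iff hg hh).1 e with e | e
  exacts [⟨0, by rw [zp_zero, mul_one, e]⟩, ⟨1, e⟩]

theorem zp_inj {a b : ZMod 2} (h : zp S.z a = zp S.z b) : a = b := by
  have h1 : zp S.z (a + b) = 1 := by rw [zp_add S.z_mul_z, h, S.zp_mul_self]
  have h2 := (zp_eq_one S.z_ne_one).1 h1
  revert h2; generalize a = a; generalize b = b; revert a b; decide

theorem mul_zp_cube {g : G} (hg : g ∈ S.H) (c : ZMod 2) :
    (g * zp S.z c) ^ 3 = g ^ 3 * zp S.z c := by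
  rw [(show Commute g (zp S.z c) from S.zp_comm hg c).mul_pow, pow_succ (zp S.z c), sq,
    S.zp_mul_self, one_mul]

theorem tr_om_cube (f : Vb) : (tr f * om) ^ 3 = 1 := by
  have h : (tr f * om) ^ 3 = tr (f + om.m f) * (om * om) * (tr f * om) := by
    rw [pow_succ, sq, tr_mul_sq]
  rw [h, mul_assoc, ← mul_assoc (om * om), mul_tr, mul_assoc, X49.om_cube, mul_one, ← tr_add, mul_m,
    om_om, Vb.add_self, tr_zero]

theorem cube_central {e : G} (he : e ∈ S.H) {f : Vb} (h : S.pi e = tr f) :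
    ∃ c, (e * S.p) ^ 3 = zp S.z c := by
  obtain ⟨c, hc⟩ := eq_mul_zp (pow_mem (mul_mem he S.p_mem) 3) (one_mem _)
    (by rw [pi_pow (mul_mem he S.p_mem), pi_mul he S.p_mem, h, pi_p, tr_om_cube, pi_one])
  exact ⟨c, by rw [hc, one_mul]⟩

theorem conj_zp {g : G} (hg : g ∈ S.H) (c : ZMod 2) : g * zp S.z c * g⁻¹ = zp S.z c := by
  rw [S.zp_comm hg, mul_inv_cancel_right]

theorem exists_conj_zp {g e : G} (hg : g ∈ S.H) (he : e ∈ S.H) {f : Vb} (h : S.pi e = tr f)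
    (hf : (S.pi g).m f = f) : ∃ c, g * e * g⁻¹ = e * zp S.z c :=
  eq_mul_zp (mul_mem (mul_mem hg he) (inv_mem hg)) he (by rw [pi_conj hg he, h, conj_tr, hf])

/-- an inner member of the complement centralises the lifts of the vectors it fixes -/
theorem conj_inner {g e : G} (hg : g ∈ S.H) (hX : S.pi g ∈ X) (hi : Inner (S.pi g)) (he : e ∈ S.H)
    {f : Vb} (h : S.pi e = tr f) (hf : (S.pi g).m f = f) : g * e * g⁻¹ = e := by
  obtain ⟨c, hc⟩ := exists_conj_zp hg he h hf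
  obtain ⟨d, hd⟩ := cube_central he h
  have hp : g * S.p * g⁻¹ = S.p := H80.J4.conj_eq_of_pi hg S.p_mem S.p_mem H80.J4.p_cube
    H80.J4.p_cube (by rw [pi_p, inner_comm hX hi, mul_inv_cancel_right])
  have h1 : g * (e * S.p) * g⁻¹ = e * S.p * zp S.z c := by
    rw [show g * (e * S.p) * g⁻¹ = g * e * g⁻¹ * (g * S.p * g⁻¹) by group, hc, hp, mul_assoc,
      ← S.zp_comm S.p_mem, mul_assoc]
  have h2 := congrArg (· ^ 3) h1
  simp only [conj_pow] at h2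
  rw [mul_zp_cube (mul_mem he S.p_mem), hd, conj_zp hg, left_eq_mul] at h2
  rw [hc, h2, mul_one]

theorem conj_outer {g e : G} (hg : g ∈ S.H) (hX : S.pi g ∈ X) (hi : ¬ Inner (S.pi g))
    (he : e ∈ S.H) {f : Vb} (h : S.pi e = tr f) (hf : (S.pi g).m f = f) :
    g * e * g⁻¹ = e * zp S.z (q f) := by
  obtain ⟨c, hc⟩ := exists_conj_zp hg he h hf
  obtain ⟨d, hd⟩ := cube_central he h
  have hp : g * S.p * g⁻¹ = S.p⁻¹ := H80.J4.conj_eq_of_pi hg S.p_mem (inv_mem S.p_mem) H80.J4.p_cube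
    (by rw [inv_pow, H80.J4.p_cube, inv_one])
    (by rw [pi_inv S.p_mem, pi_p, outer_comm hX hi, mul_inv_cancel_right])
  have h1 : g * (e * S.p) * g⁻¹ = e * S.p⁻¹ * zp S.z c := by
    rw [show g * (e * S.p) * g⁻¹ = g * e * g⁻¹ * (g * S.p * g⁻¹) by group, hc, hp, mul_assoc,
      ← S.zp_comm (inv_mem S.p_mem), mul_assoc]
  have h2 := congrArg (· ^ 3) h1
  simp only [conj_pow] at h2
  rw [mul_zp_cube (mul_mem he (inv_mem S.p_mem)), hd, conj_zp hg] at h2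
  have h3 : e⁻¹ = e * zp S.z (q f) := by
    rw [← sq_of_pi he h, inv_eq_iff_mul_eq_one, ← mul_assoc, ← mul_assoc, mul_assoc (e * e),
      sq_of_pi he h, S.zp_mul_self]
  have h4 : (e * S.p⁻¹) ^ 3 = zp S.z (d + q f) := by
    have h5 : e * S.p⁻¹ = S.p * (e * S.p * zp S.z (q f))⁻¹ * S.p⁻¹ := by
      rw [mul_assoc e, S.zp_comm S.p_mem, ← mul_assoc e, ← h3]; group
    rw [h5, conj_pow, inv_pow, mul_zp_cube (mul_mem he S.p_mem), hd, ← zp_add S.z_mul_z,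
      inv_eq_of_mul_eq_one_right (S.zp_mul_self _), conj_zp S.p_mem]
  rw [h4, ← zp_add S.z_mul_z] at h2
  have h6 := zp_inj h2
  have h7 : c = q f := by
    revert h6; generalize q f = a; generalize d = d; generalize c = c; revert a d c; decide
  rw [hc, h7]

theorem exists_decomp {x : G} (hx : x ∈ S.H) :
    ∃ e ∈ S.H, ∃ g ∈ S.H, S.pi e = tr (S.pi x).v ∧ S.pi g = lin (S.pi x) ∧ x = e * g := by
  obtain ⟨e, he, h⟩ := exists_tr (S := S) (S.pi x).v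
  refine ⟨e, he, e⁻¹ * x, mul_mem (inv_mem he) hx, h, ?_, by group⟩
  rw [pi_mul (inv_mem he) hx, pi_inv he, h, inv_mul_eq_iff_eq_mul, tr_mul_lin]

/-- a lift of a fixed vector that does not commute with `x` -/
theorem not_comm {x e : G} (hx : x ∈ S.H) (he : e ∈ S.H) {f : Vb} (h : S.pi e = tr f)
    (hf : (S.pi x).m f = f) (hB : (Inner (S.pi x) ∧ B (S.pi x).v f = 1) ∨
      (¬ Inner (S.pi x) ∧ B (S.pi x).v f + q f = 1)) : e * x ≠ x * e := by
  obtain ⟨d, hd, g, hg, h1, h2, h3⟩ := exists_decomp hx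
  have hX : S.pi g ∈ X := h2 ▸ pi_mem x
  have hf' : (S.pi g).m f = f := by rw [h2]; exact hf
  have k : ∃ c, g * e * g⁻¹ = e * zp S.z c ∧ B (S.pi x).v f + c = 1 := by
    rcases hB with ⟨hi, hB⟩ | ⟨hi, hB⟩
    · exact ⟨0, by rw [zp_zero, mul_one]; exact conj_inner hg hX (h2 ▸ hi) he h hf',
        by rw [add_zero, hB]⟩
    · exact ⟨_, conj_outer hg hX (h2 ▸ hi) he h hf', hB⟩
  obtain ⟨c, hc, hc'⟩ := k
  have h4 := comm_of_pi hd he h1 h
  have h5 : x * e = e * x * S.z := by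
    calc x * e = d * (g * e * g⁻¹) * g := by rw [h3]; group
      _ = e * d * (zp S.z (B (S.pi x).v f) * zp S.z c) * g := by
        rw [hc, ← mul_assoc d, h4]; simp only [mul_assoc]
      _ = e * x * S.z := by
        rw [← zp_add S.z_mul_z, hc', zp_one, mul_assoc, ← S.mem_H.1 hg, h3]; simp only [mul_assoc]
  intro e'
  rw [h5, left_eq_mul] at e'
  exact S.z_ne_one e'

theorem bar_cent_le {x : G} (hx : x ∈ S.H) :
    S.bar (centralizer {x}) ≤ Hb ⊓ centralizer {S.pi x} := fun b hb => by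
  obtain ⟨g, h1, h2, rfl⟩ := mem_bar.1 hb
  refine ⟨pi_mem g, mem_centralizer_singleton_iff.2 ?_⟩
  rw [← pi_mul h2 hx, mem_centralizer_singleton_iff.1 h1, pi_mul hx h2]

theorem cent_le_H {x : G} {n : ℕ} (h : x ^ n = S.z) : centralizer {x} ≤ S.H := fun g hg => by
  rw [S.mem_H, ← h]
  exact (show Commute g x from mem_centralizer_singleton_iff.1 hg).pow_right n

theorem card_cent_eq {x : G} (hx : x ∈ S.H) (h : centralizer {x} ≤ S.H) :
    Nat.card (centralizer ({x} : Set G)) = 2 * Nat.card (S.bar (centralizer {x})) :=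
  card_of_z_mem h (mem_centralizer_singleton_iff.2 (S.mem_H.1 hx).symm)

theorem card_cent_le {x : G} (hx : x ∈ S.H) (h : centralizer {x} ≤ S.H) :
    Nat.card (centralizer ({x} : Set G)) ≤ 2 * Nat.card ↥(Hb ⊓ centralizer {S.pi x}) := by
  rw [card_cent_eq hx h]; exact Nat.mul_le_mul_left _ (card_le_of_le (bar_cent_le hx))

theorem card_cent_le' {x : G} (hx : x ∈ S.H) (h : centralizer {x} ≤ S.H) {f : Vb}
    (hf : (S.pi x).m f = f) (hB : (Inner (S.pi x) ∧ B (S.pi x).v f = 1) ∨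
      (¬ Inner (S.pi x) ∧ B (S.pi x).v f + q f = 1)) :
    Nat.card (centralizer ({x} : Set G)) ≤ Nat.card ↥(Hb ⊓ centralizer {S.pi x}) := by
  rw [card_cent_eq hx h]
  refine two_mul_le_of_lt (bar_cent_le hx) fun e => ?_
  have h1 : tr f ∈ S.bar (centralizer {x}) := by
    rw [e]; exact ⟨tr_mem_Hb f, mem_centralizer_singleton_iff.2 (by rw [mul_tr, hf])⟩
  obtain ⟨g, h2, h3, h4⟩ := mem_bar.1 h1
  exact not_comm hx h3 h4 hf hB (mem_centralizer_singleton_iff.1 h2)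

/-- the powers `b ^ (2 n / p)` for the odd divisors `p > 1` of `n` are not trivial -/
noncomputable def ordOK (b n : ℕ) : Bool :=
  Nat.ble 1 n && allN (2 * n + 1) fun p =>
    bimp (Nat.ble 3 p && Nat.beq (p % 2) 1 && Nat.beq (2 * n % p) 0)
      (!(Nat.beq (cpow b (2 * n / p)) cone))

theorem of_ordOK {b : AG} {n : ℕ} (h : ordOK (cd b) n = true) :
    0 < n ∧ ∀ p, 2 < p → p % 2 = 1 → p ∣ 2 * n → b ^ (2 * n / p) ≠ 1 := by
  simp only [ordOK, Bool.and_eq_true, ble_iff] at h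
  refine ⟨h.1, fun p h1 h2 h3 e => ?_⟩
  have := bimp_iff.1 (allN_iff.1 h.2 p (Nat.lt_succ_of_le (Nat.le_of_dvd (by omega) h3))) (by
    simp only [Bool.and_eq_true, ble_iff, beq_iff]
    exact ⟨⟨h1, h2⟩, Nat.mod_eq_zero_of_dvd h3⟩)
  rw [← cd_pow, e, cd_one, beq_iff.2 rfl] at this
  exact absurd this (by decide)

/-- a representative with a power `z` -/
structure ZR (S : Setup1 G) (x : G) (b : AG) (n c : ℕ) : Prop where
  mem : x ∈ S.H
  pi : S.pi x = b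
  pow : x ^ n = S.z
  ord : orderOf x = 2 * n
  card : Nat.card (centralizer ({x} : Set G)) ≤ c

theorem orderOf_Z {x : G} (hx : x ∈ S.H) {n : ℕ} (h : x ^ n = S.z)
    (ho : ordOK (cd (S.pi x)) n = true) : orderOf x = 2 * n :=
  orderOf_of_pow (of_ordOK ho).1 h S.z_ne_one S.z_mul_z fun p h1 h2 h3 e =>
    (of_ordOK ho).2 p h1 h2 h3 (by rw [← pi_pow hx, e, pi_one])

noncomputable def zoOK (b n : ℕ) : Bool :=
  Nat.beq (n % 2) 1 && Nat.beq (cpow b n) cone && ordOK b n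

theorem exists_zo (S : Setup1 G) {b n c : ℕ} (hb : CH b c) (h : zoOK b n = true) :
    ∃ x, ZR S x (ofC b) n (2 * c) := by
  simp only [zoOK, Bool.and_eq_true, beq_iff] at h
  obtain ⟨⟨a, ha, rfl⟩, hc⟩ := hb
  rw [ofC_cd] at hc ⊢
  rw [← cd_pow, ← cd_one, cd_inj] at h
  obtain ⟨x, hx, h1, h2⟩ : ∃ x ∈ S.H, S.pi x = a ∧ x ^ n = S.z := by
    obtain ⟨g, hg, e⟩ := exists_pi (S := S) ha
    rcases (pi_eq_one (pow_mem hg n)).1 (by rw [pi_pow hg, e, h.1.2]) with h1 | h1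
    · refine ⟨g * S.z, mul_mem hg S.z_mem, by rw [pi_mul_z hg, e], ?_⟩
      rw [(show Commute g S.z from S.mem_H.1 hg).mul_pow, h1, one_mul, ← pow_mod_orderOf, S.ord_z,
        h.1.1, pow_one]
    · exact ⟨g, hg, e, h1⟩
  exact ⟨x, hx, h1, h2, orderOf_Z hx h2 (h1 ▸ h.2),
    (card_cent_le hx (cent_le_H h2)).trans (Nat.mul_le_mul_left _ (h1 ▸ hc))⟩

theorem ZR.inv_pow {x : G} {b : AG} {n c : ℕ} (h : ZR S x b n c) : x⁻¹ ^ n = S.z := by
  rw [_root_.inv_pow, h.pow, S.z_inv]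

theorem ZR.not_conj_H {x y : G} {b b' : AG} {n c c' : ℕ} (h : ZR S x b n c) (h' : ZR S y b' n c')
    (hb : ∀ a ∈ Hb, a * b * a⁻¹ ≠ b') {g : G} (hg : g ∈ S.H) : g * x * g⁻¹ ≠ y := fun e =>
  hb _ (pi_mem g) (by rw [← h.pi, ← pi_conj hg h.mem, e, h'.pi])

theorem ZR.not_conj {x y : G} {b b' : AG} {n c c' : ℕ} (h : ZR S x b n c) (h' : ZR S y b' n c')
    (hb : ∀ a ∈ Hb, a * b * a⁻¹ ≠ b') : ¬ IsConj x y := fun e => by
  obtain ⟨g, e⟩ := isConj_iff.1 e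
  refine h.not_conj_H h' hb (S.mem_H.2 (mul_inv_eq_iff_eq_mul.1 ?_)) e
  rw [← h.pow, ← conj_pow, e, h'.pow, h.pow]

theorem not_conj_cyc {b b' : ℕ} (hb : InS Hb b) (hb' : InS Hb b')
    (h : Nat.beq (cycInv (nat_lit 5) (nat_lit 32) (nat_lit 24) (cP b))
      (cycInv (nat_lit 5) (nat_lit 32) (nat_lit 24) (cP b')) = false) :
    ∀ a ∈ Hb, a * ofC b * a⁻¹ ≠ ofC b' := fun a _ e => by
  have := GE.cycInv_conj (congrArg AG.p (mul_inv_eq_iff_eq_mul.1 e))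
  rw [← cP_cd, ← cP_cd, hb.cd_ofC, hb'.cd_ofC, ← beq_iff, h] at this
  exact absurd this (by decide)

theorem not_conj_nc {b b' c : ℕ} (hb : InS Hb b) (hb' : InS Hb b') (hP : CP (cP b) c) (Φ : ℕ)
    (wh : List ℕ) (h : ncOK b b' Φ wh c = true) : ∀ a ∈ Hb, a * ofC b * a⁻¹ ≠ ofC b' :=
  not_conj_of (by rwa [hb.cd_ofC]) Φ wh (by rwa [hb.cd_ofC, hb'.cd_ofC])

end S1

variable {G : Type*} [Group G] {S : Setup G}

theorem sq_eq_z {y : G} (hy : y ∈ S.H) (hi : Inner (S.pi y))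
    (h2 : lin (S.pi y) * lin (S.pi y) = 1) (hf : (S.pi y).m (S.pi y).v = (S.pi y).v)
    (hq : q (S.pi y).v = 1) : y * y = S.z := by
  obtain ⟨d, hd, g, hg, h1, h3, h4⟩ := exists_decomp hy
  have hX : S.pi g ∈ X := h3 ▸ pi_mem y
  have k1 := conj_inner hg hX (h3 ▸ hi) hd h1 (by rw [h3]; exact hf)
  have k2 := S.inv_lift g hg hX (by rw [h3, h2])
  have k3 := sq_of_pi hd h1
  rw [hq, zp_one] at k3
  calc y * y = d * (g * d * g⁻¹) * (g * g) := by rw [h4]; group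
    _ = S.z := by rw [k1, k2, mul_one, k3]

noncomputable def zeOK (b k f : ℕ) : Bool :=
  force (cpow b k) (fun y => Nat.beq (cmul (clin y) (clin y)) cone && Nat.beq (papp (cP y) 23) 23 &&
      Nat.beq (ap (cA y) (cV y)) (cV y) && Nat.beq (ty (cV y)) 3) &&
    Nat.ble f 4095 && Nat.beq (ap (cA b) f) f &&
    Nat.beq ((qn (cV b ^^^ f) + qn (cV b) + qn f +
      Bool.rec (qn f) 0 (Nat.beq (papp (cP b) 23) 23)) % 2) 1 && ordOK b (2 * k)

theorem exists_ze (S : Setup G) {b k c : ℕ} (hb : CH b c) (f : ℕ) (h : zeOK b k f = true) :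
    ∃ x, ZR S.toSetup1 x (ofC b) (2 * k) c := by
  simp only [zeOK, force_eq, Bool.and_eq_true, ble_iff, beq_iff (a := cmul _ _),
    beq_iff (a := papp _ _), beq_iff (a := ap _ _), beq_iff (a := ty _), beq_iff (a := _ % 2)] at h
  obtain ⟨⟨⟨⟨⟨⟨⟨h1, h2⟩, h3⟩, h4⟩, h5⟩, h6⟩, h7⟩, h8⟩ := h
  obtain ⟨⟨a, ha, rfl⟩, hc⟩ := hb
  rw [ofC_cd] at hc ⊢
  obtain ⟨x, hx, rfl⟩ := exists_pi (S := S.toSetup1) ha
  rw [← cd_pow, ← pi_pow hx] at h1 h2 h3 h4
  rw [← cd_lin, ← cd_mul, ← cd_one, cd_inj] at h1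
  rw [cV_cd] at h3 h4 h7
  have k1 := sq_eq_z (pow_mem hx k) (X49.inner_cd.2 h2) h1 (Vb.ext (by rw [val_m, h3]))
    (q_eq_one.2 h4)
  rw [← pow_add, ← two_mul] at k1
  refine ⟨x, hx, rfl, k1, orderOf_Z hx k1 h8, le_trans ?_ hc⟩
  refine card_cent_le' hx (cent_le_H k1) (f := ⟨f, Nat.lt_succ_of_le h5⟩)
    (Vb.ext (by rw [val_m]; exact h6)) ?_
  by_cases hi : Inner (S.pi x)
  · refine Or.inl ⟨hi, ?_⟩
    rw [beq_iff.2 (X49.inner_cd.1 hi)] at h7
    rw [B, q, q, q, ← Nat.cast_add, ← Nat.cast_add, ← Nat.cast_one, zmod2_eq]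
    exact h7
  · refine Or.inr ⟨hi, ?_⟩
    rw [show Nat.beq (papp (cP (cd (S.pi x))) 23) 23 = false by
      rw [← Bool.not_eq_true, beq_iff]; exact fun e => hi (X49.inner_cd.2 e)] at h7
    rw [B, q, q, q, ← Nat.cast_add, ← Nat.cast_add, ← Nat.cast_add, ← Nat.cast_one, zmod2_eq]
    exact h7

theorem t_mul_t : S.t * S.t = 1 := by
  rw [Setup.t, ← th_mul tN_mem tN_mem, tN, tr_mul_self, th_one]

theorem isDuad_ts : IsDuad ts := ⟨none, some 0, by simp, ts_eq⟩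

theorem not_conj_zt : ¬ IsConj S.z S.t := H80.J4.not_isConj_duad isDuad_ts

theorem t_ne_one : S.t ≠ 1 := fun h =>
  H80.J4.IsDuad.ne_zero isDuad_ts (tr_eq_one.1 ((th_eq_one tN_mem).1 h))

theorem not_conj_ZT {k : ℕ} (x y : G) (hx : x ^ k = S.z) (hy : y ^ k = S.t) : ¬ IsConj x y :=
  fun h => not_conj_zt (hx ▸ hy ▸ isConj_pow h k)

theorem exists_t [Finite G] (S : Setup G) {n k c : ℕ} (hn : CN n c ∧ ofC n ^ k = tN)
    (h : ordOK n k = true) : ∃ x : G, x ^ k = S.t ∧ x⁻¹ ^ k = S.t ∧ orderOf x = 2 * k ∧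
      Nat.card (centralizer ({x} : Set G)) ≤ c := by
  obtain ⟨⟨⟨a, ha, rfl⟩, hc⟩, h1⟩ := hn
  rw [ofC_cd] at hc h1
  have k1 : S.th a ^ k = S.t := by rw [← th_pow ha, h1, Setup.t]
  refine ⟨S.th a, k1, by rw [inv_pow, k1, inv_eq_of_mul_eq_one_right t_mul_t],
    orderOf_of_pow (of_ordOK h).1 k1 t_ne_one t_mul_t fun p h2 h3 h4 e =>
      (of_ordOK h).2 p h2 h3 h4 ((th_eq_one (S := S) (pow_mem ha _)).1 (by rw [th_pow ha, e])), ?_⟩
  refine le_trans ?_ hc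
  rw [← card_im (S := S) inf_le_left]
  refine card_le_of_le fun g hg => ?_
  have e := mem_centralizer_singleton_iff.1 hg
  have hN : g ∈ S.N := cent_t_le (mem_centralizer_singleton_iff.2 (by
    rw [← k1]; exact (show Commute g (S.th a) from e).pow_right k))
  obtain ⟨d, hd, rfl⟩ := mem_N.1 hN
  rw [← th_mul hd ha, ← th_mul ha hd, th_inj (mul_mem hd ha) (mul_mem ha hd)] at e
  exact (th_mem_im hd).2 ⟨hd, mem_centralizer_singleton_iff.2 e⟩

/-! ### elements of odd order with a power `p` -/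

theorem ZR.eq_sq {x : G} {b : AG} {n c : ℕ} (h : ZR S.toSetup1 x b n c) (hn : n % 2 = 1) :
    x = (x ^ 2) ^ ((n + 1) / 2) * S.z := by
  rw [← pow_mul, show 2 * ((n + 1) / 2) = n + 1 by omega, pow_succ', h.pow, mul_assoc,
    S.z_mul_z, mul_one]

noncomputable def pOK (b k : ℕ) : Bool :=
  Nat.beq (k % 2) 1 &&
    (Nat.beq (cpow b (2 * k)) cw3 || Nat.beq (cpow b (2 * k)) (cmul cw3 cw3))

theorem ZR.sq [Finite G] {x : G} {b k c : ℕ} (hb : InS Hb b)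
    (h : ZR S.toSetup1 x (ofC b) (3 * k) c) (hk : pOK b k = true) :
    orderOf (x ^ 2) = 3 * k ∧ Nat.card (centralizer ({x ^ 2} : Set G)) ≤ c ∧
      zpowers ((x ^ 2) ^ k) = zpowers S.p := by
  simp only [pOK, Bool.and_eq_true, Bool.or_eq_true, beq_iff] at hk
  have k0 : orderOf (x ^ 2) = 3 * k := by
    rw [orderOf_pow' _ (by decide), h.ord, Nat.gcd_mul_right_left, Nat.mul_div_cancel_left _ (by decide)]
  have k1 : orderOf ((x ^ 2) ^ k) = 3 := by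
    rw [orderOf_pow' _ (by omega), k0, Nat.gcd_mul_left_left, Nat.mul_div_cancel _ (by omega)]
  have hm : (x ^ 2) ^ k ∈ S.H := pow_mem (pow_mem h.mem 2) k
  have k2 : (x ^ 2) ^ k ∈ zpowers S.p := by
    refine H80.J4.mem_zpowers_p hm (by rw [← k1, pow_orderOf_eq_one]) ?_
    rw [← pow_mul, pi_pow h.mem, h.pi, H80.J4.mem_zpowers_om, ← cd_inj (b := om),
      ← cd_inj (b := om * om), cd_mul, cd_pow, hb.cd_ofC, cd_om]
    exact Or.inr hk.2
  have k3 : zpowers ((x ^ 2) ^ k) = zpowers S.p :=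
    eq_of_le_of_card_ge (zpowers_le.2 k2) (by rw [Nat.card_zpowers, Nat.card_zpowers, k1, S.ord_p])
  refine ⟨k0, le_trans (card_le_of_le fun g hg => ?_) h.card, k3⟩
  have e : Commute g (x ^ 2) := mem_centralizer_singleton_iff.1 hg
  have k4 : g ∈ S.H := H80.J4.cent_p_le (by
    rw [← cent_zpowers, ← k3, cent_zpowers]; exact mem_centralizer_singleton_iff.2 (e.pow_right k))
  rw [mem_centralizer_singleton_iff, h.eq_sq (by omega)]
  exact (e.pow_right _).mul_right (S.mem_H.1 k4)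

theorem ZR.not_conj_sq [Finite G] {x y : G} {b b' k c c' : ℕ} (hb : InS Hb b) (hb' : InS Hb b')
    (h : ZR S.toSetup1 x (ofC b) (3 * k) c) (h' : ZR S.toSetup1 y (ofC b') (3 * k) c')
    (hk : pOK b k = true) (hk' : pOK b' k = true)
    (hn : ∀ a ∈ Hb, a * ofC b * a⁻¹ ≠ ofC b') : ¬ IsConj (x ^ 2) (y ^ 2) := fun e => by
  obtain ⟨g, e⟩ := isConj_iff.1 e
  have k1 := (h.sq hb hk).2.2
  have k2 := (h'.sq hb' hk').2.2
  have ho : (3 * k) % 2 = 1 := by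
    simp only [pOK, Bool.and_eq_true, beq_iff] at hk; omega
  have hg : g ∈ S.H := H80.J4.norm_p_le (by
    rw [← k1]; refine mem_norm_of_conj ?_
    rw [← conj_pow, e, k1, ← k2]; exact mem_zpowers _)
  refine h.not_conj_H h' hn hg ?_
  rw [h.eq_sq ho, h'.eq_sq ho, ← e, conj_pow]
  conv_rhs => rw [← S.conj_z hg]
  group

/-! ### elements of order 35 -/

theorem not35_H {x : G} (hx : x ∈ S.H) : orderOf x ≠ 35 := fun h => by
  refine not35_M24 (p_mem_M22x _ (pi_mem (S := S.toSetup1) x)).1 ?_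
  set d := orderOf (S.pi x).p
  have h1 : S.pi ((x ^ d) ^ 6) = 1 := by
    rw [pi_pow (pow_mem hx d)]
    refine pow_six_Hb (pi_mem _) ?_
    rw [pi_pow hx, ← pr_apply, map_pow, pr_apply, pow_orderOf_eq_one]
  have h2 : x ^ (d * 6 * 2) = 1 := by
    rw [pow_mul, pow_mul, sq]
    rcases (pi_eq_one (pow_mem (pow_mem hx d) 6)).1 h1 with e | e <;> rw [e]
    exacts [one_mul 1, S.z_mul_z]
  have h3 := orderOf_dvd_of_pow_eq_one h2
  rw [h, mul_assoc] at h3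
  exact (show Nat.Coprime 35 (6 * 2) by decide).dvd_of_dvd_mul_right h3

theorem not35_N {x : G} (hx : x ∈ S.N) : orderOf x ≠ 35 := fun h => by
  obtain ⟨a, ha, rfl⟩ := mem_N.1 hx
  refine not35_M24 ha.1.1 ?_
  have h2 : a ^ (orderOf a.p * 6) = 1 := by
    rw [pow_mul]
    refine pow_six_Nf (pow_mem ha.1 _) ?_
    rw [← pr_apply, map_pow, pr_apply, pow_orderOf_eq_one]
  have h3 := orderOf_dvd_of_pow_eq_one h2
  rw [← orderOf_th (S := S) ha, h] at h3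
  exact (show Nat.Coprime 35 6 by decide).dvd_of_dvd_mul_right h3

theorem not35_of_conj {x a y : G} {K : Subgroup G} (hK : ∀ g ∈ K, orderOf g ≠ 35)
    (ha : centralizer {a} ≤ K) (h : IsConj a y) (hy : y * x = x * y) : orderOf x ≠ 35 := by
  obtain ⟨g, rfl⟩ := isConj_iff.1 h
  have := hK (g⁻¹ * x * g⁻¹⁻¹) (ha (mem_centralizer_singleton_iff.2 (by
    calc g⁻¹ * x * g⁻¹⁻¹ * a = g⁻¹ * (x * (g * a * g⁻¹)) * g := by group
      _ = a * (g⁻¹ * x * g⁻¹⁻¹) := by rw [← hy]; group)))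
  rwa [← orderOf_isConj (isConj_iff.2 ⟨g⁻¹, rfl⟩)] at this

end Cfsg.Agent.SGJ4.Cls
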