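/-
Project SGJ4, classes.  Certificates for the representatives (generated).
-/
import Cfsg.Agent.SGJ4.ClsC

set_option autoImplicit false

namespace Cfsg.Agent.SGJ4.Cls

open Subgroup AG Cfsg.Agent.H14

theorem cp_1A : CP (nat_lit 0xbdab49ca307b9ac5a928398a418820) 887040 :=
  cp_of [(nat_lit 0x800001), (nat_lit 0x7ffffe), (nat_lit 0x7ffffc), (nat_lit 0x7ffff8), (nat_lit 0x24020), (nat_lit 0x7dbfd0)] (by decide +kernel)
theorem cp_2A : CP (nat_lit 0xbc2954c9d6345ac41e6b53ca418440) 768 :=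
  cp_of [(nat_lit 0x800001), (nat_lit 0x7bcfc6), (nat_lit 0x4), (nat_lit 0x43038), (nat_lit 0x20), (nat_lit 0x43010)] (by decide +kernel)
theorem cp_3A : CP (nat_lit 0xbd24f3aa33b39664558d8244428c20) 72 :=
  cp_of [(nat_lit 0x800001), (nat_lit 0x24012), (nat_lit 0x24166c), (nat_lit 0x8), (nat_lit 0x20), (nat_lit 0x10)] (by decide +kernel)
theorem cp_4A : CP (nat_lit 0xbc6c9a9a6e3d04a6ca087b08558c20) 64 :=
  cp_of [(nat_lit 0x800001), (nat_lit 0x102), (nat_lit 0x7f7e4c), (nat_lit 0x8), (nat_lit 0x20), (nat_lit 0x10)] (by decide +kernel)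
theorem cp_5A : CP (nat_lit 0xba1aa5c2359853435a4c79dc428c40) 10 :=
  cp_of [(nat_lit 0x800001), (nat_lit 0x402e), (nat_lit 0x4), (nat_lit 0x8), (nat_lit 0x20), (nat_lit 0x10)] (by decide +kernel)
theorem cp_6A : CP (nat_lit 0xbba13a3d31554276cacb3308540c40) 24 :=
  cp_of [(nat_lit 0x800001), (nat_lit 0x636b0e), (nat_lit 0x4), (nat_lit 0x8), (nat_lit 0x20), (nat_lit 0x10)] (by decide +kernel)
theorem cp_7A : CP (nat_lit 0xbc4d261d2eb54af5cd4d8508140c40) 14 :=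
  cp_of [(nat_lit 0x800001), (nat_lit 0x213e), (nat_lit 0x4), (nat_lit 0x8), (nat_lit 0x20), (nat_lit 0x10)] (by decide +kernel)
theorem cp_11A : CP (nat_lit 0xb95e63a911825d29d1966ac81a8c40) 11 :=
  cp_of [(nat_lit 0x800000), (nat_lit 0x63813e), (nat_lit 0x4), (nat_lit 0x8), (nat_lit 0x20), (nat_lit 0x10)] (by decide +kernel)
theorem cp_2B : CP (nat_lit 0x58ea349d04c5ac5d1e8acc6428457) 2688 :=
  cp_of [(nat_lit 0x800001), (nat_lit 0x3ac6ee), (nat_lit 0x4), (nat_lit 0x3ac6e8), (nat_lit 0x20), (nat_lit 0x453910)] (by decide +kernel)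
theorem cp_2C : CP (nat_lit 0xe49655ae542333be865a085b0457) 640 :=
  cp_of [(nat_lit 0x800001), (nat_lit 0x6ffdfe), (nat_lit 0x4), (nat_lit 0x6f79f8), (nat_lit 0x20), (nat_lit 0x10)] (by decide +kernel)
theorem cp_4C : CP (nat_lit 0x3cd3a3aa7b25712c9418308d40c57) 96 :=
  cp_of [(nat_lit 0x800001), (nat_lit 0x267f7e), (nat_lit 0x4), (nat_lit 0x8), (nat_lit 0x24020), (nat_lit 0x10)] (by decide +kernel)
theorem cp_6B : CP (nat_lit 0x1a6953630a95877a08bb49d408c57) 12 :=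
  cp_of [(nat_lit 0x800001), (nat_lit 0x10021e), (nat_lit 0x4), (nat_lit 0x8), (nat_lit 0x20), (nat_lit 0x10)] (by decide +kernel)
theorem cp_8B : CP (nat_lit 0x510faaa266b99391d762243028c57) 16 :=
  cp_of [(nat_lit 0x800001), (nat_lit 0x2e), (nat_lit 0x4), (nat_lit 0x8), (nat_lit 0x20), (nat_lit 0x810)] (by decide +kernel)
theorem cp_10A : CP (nat_lit 0x5f63c111555d464a665b48548c57) 10 :=
  cp_of [(nat_lit 0x800001), (nat_lit 0x18080a), (nat_lit 0x4), (nat_lit 0x8), (nat_lit 0x20), (nat_lit 0x10)] (by decide +kernel)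
theorem cp_12A : CP (nat_lit 0x4e0e33d0a8d6cb69427a309248c57) 12 :=
  cp_of [(nat_lit 0x800001), (nat_lit 0xa), (nat_lit 0x4), (nat_lit 0x8), (nat_lit 0x24020), (nat_lit 0x10)] (by decide +kernel)
theorem cp_14A : CP (nat_lit 0x394c93eb1824a75d0cdb4c8140c57) 14 :=
  cp_of [(nat_lit 0x800001), (nat_lit 0x213e), (nat_lit 0x4), (nat_lit 0x8), (nat_lit 0x20), (nat_lit 0x10)] (by decide +kernel)
theorem cx_2A : CX (nat_lit 0x9a17b790be43c74256cd48ac1a98b8b09f42bc2954c9d6345ac41e6b53ca418440) 2304 :=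
  cx_of cp_2A [0, 2, 0, 1, 3, 0, 2, 0, 2, 2, 2, 0, 0, 3]
    [([], 0)] (by decide +kernel)
def b4B : ℕ := nat_lit 0x149a17b790be43c74256cd48ac1a98b8b09f42bc2954c9d6345ac41e6b53ca418440
theorem ch_4B : CH b4B 98304 :=
  ch_of cx_2A (nat_lit 0xbc0480160a1080040020010008004002001)
    [[], [4], [4, 4], [0, 0, 0, 2, 0, 2, 0, 1, 2, 2, 2, 0, 0, 0], [0, 2, 1, 0, 0, 0, 2, 2, 0, 3, 2, 0, 3], [2, 2, 0, 0, 2, 1, 0, 2, 0, 0, 2, 0, 2, 1]] (by decide +kernel)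
theorem ze_4B : zeOK b4B 1 39 = true := by decide +kernel
theorem cx_3A : CX (nat_lit 0xc86938b57a32fd925a9fac78c8d0e9e14819bd24f3aa33b39664558d8244428c20) 72 :=
  cx_of cp_3A [0, 0, 2, 0, 0, 2, 0, 2, 1, 2, 0, 2, 0, 2, 1]
    [([], 0), ([1, 0, 1, 1, 0, 2, 0, 4, 1, 2, 0, 0, 0], 1), ([0, 0, 2, 0, 2, 1, 4, 0, 1, 2, 0, 1, 1, 0], 2)] (by decide +kernel)
def b6B : ℕ := nat_lit 0xc86938b57a32fd925a9fac78c8d0e9e14819bd24f3aa33b39664558d8244428c20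
theorem ch_6B : CH b6B 1152 :=
  ch_of cx_3A (nat_lit 0x0)
    [[]] (by decide +kernel)
theorem zo_6B : zoOK b6B 3 = true := by decide +kernel
def b12A : ℕ := nat_lit 0x1c86938b57a32fd925a9fac78c8d0e9e14819bd24f3aa33b39664558d8244428c20
theorem ch_12A : CH b12A 192 :=
  ch_of cx_3A (nat_lit 0x300700100f005008008007004000002001)
    [[], [4], [4, 4], [1, 2, 2, 0, 2, 0, 0, 1, 2, 0, 1, 2, 1], [1, 2, 2, 0, 2, 0, 4, 0, 1, 2, 0, 1, 2, 1], [1, 2, 2, 0, 2, 0, 0, 1, 4, 4, 2, 0, 1, 2, 1]] (by decide +kernel)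
theorem ze_12A : zeOK b12A 3 28 = true := by decide +kernel
theorem cx_4A : CX (nat_lit 0x3451ce9bd2b9e0bc52c6208244e83abbc73fbc6c9a9a6e3d04a6ca087b08558c20) 192 :=
  cx_of cp_4A [0, 0, 2, 0, 0, 0, 2, 2, 3, 2, 0, 2, 1, 0, 3]
    [([], 0)] (by decide +kernel)
def b8C : ℕ := nat_lit 0x13451ce9bd2b9e0bc52c6208244e83abbc73fbc6c9a9a6e3d04a6ca087b08558c20
theorem ch_8C : CH b8C 512 :=
  ch_of cx_4A (nat_lit 0x200b00400d00900800d008004002001001)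
    [[], [4], [4, 4], [1, 0, 2, 2, 3, 0, 2, 1, 1, 0, 2, 0, 3, 2], [1, 0, 2, 2, 3, 0, 2, 1, 1, 0, 2, 0, 3, 4, 2], [1, 0, 2, 1, 2, 0, 1, 2, 0, 2, 0, 1, 2, 2, 2]] (by decide +kernel)
theorem ze_8C : zeOK b8C 2 83 = true := by decide +kernel
theorem cx_5A : CX (nat_lit 0x589efa932efd5a003fa7edbe416d29e1aeefba1aa5c2359853435a4c79dc428c40) 30 :=
  cx_of cp_5A [2, 1, 0, 1, 2, 0, 2, 2, 2, 0, 0, 2, 1]
    [([], 0)] (by decide +kernel)
def b10A : ℕ := nat_lit 0x589efa932efd5a003fa7edbe416d29e1aeefba1aa5c2359853435a4c79dc428c40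
theorem ch_10A : CH b10A 480 :=
  ch_of cx_5A (nat_lit 0x0)
    [[]] (by decide +kernel)
theorem zo_10A : zoOK b10A 5 = true := by decide +kernel
def b20A : ℕ := nat_lit 0x3589efa932efd5a003fa7edbe416d29e1aeefba1aa5c2359853435a4c79dc428c40
theorem ch_20A : CH b20A 160 :=
  ch_of cx_5A (nat_lit 0x700c00100b00300a007008002004002001)
    [[], [4], [4, 4]] (by decide +kernel)
theorem ze_20A : zeOK b20A 5 725 = true := by decide +kernel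
def b20B : ℕ := nat_lit 0x7589efa932efd5a003fa7edbe416d29e1aeefba1aa5c2359853435a4c79dc428c40
theorem ch_20B : CH b20B 160 :=
  ch_of cx_5A (nat_lit 0x700c00100b00300a007008002004002001)
    [[], [4], [4, 4]] (by decide +kernel)
theorem ze_20B : zeOK b20B 5 1118 = true := by decide +kernel
theorem nc_20A : ∀ a ∈ Hb, a * ofC b20A * a⁻¹ ≠ ofC b20B :=
  not_conj_nc ch_20A.1 ch_20B.1 cp_5A (nat_lit 0x700c00100b00300a007008002004002001)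
    [0, 0, 2, 2, 0, 0, 0, 2, 0, 2, 1, 0, 3, 1, 1] (by decide +kernel)
theorem cx_15A : CX (nat_lit 0xb73589edf4d182c399fbc5388c651868c4feba1aa5c2359853435a4c79dc428c40) 15 :=
  cx_of cp_5A [2, 1, 0, 1, 2, 0, 4, 2, 2, 2, 0, 0, 2, 1]
    [([], 0), ([1, 1, 1, 0, 2, 0, 0, 2, 4, 2, 2, 0, 3, 1, 1], 1)] (by decide +kernel)
def b30A : ℕ := nat_lit 0xb73589edf4d182c399fbc5388c651868c4feba1aa5c2359853435a4c79dc428c40
theorem ch_30A : CH b30A 15 :=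
  ch_of cx_15A (nat_lit 0x0)
    [[]] (by decide +kernel)
theorem zo_30A : zoOK b30A 15 = true := by decide +kernel
theorem cx_6A : CX (nat_lit 0x2e42799bdfec2fffe5b9d77d7f9779ff49ddbba13a3d31554276cacb3308540c40) 72 :=
  cx_of cp_6A [1, 3, 0, 2, 2, 0, 2, 1, 0, 3, 2, 2, 0, 0, 2, 0]
    [([], 0)] (by decide +kernel)
def b12B : ℕ := nat_lit 0x12e42799bdfec2fffe5b9d77d7f9779ff49ddbba13a3d31554276cacb3308540c40
theorem ch_12B : CH b12B 192 :=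
  ch_of cx_6A (nat_lit 0x700600a004002003008000006004002001)
    [[], [4], [4, 4], [1, 0, 0, 2, 1, 0, 0, 2, 2, 0, 2, 0, 0, 2, 0, 0], [0, 0, 2, 3, 0, 1, 2, 0, 2, 0, 3, 1, 2, 0, 2], [2, 1, 0, 0, 2, 0, 1, 2, 2, 0, 2, 0, 2, 0, 1]] (by decide +kernel)
theorem ze_12B : zeOK b12B 3 1089 = true := by decide +kernel
theorem cx_7A : CX (nat_lit 0x4a9d2afb5c5185cfe57731758aae226afc2dbc4d261d2eb54af5cd4d8508140c40) 42 :=
  cx_of cp_7A [0, 0, 1, 2, 0, 0, 2, 0, 0, 1, 2, 0, 0, 2]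
    [([], 0)] (by decide +kernel)
def b14A : ℕ := nat_lit 0x4a9d2afb5c5185cfe57731758aae226afc2dbc4d261d2eb54af5cd4d8508140c40
theorem ch_14A : CH b14A 42 :=
  ch_of cx_7A (nat_lit 0x0)
    [[]] (by decide +kernel)
theorem zo_14A : zoOK b14A 7 = true := by decide +kernel
theorem cx_21A : CX (nat_lit 0x9834a962a4f0ff14e0afa2e9c3244d9907b6bc4d261d2eb54af5cd4d8508140c40) 21 :=
  cx_of cp_7A [0, 0, 1, 2, 0, 0, 2, 0, 4, 0, 1, 2, 0, 0, 2]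
    [([], 0), ([2, 0, 2, 0, 0, 2, 2, 0, 0, 0, 2, 0, 3, 4], 1)] (by decide +kernel)
def b42A : ℕ := nat_lit 0x9834a962a4f0ff14e0afa2e9c3244d9907b6bc4d261d2eb54af5cd4d8508140c40
theorem ch_42A : CH b42A 21 :=
  ch_of cx_21A (nat_lit 0x0)
    [[]] (by decide +kernel)
theorem zo_42A : zoOK b42A 21 = true := by decide +kernel
theorem cx_11A : CX (nat_lit 0xffcb50fcdfba13b71f49a0f2ed06fce0b685b95e63a911825d29d1966ac81a8c40) 33 :=
  cx_of cp_11A [0, 0, 1, 2, 0, 0, 0, 2, 0, 2, 0, 0, 1, 2, 1]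
    [([], 0)] (by decide +kernel)
def b22A : ℕ := nat_lit 0xffcb50fcdfba13b71f49a0f2ed06fce0b685b95e63a911825d29d1966ac81a8c40
theorem ch_22A : CH b22A 132 :=
  ch_of cx_11A (nat_lit 0x0)
    [[]] (by decide +kernel)
theorem zo_22A : zoOK b22A 11 = true := by decide +kernel
def b44A : ℕ := nat_lit 0x1ffcb50fcdfba13b71f49a0f2ed06fce0b685b95e63a911825d29d1966ac81a8c40
theorem ch_44A : CH b44A 44 :=
  ch_of cx_11A (nat_lit 0x1003001002000001001000002002000001)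
    [[], [4], [4, 4]] (by decide +kernel)
theorem ze_44A : zeOK b44A 11 1170 = true := by decide +kernel
theorem cx_33A : CX (nat_lit 0x4acffc5856a0137a18b2132a767aeb712b7eb95e63a911825d29d1966ac81a8c40) 33 :=
  cx_of cp_11A [1, 2, 1, 3, 0, 2, 0, 2, 2, 0, 2, 0, 3, 1, 2]
    [([], 0)] (by decide +kernel)
def b66A : ℕ := nat_lit 0x4acffc5856a0137a18b2132a767aeb712b7eb95e63a911825d29d1966ac81a8c40
theorem ch_66A : CH b66A 33 :=
  ch_of cx_33A (nat_lit 0x0)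
    [[]] (by decide +kernel)
theorem zo_66A : zoOK b66A 33 = true := by decide +kernel
theorem cx_33B : CX (nat_lit 0xb504aca4891a00cd07fbb3d89b7c17919dfbb95e63a911825d29d1966ac81a8c40) 33 :=
  cx_of cp_11A [2, 1, 2, 2, 0, 2, 0, 0, 2, 2, 0, 1, 2, 0, 0, 1]
    [([], 0)] (by decide +kernel)
def b66B : ℕ := nat_lit 0xb504aca4891a00cd07fbb3d89b7c17919dfbb95e63a911825d29d1966ac81a8c40
theorem ch_66B : CH b66B 33 :=
  ch_of cx_33B (nat_lit 0x0)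
    [[]] (by decide +kernel)
theorem zo_66B : zoOK b66B 33 = true := by decide +kernel
theorem nc_66A : ∀ a ∈ Hb, a * ofC b66A * a⁻¹ ≠ ofC b66B :=
  not_conj_nc ch_66A.1 ch_66B.1 cp_11A (nat_lit 0x0)
    [0, 0, 1, 2, 0, 0, 0, 2, 0, 2, 0, 0, 1, 2, 1] (by decide +kernel)
theorem cx_2C : CX (nat_lit 0xa24f2f0e3683ebbf5d391dee5db15656251500e49655ae542333be865a085b0457) 640 :=
  cx_of cp_2C [2, 2, 2, 1, 0, 4, 3, 2, 0, 1, 2, 0, 1, 1]
    [([], 0), ([4], 1), ([4, 4], 2)] (by decide +kernel)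
def b8A : ℕ := nat_lit 0x1a24f2f0e3683ebbf5d391dee5db15656251500e49655ae542333be865a085b0457
theorem ch_8A : CH b8A 1280 :=
  ch_of cx_2C (nat_lit 0x2d032024026033034020010008004002001)
    [[], [2, 0, 0, 2, 0, 1, 2, 0, 2, 0, 1, 0, 0], [0, 0, 0, 2, 2, 0, 1, 2, 3, 4, 0, 1, 2, 0, 3], [1, 2, 2, 0, 1, 2, 0, 1, 2, 2, 0, 0, 2, 1, 0, 0], [3, 0, 2, 3, 0, 2, 2, 2, 0, 2, 0, 0, 1, 0], [0, 2, 1, 0, 2, 3, 1, 2, 0, 2, 0, 3], [0, 1, 1, 0, 0, 2, 0, 2, 0, 0, 2, 0, 2, 2, 0], [0, 0, 2, 0, 0, 2, 0, 1, 4, 4, 0, 0, 2, 2, 0], [1, 2, 0, 1, 2, 3, 0, 2, 2, 2, 0, 3, 1, 2], [0, 1, 0, 2, 2, 0, 2, 0, 0, 2, 0, 0, 2, 0, 1], [0, 1, 2, 0, 2, 2, 0, 3, 2, 0, 0, 2, 2, 1, 0, 3], [0, 0, 2, 1, 1, 0, 2, 0, 0, 1, 2, 0, 2, 1, 2, 0], [2, 1, 1, 0, 2, 2, 3, 0, 2, 1, 0, 3, 1, 2, 2, 0], [1, 0, 0, 2, 1, 2, 2, 0, 0, 1, 2, 0, 1, 2, 0], [0, 0, 0, 2, 2, 1, 0, 2, 2], [0, 0, 2, 0, 2, 1, 0, 2, 0, 0, 2, 0, 1, 0, 2],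 [1, 0, 2, 0, 0, 2, 2, 0, 2, 1, 0, 2, 2], [0, 0, 2, 0, 1, 1, 0, 2, 0, 3, 2, 0, 3, 2, 2, 1, 2], [2, 1, 2, 2, 0, 4, 4, 1, 2, 2, 2, 0, 2, 0], [3, 0, 2, 1, 0, 2, 0, 0, 2, 2, 0, 3, 2, 1, 0, 0], [2, 2, 0, 2, 0, 1, 1, 0, 2, 0, 0], [2, 0, 1, 0, 2, 4, 4, 1, 0, 1, 2, 2, 0, 1], [0, 1, 0, 2, 0, 2, 1, 0, 3, 4, 2, 1, 2, 0, 3], [2, 3, 0, 2, 1, 1, 0, 2, 0, 3, 2, 0, 0], [0, 2, 2, 2, 0, 0, 2, 3, 0, 0, 3, 4, 2, 0, 0], [0, 0, 2, 0, 0, 2, 3, 0, 4, 3, 1, 2, 2, 0, 1], [2, 2, 2, 0, 0, 1, 2, 0, 2, 0, 0, 1], [0, 2, 2, 0, 2, 0, 1, 2, 4, 0, 2, 2, 1, 0, 1], [0, 0, 1, 0, 2, 2, 2, 1, 4, 0, 1, 2, 0, 0, 0], [2, 2, 2, 0, 0, 1, 2, 0, 2, 2, 2, 0, 2, 2], [0, 2, 4, 3, 0, 2, 1, 0, 2, 2, 0, 3, 1, 0], [2, 0, 0, 2, 2, 1, 3, 0, 1, 2, 0, 2, 0, 0, 3]] (by decide +kernel)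
theorem ze_8A : zeOK b8A 2 179 = true := by decide +kernel
theorem cx_4C : CX (nat_lit 0x2f205b104e15e07ff32e5a445db741a4cbe903cd3a3aa7b25712c9418308d40c57) 96 :=
  cx_of cp_4C [0, 1, 0, 2, 1, 0, 2, 2, 2, 0, 2, 0, 0, 3, 4]
    [([], 0), ([4], 1), ([4, 4], 2)] (by decide +kernel)
def b8B : ℕ := nat_lit 0xc2f205b104e15e07ff32e5a445db741a4cbe903cd3a3aa7b25712c9418308d40c57
theorem ch_8B : CH b8B 768 :=
  ch_of cx_4C (nat_lit 0x300800400000800900e00a008004002001)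
    [[], [1, 2, 3, 0, 2, 3, 0, 1, 2, 2, 2, 0, 2, 1, 1, 0]] (by decide +kernel)
theorem ze_8B : zeOK b8B 2 475 = true := by decide +kernel
theorem cx_8B : CX (nat_lit 0x5d1cbefe3c6866d168fd60e93126c6e75430510faaa266b99391d762243028c57) 16 :=
  cx_of cp_8B [1, 2, 0, 0, 2, 0, 2, 2, 4, 0, 2, 1, 1, 0, 3]
    [([], 0), ([4], 1), ([4, 4], 2)] (by decide +kernel)
def b16A : ℕ := nat_lit 0x105d1cbefe3c6866d168fd60e93126c6e75430510faaa266b99391d762243028c57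
theorem ch_16A : CH b16A 32 :=
  ch_of cx_8B (nat_lit 0x1001003003000000002000001001002001)
    [[], [0, 1, 0, 2, 2, 2, 0, 2, 2, 2, 1, 0, 1]] (by decide +kernel)
theorem ze_16A : zeOK b16A 4 3314 = true := by decide +kernel
theorem cx_10A : CX (nat_lit 0xbabf3e15354a86ca4cc499cfabe48c815bbc005f63c111555d464a665b48548c57) 10 :=
  cx_of cp_10A [0, 0, 2, 0, 0, 0, 2, 3, 0, 2, 2, 0, 2]
    [([], 0), ([4], 1), ([4, 4], 2)] (by decide +kernel)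
def b40A : ℕ := nat_lit 0x4babf3e15354a86ca4cc499cfabe48c815bbc005f63c111555d464a665b48548c57
theorem ch_40A : CH b40A 40 :=
  ch_of cx_10A (nat_lit 0x0)
    [[]] (by decide +kernel)
theorem ze_40A : zeOK b40A 10 1487 = true := by decide +kernel
def b40B : ℕ := nat_lit 0x14babf3e15354a86ca4cc499cfabe48c815bbc005f63c111555d464a665b48548c57
theorem ch_40B : CH b40B 40 :=
  ch_of cx_10A (nat_lit 0x0)
    [[]] (by decide +kernel)
theorem ze_40B : zeOK b40B 10 2332 = true := by decide +kernel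
theorem nc_40A : ∀ a ∈ Hb, a * ofC b40A * a⁻¹ ≠ ofC b40B :=
  not_conj_nc ch_40A.1 ch_40B.1 cp_10A (nat_lit 0x3001003001000000003002001001000000)
    [0, 0, 2, 0, 0, 0, 2, 3, 0, 2, 2, 0, 2] (by decide +kernel)
theorem cx_12A : CX (nat_lit 0xe036c0f0932c683a7e8b2e26bdb89676f91804e0e33d0a8d6cb69427a309248c57) 12 :=
  cx_of cp_12A [1, 0, 2, 0, 0, 0, 2, 0, 0, 0, 3, 4, 2, 0, 2]
    [([], 0), ([4], 1), ([4, 4], 2)] (by decide +kernel)
def b24A : ℕ := nat_lit 0x1e036c0f0932c683a7e8b2e26bdb89676f91804e0e33d0a8d6cb69427a309248c57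
theorem ch_24A : CH b24A 48 :=
  ch_of cx_12A (nat_lit 0x0)
    [[]] (by decide +kernel)
theorem ze_24A : zeOK b24A 6 36 = true := by decide +kernel
def b24B : ℕ := nat_lit 0x4e036c0f0932c683a7e8b2e26bdb89676f91804e0e33d0a8d6cb69427a309248c57
theorem ch_24B : CH b24B 48 :=
  ch_of cx_12A (nat_lit 0x0)
    [[]] (by decide +kernel)
theorem ze_24B : zeOK b24B 6 2176 = true := by decide +kernel
theorem nc_24A : ∀ a ∈ Hb, a * ofC b24A * a⁻¹ ≠ ofC b24B :=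
  not_conj_nc ch_24A.1 ch_24B.1 cp_12A (nat_lit 0x1001001000001002001001002001001)
    [1, 0, 2, 0, 0, 0, 2, 0, 0, 0, 3, 4, 2, 0, 2] (by decide +kernel)
theorem p_30A : pOK b30A 5 = true := by decide +kernel
theorem p_42A : pOK b42A 7 = true := by decide +kernel
theorem p_66A : pOK b66A 11 = true := by decide +kernel
theorem p_66B : pOK b66B 11 = true := by decide +kernel
theorem nc_8A_8B : ∀ a ∈ Hb, a * ofC b8A * a⁻¹ ≠ ofC b8B :=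
  not_conj_cyc ch_8A.1 ch_8B.1 (by decide +kernel)
theorem nc_8A_8C : ∀ a ∈ Hb, a * ofC b8A * a⁻¹ ≠ ofC b8C :=
  not_conj_cyc ch_8A.1 ch_8C.1 (by decide +kernel)
theorem nc_8B_8C : ∀ a ∈ Hb, a * ofC b8B * a⁻¹ ≠ ofC b8C :=
  not_conj_cyc ch_8B.1 ch_8C.1 (by decide +kernel)
theorem nc_12A_12B : ∀ a ∈ Hb, a * ofC b12A * a⁻¹ ≠ ofC b12B :=
  not_conj_cyc ch_12A.1 ch_12B.1 (by decide +kernel)
def n2B : ℕ := nat_lit 0x475800400200100080040020010008004002001bdab49ca307b9ac5a928398a418820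
theorem cn_2B : CN n2B 1816657920 ∧ ofC n2B ^ 1 = tN :=
  cn_of cp_1A (nat_lit 0x0)
    [(nat_lit 0xbdab49ca307b9ac5a928398a418820)] (by decide +kernel)
theorem to_2B : ordOK n2B 1 = true := by decide +kernel
def n4C : ℕ := nat_lit 0x185c754001edb1decc0400040107b4020002001058ea349d04c5ac5d1e8acc6428457
theorem cn_4C : CN n4C 43008 ∧ ofC n4C ^ 2 = tN :=
  cn_of cp_2B (nat_lit 0xf40310e9080040020004010008004002001)
    [(nat_lit 0xbdab49ca307b9ac5a928398a418820), (nat_lit 0xb926faa22da3a0b6255231cb618820), (nat_lit 0xbae957b6289ba44b1cd0524ac18820), (nat_lit 0xbb1f3a4232ab916218ed4a8ab18820), (nat_lit 0xbc0ea332364b892451ebaccad18820), (nat_lit 0xbb4c93ae2453ac893e8c9d4b018820), (nat_lit 0xba1474922b3398d85676a3cb218820), (nat_lit 0xbc92655a2c3b9706cea47d0a818820)] (by decide +kernel)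
theorem to_4C : ordOK n4C 2 = true := by decide +kernel
def n6C : ℕ := nat_lit 0x188001000400081edb1d020080400004e3aeccbd24f3aa33b39664558d8244428c20
theorem cn_6C : CN n6C 2304 ∧ ofC n6C ^ 3 = tN :=
  cn_of cp_3A (nat_lit 0x0)
    [(nat_lit 0xbdab49ca307b9ac5a928398a418820)] (by decide +kernel)
theorem to_6C : ordOK n6C 3 = true := by decide +kernel
def n10B : ℕ := nat_lit 0xa8003da002b1de3a01002020008049f7b4100ba1aa5c2359853435a4c79dc428c40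
theorem cn_10B : CN n10B 80 ∧ ofC n10B ^ 5 = tN :=
  cn_of cp_5A (nat_lit 0x0)
    [(nat_lit 0xbdab49ca307b9ac5a928398a418820)] (by decide +kernel)
theorem to_10B : ordOK n10B 5 = true := by decide +kernel
def n12C : ℕ := nat_lit 0x18c75ecc0807b4b1d002020010200b660011ed01a6953630a95877a08bb49d408c57
theorem cn_12C : CN n12C 48 ∧ ofC n12C ^ 6 = tN :=
  cn_of cp_6B (nat_lit 0x700100400800400100b008004002001001)
    [(nat_lit 0xbdab49ca307b9ac5a928398a418820), (nat_lit 0xbb6a199e11796c65a848931c322680)] (by decide +kernel)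
theorem to_12C : ordOK n12C 6 = true := by decide +kernel
def n14C : ℕ := nat_lit 0x5800020ecc0400011ed7b4004400200b66008bc4d261d2eb54af5cd4d8508140c40
theorem cn_14C : CN n14C 56 ∧ ofC n14C ^ 7 = tN :=
  cn_of cp_7A (nat_lit 0x0)
    [(nat_lit 0xbdab49ca307b9ac5a928398a418820)] (by decide +kernel)
theorem to_14C : ordOK n14C 7 = true := by decide +kernel
def n22B : ℕ := nat_lit 0x9800b66008ecc1edb1d3da0200107b4004040b95e63a911825d29d1966ac81a8c40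
theorem cn_22B : CN n22B 22 ∧ ofC n22B ^ 11 = tN :=
  cn_of cp_11A (nat_lit 0x0)
    [(nat_lit 0xbdab49ca307b9ac5a928398a418820)] (by decide +kernel)
theorem to_22B : ordOK n22B 11 = true := by decide +kernel
def n28A : ℕ := nat_lit 0x3c75004b1d0010400082000200107b4b661ed0394c93eb1824a75d0cdb4c8140c57
theorem cn_28A : CN n28A 28 ∧ ofC n28A ^ 14 = tN :=
  cn_of cp_14A (nat_lit 0x0)
    [(nat_lit 0xbdab49ca307b9ac5a928398a418820)] (by decide +kernel)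
theorem to_28A : ordOK n28A 14 = true := by decide +kernel

end Cfsg.Agent.SGJ4.Cls
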