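/-
Project SGJ4.  The two classes of elements of order 11 with the orders of their centralisers.
-/
import Cfsg.Agent.SGJ4.ElX

set_option autoImplicit false

namespace Cfsg.Agent.SGJ4

open Subgroup AG
open scoped Pointwise

/-- the two classes of elements of order 11 with the orders of their centralisers -/
theorem Setup.exists_eleven {G : Type*} [Group G] [Finite G] (S : Setup G) :
    ∃ x y : G, orderOf x = 11 ∧ orderOf y = 11 ∧
      Nat.card (centralizer ({x} : Set G)) = 31944 ∧
      Nat.card (centralizer ({y} : Set G)) = 242 :=
  let ⟨x, hx⟩ := El.exists_isX S.toSetup1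
  ⟨x, El.yy S, hx.ord, El.orderOf_yy, hx.card_cent, El.card_cent_yy⟩

end Cfsg.Agent.SGJ4
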