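/-
Project SGJ4, classes.  The 62 classes.
-/
import Cfsg.Agent.SGJ4.ClsD
import Cfsg.Agent.SGJ4.Order
import Cfsg.Agent.SGJ4.FiveSeven
import Cfsg.Agent.SGJ4.ElevenC

set_option autoImplicit false

namespace Cfsg.Agent.SGJ4.Cls

open Subgroup AG Cfsg.Agent.H14 Setup1 Setup

theorem ch_4A : CH (ctr 1) 5406720 := by
  have e : ctr 1 = cd (tr (Vb.of 1)) := (cd_tr (Vb.of 1)).symm
  rw [e, CH, ofC_cd]
  refine ⟨inS_cd.2 (tr_mem_Hb _), ?_⟩
  have h1 := hb_bound (b := tr (Vb.of 1)) (AddMonoidHom.id Vb) fun w => Vb.add_self w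
  have h2 : 2016 ≤ {x | ∃ y ∈ X ⊓ centralizer {lin (tr (Vb.of 1))},
      AddMonoidHom.id Vb (y.m (tr (Vb.of 1)).v) = x}.ncard := by
    rw [← ncard_ty.2.2]
    refine Set.ncard_le_ncard (fun w hw => ?_) (Set.toFinite _)
    obtain ⟨a, ha, -, e⟩ := orbit_ty (v := Vb.of 1) (w := w)
      ((show ty (Vb.of 1).val = 3 by decide +kernel).trans hw.symm)
    exact ⟨a, ⟨ha, mem_centralizer_singleton_iff.2 (by rw [lin_tr, mul_one, one_mul])⟩, e⟩
  have h3 : {w | (tr (Vb.of 1)).m w = w}.ncard ≤ 4096 := by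
    rw [← Vb.card_eq, ← Set.ncard_univ]; exact Set.ncard_le_ncard (Set.subset_univ _) (Set.toFinite _)
  have h4 : Nat.card ↥(X ⊓ centralizer {lin (tr (Vb.of 1))}) ≤ 2661120 := by
    rw [← card_X]; exact card_le_of_le inf_le_left
  have h5 := (Nat.mul_le_mul_left _ h2).trans (h1.trans (Nat.mul_le_mul h3 h4))
  exact Nat.le_of_mul_le_mul_right (c := 2016) (h5.trans (by decide)) (by decide)

theorem ze_4A : zeOK (ctr 1) 1 2 = true := by decide +kernel

theorem ch_6A : CH cw3 1330560 := by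
  refine ⟨inS_cw3.mono X_le_Hb, ?_⟩
  rw [← H80.J4.card_X0]
  exact card_le_of_le fun a ha =>
    (H80.J4.mem_X0_iff ha.1).2 (mem_centralizer_singleton_iff.1 ha.2)

theorem zo_6A : zoOK cw3 3 = true := by decide +kernel

theorem nc_4A : ∀ a ∈ Hb, a * ofC (ctr 1) * a⁻¹ ≠ ofC b4B :=
  not_conj_cyc ch_4A.1 ch_4B.1 (by decide +kernel)

theorem nc_6A : ∀ a ∈ Hb, a * ofC cw3 * a⁻¹ ≠ ofC b6B :=
  not_conj_cyc ch_6A.1 ch_6B.1 (by decide +kernel)

variable {G : Type*} [Group G] [Finite G] (S : Setup G)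

theorem exists_ord {r : ℕ} (hr : r.Prime) {K : Subgroup G} (h : r ∣ Nat.card K) :
    ∃ x ∈ K, orderOf x = r := by
  have := Fact.mk hr
  obtain ⟨x, hx⟩ := exists_prime_orderOf_dvd_card' (G := K) r h
  exact ⟨x, x.2, by rw [orderOf_coe, hx]⟩

include S

theorem exists_ord' {r : ℕ} (hr : r.Prime) (h : r ∣ 86775571046077562880) :
    ∃ x : G, orderOf x = r :=
  let ⟨x, _, hx⟩ := exists_ord hr (K := (⊤ : Subgroup G)) (by rwa [card_top, S.card_G]); ⟨x, hx⟩

theorem seven {x : G} {k : ℕ} (hk : 0 < k) (h : orderOf x = 7 * k) :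
    ¬ IsConj (x ^ k) (x ^ k)⁻¹ := by
  have h1 : orderOf (x ^ k) = 7 := by
    rw [orderOf_pow' _ hk.ne', h, Nat.gcd_mul_left_left, Nat.mul_div_cancel _ hk]
  generalize x ^ k = y at h1
  obtain ⟨e, m, h2, h3, h4, h5⟩ := exists_e (by decide) h1 (by rw [S.card_G]; decide)
  rw [S.card_G, S.card_cent_seven h1] at h5
  have h6 : e = 3 := by
    have h7 : e ≤ 6 := Nat.le_of_dvd (by decide) h2
    have h8 : m % 7 = 1 := h3
    interval_cases e <;> omega
  intro hc
  have h9 : y⁻¹ = y ^ 6 := by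
    rw [inv_eq_iff_mul_eq_one, ← pow_succ']; exact orderOf_dvd_iff_pow_eq_one.1 (by rw [h1])
  rw [h9, ← pow_one y, ← pow_mul] at hc
  have := pow_conj (by decide) h1 h4 (by decide) hc
  rw [h6] at this
  exact absurd this (by decide)

theorem card_35 {x : G} (h : orderOf x = 35) : Nat.card (centralizer ({x} : Set G)) ≤ 35 := by
  have h1 : orderOf (x ^ 5) = 7 := by rw [orderOf_pow' _ (by decide), h]; decide
  have h2 : Nat.card (centralizer ({x} : Set G)) ∣ 840 := by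
    rw [← S.card_cent_seven h1]
    exact card_dvd_of_le fun g hg => mem_centralizer_singleton_iff.2
      ((show Commute g x from mem_centralizer_singleton_iff.1 hg).pow_right 5)
  have h3 : ¬ 2 ∣ Nat.card (centralizer ({x} : Set G)) := fun hd => by
    obtain ⟨y, hy, oy⟩ := exists_ord (by decide) hd
    rcases two' (S := S) oy with e | e
    · exact not35_of_conj (fun _ => not35_H) le_rfl e (mem_centralizer_singleton_iff.1 hy) h
    · exact not35_of_conj (fun _ => not35_N) cent_t_le e (mem_centralizer_singleton_iff.1 hy) h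
  have h4 : ¬ 3 ∣ Nat.card (centralizer ({x} : Set G)) := fun hd => by
    obtain ⟨y, hy, oy⟩ := exists_ord (by decide) hd
    exact not35_of_conj (fun _ => not35_H) H80.J4.cent_p_le (H80.J4.conj_three (S := S) oy)
      (mem_centralizer_singleton_iff.1 hy) h
  have h5 : (Nat.card (centralizer ({x} : Set G))).Coprime (2 ^ 3 * 3) :=
    Nat.Coprime.mul_right (Nat.Coprime.pow_right _
      ((Nat.Prime.coprime_iff_not_dvd (by decide)).2 h3).symm)
      ((Nat.Prime.coprime_iff_not_dvd (by decide)).2 h4).symm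
  exact Nat.le_of_dvd (by decide) (h5.dvd_of_dvd_mul_left (show _ ∣ 2 ^ 3 * 3 * 35 from h2))

theorem exists_35 : ∃ x : G, orderOf x = 35 := by
  obtain ⟨s, hs⟩ := exists_ord' S (r := 7) (by decide) (by decide)
  obtain ⟨d, hd, od⟩ := exists_ord (r := 5) (by decide) (K := centralizer {s})
    (by rw [S.card_cent_seven hs]; decide)
  refine ⟨d * s, ?_⟩
  rw [(show Commute d s from mem_centralizer_singleton_iff.1 hd).orderOf_mul_eq_mul_orderOf_of_coprime
    (by rw [od, hs]; decide), od, hs]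

omit S in
theorem of_sylow {r e : ℕ} [Fact r.Prime] (h2 : ¬ r ^ 2 ∣ Nat.card G)
    (h : ∀ U : Sylow r G, centralizer ((U : Subgroup G) : Set G) = (U : Subgroup G) ∧
      Nat.card (normalizer ((U : Subgroup G) : Set G)) = r * e) {x : G} (hx : orderOf x = r) :
    Nat.card (centralizer ({x} : Set G)) = r ∧ Nat.card (normalizer (zpowers x : Set G)) =
      e * Nat.card (centralizer ({x} : Set G)) := by
  obtain ⟨U, hU⟩ := exists_sylow hx h2
  obtain ⟨h3, h4⟩ := h U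
  rw [hU] at h3 h4
  rw [← cent_zpowers, h3, Nat.card_zpowers, hx, h4, mul_comm]
  exact ⟨rfl, rfl⟩

theorem blk_big {r e : ℕ} [hr : Fact r.Prime] (h1 : r ∣ 86775571046077562880)
    (h2 : ¬ r ^ 2 ∣ 86775571046077562880)
    (h : ∀ U : Sylow r G, centralizer ((U : Subgroup G) : Set G) = (U : Subgroup G) ∧
      Nat.card (normalizer ((U : Subgroup G) : Set G)) = r * e) (is : List ℕ)
    (h3 : ∀ i ∈ is, ¬ r ∣ i) (h4 : is.Pairwise fun i j => i ^ e % r ≠ j ^ e % r) :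
    Blk (fun _ : G => True) r (is.map fun _ => r) := by
  obtain ⟨x, hx⟩ := exists_ord' S hr.1 h1
  rw [← S.card_G] at h2
  exact blk_pow hr.1 hx (of_sylow h2 h hx).2 (fun y hy => (of_sylow h2 h hy).1.le) is h3 h4

omit [Finite G] in
theorem blk_zt {k : ℕ} {cs ds : List ℕ} (h1 : Blk (fun x => x ^ k = S.z) (2 * k) cs)
    (h2 : Blk (fun x => x ^ k = S.t) (2 * k) ds) : Blk (fun _ : G => True) (2 * k) (cs ++ ds) :=
  h1.append h2 not_conj_ZT (fun _ _ => trivial) fun _ _ => trivial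

theorem blk_t {n k c : ℕ} (hn : CN n c ∧ ofC n ^ k = tN) (h : ordOK n k = true) :
    Blk (fun x => x ^ k = S.t) (2 * k) [c] :=
  let ⟨_, h1, _, h2, h3⟩ := exists_t S hn h; Blk.one h1 h2 h3

theorem blk_t7 {n k j c : ℕ} (hn : CN n c ∧ ofC n ^ k = tN) (h : ordOK n k = true) (hj : 0 < j)
    (e : 2 * k = 7 * j) : Blk (fun x => x ^ k = S.t) (2 * k) [c, c] :=
  let ⟨_, h1, h1', h2, h3⟩ := exists_t S hn h
  Blk.pm h1 h1' h2 h3 (seven S hj (h2.trans e))

omit [Finite G] in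
theorem blk_z1 {b : AG} {n c : ℕ} (h : ∃ x, ZR S.toSetup1 x b n c) :
    Blk (fun x => x ^ n = S.z) (2 * n) [c] :=
  let ⟨_, h⟩ := h; Blk.one h.pow h.ord h.card

omit [Finite G] in
theorem blk_z2 {b b' : AG} {n c c' : ℕ} (h : ∃ x, ZR S.toSetup1 x b n c)
    (h' : ∃ x, ZR S.toSetup1 x b' n c') (hb : ∀ a ∈ Hb, a * b * a⁻¹ ≠ b') :
    Blk (fun x => x ^ n = S.z) (2 * n) [c, c'] :=
  let ⟨_, h⟩ := h; let ⟨_, h'⟩ := h'
  Blk.two h.pow h'.pow h.ord h'.ord h.card h'.card (h.not_conj h' hb)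

theorem blk_z7 {b : AG} {n c j : ℕ} (h : ∃ x, ZR S.toSetup1 x b n c) (hj : 0 < j)
    (e : 2 * n = 7 * j) : Blk (fun x => x ^ n = S.z) (2 * n) [c, c] :=
  let ⟨_, h⟩ := h; Blk.pm h.pow h.inv_pow h.ord h.card (seven S hj (h.ord.trans e))

omit [Finite G] in
theorem blk_8 : Blk (fun _ : G => True) 8 [1280, 768, 512] := by
  obtain ⟨x, hx⟩ := exists_ze S ch_8A _ ze_8A
  obtain ⟨y, hy⟩ := exists_ze S ch_8B _ ze_8B
  obtain ⟨w, hw⟩ := exists_ze S ch_8C _ ze_8C
  refine Blk.append (P := (· = x)) (Q := fun u => u = y ∨ u = w) (Blk.one rfl hx.ord hx.card)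
    (Blk.two (Or.inl rfl) (Or.inr rfl) hy.ord hw.ord hy.card hw.card (hy.not_conj hw nc_8B_8C))
    ?_ (fun _ _ => trivial) fun _ _ => trivial
  rintro _ _ rfl (rfl | rfl)
  exacts [hx.not_conj hy nc_8A_8B, hx.not_conj hw nc_8A_8C]

/-- orders of elements and orders of centralisers -/
def tab : List (ℕ × List ℕ) := [(1, [86775571046077562880]), (2, [21799895040, 1816657920]),
  (3, [2661120]), (4, [5406720, 98304, 43008]), (5, [6720]), (6, [2661120, 2304, 2304]),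
  (7, [840, 840]), (8, [1280, 768, 512]), (10, [960, 80]), (11, [31944, 242]), (12, [192, 192, 48]),
  (14, [84, 84, 56, 56]), (15, [30]), (16, [32]), (20, [160, 160]), (21, [42, 42]), (22, [264, 22]),
  (23, [23]), (24, [48, 48]), (28, [28, 28]), (29, [29]), (30, [30]), (31, [31, 31, 31]),
  (33, [66, 66]), (35, [35, 35]), (37, [37, 37, 37]), (40, [40, 40]), (42, [42, 42]),
  (43, [43, 43, 43]), (44, [44]), (66, [66, 66])]

theorem card_classes (h23 : Blk (fun _ : G => True) 23 [23]) (h29 : Blk (fun _ : G => True) 29 [29])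
    (h31 : Blk (fun _ : G => True) 31 [31, 31, 31]) (h37 : Blk (fun _ : G => True) 37 [37, 37, 37])
    (h43 : Blk (fun _ : G => True) 43 [43, 43, 43]) : Nat.card (ConjClasses G) = 62 := by
  refine card_conjClasses tab ?_ (by decide) S.card_G (by decide +kernel) (by decide +kernel)
  simp only [tab, List.forall_mem_cons]
  have zo := fun {b n c : ℕ} (hb : CH b c) (h : zoOK b n = true) => exists_zo S.toSetup1 hb h
  refine ⟨?_, ?_, ?_, ?_, ?_, ?_, ?_, blk_8 S, ?_, ?_, ?_, ?_, ?_, ?_, ?_, ?_, ?_, h23, ?_, ?_, h29,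
    ?_, h31, ?_, ?_, h37, ?_, ?_, h43, ?_, ?_, by simp⟩
  · exact Blk.one (x := 1) trivial orderOf_one (by
      rw [← S.card_G]; exact card_le_card_group _)
  · exact blk_zt S (k := 1) (Blk.one (pow_one _) S.ord_z H80.J4.card_H.le) (blk_t S cn_2B to_2B)
  · exact Blk.one trivial S.ord_p (by rw [H80.J4.cent_p_eq, H80.J4.card_pre_X0])
  · exact blk_zt S (k := 2) (blk_z2 S (exists_ze S ch_4A _ ze_4A) (exists_ze S ch_4B _ ze_4B) nc_4A)
      (blk_t S cn_4C to_4C)
  · obtain ⟨x, hx⟩ := exists_ord' S (r := 5) (by decide) (by decide)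
    exact Blk.one trivial hx (S.card_cent_five hx).le
  · exact blk_zt S (k := 3) (blk_z2 S (zo ch_6A zo_6A) (zo ch_6B zo_6B) nc_6A) (blk_t S cn_6C to_6C)
  · obtain ⟨x, hx⟩ := exists_ord' S (r := 7) (by decide) (by decide)
    exact Blk.pm trivial trivial hx (S.card_cent_seven hx).le (seven S (k := 1) (by decide) hx)
  · exact blk_zt S (k := 5) (blk_z1 S (zo ch_10A zo_10A)) (blk_t S cn_10B to_10B)
  · obtain ⟨x, y, h1, h2, h3, h4⟩ := S.exists_eleven
    refine Blk.two trivial trivial h1 h2 h3.le h4.le fun e => ?_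
    obtain ⟨g, rfl⟩ := isConj_iff.1 e
    have := card_centralizer_conj (K := ⊤) (mem_top g) x
    rw [top_inf_eq, top_inf_eq, h3, h4] at this
    exact absurd this (by decide)
  · exact blk_zt S (k := 6) (blk_z2 S (exists_ze S ch_12A _ ze_12A) (exists_ze S ch_12B _ ze_12B)
      nc_12A_12B) (blk_t S cn_12C to_12C)
  · exact blk_zt S (k := 7) (blk_z7 S (zo ch_14A zo_14A) (j := 2) (by decide) rfl)
      (blk_t7 S cn_14C to_14C (j := 2) (by decide) rfl)
  · obtain ⟨x, hx⟩ := zo ch_30A zo_30A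
    obtain ⟨h1, h2, -⟩ := hx.sq (k := 5) ch_30A.1 p_30A
    exact Blk.one trivial h1 h2
  · exact (blk_z1 S (exists_ze S ch_16A _ ze_16A)).true
  · exact (blk_z2 S (exists_ze S ch_20A _ ze_20A) (exists_ze S ch_20B _ ze_20B) nc_20A).true
  · obtain ⟨x, hx⟩ := zo ch_42A zo_42A
    obtain ⟨h1, h2, -⟩ := hx.sq (k := 7) ch_42A.1 p_42A
    exact Blk.pm trivial trivial h1 h2 (seven S (k := 3) (by decide) h1)
  · exact blk_zt S (k := 11) (blk_z1 S (zo ch_22A zo_22A)) (blk_t S cn_22B to_22B)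
  · exact (blk_z2 S (exists_ze S ch_24A _ ze_24A) (exists_ze S ch_24B _ ze_24B) nc_24A).true
  · exact (blk_t7 S cn_28A to_28A (j := 4) (by decide) rfl).true
  · exact (blk_z1 S (zo ch_30A zo_30A)).true
  · obtain ⟨x, hx⟩ := zo ch_66A zo_66A
    obtain ⟨y, hy⟩ := zo ch_66B zo_66B
    obtain ⟨h1, h2, -⟩ := hx.sq (k := 11) ch_66A.1 p_66A
    obtain ⟨h3, h4, -⟩ := hy.sq (k := 11) ch_66B.1 p_66B
    exact Blk.two trivial trivial h1 h3 h2 h4
      (hx.not_conj_sq (k := 11) ch_66A.1 ch_66B.1 hy p_66A p_66B nc_66A)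
  · obtain ⟨x, hx⟩ := exists_35 S
    exact Blk.pm trivial trivial hx (card_35 S hx) (seven S (k := 5) (by decide) hx)
  · exact (blk_z2 S (exists_ze S ch_40A _ ze_40A) (exists_ze S ch_40B _ ze_40B) nc_40A).true
  · exact (blk_z7 S (zo ch_42A zo_42A) (j := 6) (by decide) rfl).true
  · exact (blk_z1 S (exists_ze S ch_44A _ ze_44A)).true
  · exact (blk_z2 S (zo ch_66A zo_66A) (zo ch_66B zo_66B) nc_66A).true

end Cfsg.Agent.SGJ4.Cls
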